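import Cfsg.Agent.HePres.Order
import Cfsg.Agent.HePres.SemiData
import Cfsg.Agent.PrimeGraph.FieldFour
import Cfsg.Agent.S0245
import Cfsg.Agent.S0246
import Cfsg.Agent.S0270

/-!
The point stabiliser of the presented Held group is the symplectic group of dimension four over the field of four
elements extended by the field automorphism.
-/

set_option autoImplicit false

namespace Cfsg.Lib.HePres

open Cfsg.Lib.CosetCert Cfsg.Lib.PermCert
open Matrix

/-- The local order of the seven letters. -/
def lamS : List ℕ := [0, 2, 3, 4, 7, 8, 5]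

/-- The relators of the stabiliser in local letters. -/
def relsS : List (List ℕ) := C5.rels ++ C4.rels.map (List.map (sel [0, 1, 2, 3, 6])) ++ C2.rels

/-- A local word in the free group. -/
def freeS (w : List ℕ) : FreeGroup (Fin 7) := (w.map fun l => FreeGroup.of (Fin.ofNat 7 l)).prod

/-- The presented stabiliser. -/
abbrev P7 := PresentedGroup {r : FreeGroup (Fin 7) | ∃ w ∈ relsS, r = freeS w}

/-- Its letters. -/
def im7 (n : ℕ) : P7 := PresentedGroup.of (Fin.ofNat 7 n)

theorem im7_rel {w : List ℕ} (hw : w ∈ relsS) : wval im7 w = 1 := by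
  have : wval im7 w = PresentedGroup.mk {r : FreeGroup (Fin 7) | ∃ w ∈ relsS, r = freeS w} (freeS w) := by
    rw [freeS, map_list_prod, List.map_map]
    rfl
  rw [this]
  exact PresentedGroup.one_of_mem ⟨w, hw, rfl⟩

theorem relsS_lt : (relsS.all fun r => r.all fun l => decide (l < 7)) = true ∧
    ((List.range 7).all fun l => relsS.contains [l, l]) = true := by decide +kernel

theorem im7_sq {l : ℕ} (hl : l < 7) : im7 l * im7 l = 1 := by
  have := im7_rel (List.contains_iff_mem.1 (List.all_eq_true.1 relsS_lt.2 l (List.mem_range.2 hl)))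
  simpa [wval] using this

theorem stepS {C : Cert} {R : List (List ℕ)} (hC : C.Valid R) (Λ : List ℕ) (hng : C.ng = Λ.length)
    (hR : ∀ r ∈ R, r.map (sel Λ) ∈ relsS) (hlet : (R.all fun r => r.all fun l => decide (l < Λ.length)) = true)
    (hΛ : ∀ l < Λ.length, sel Λ l < 7) {K : Subgroup P7} [Finite K] (hsub : ∀ s ∈ C.subs, im7 (sel Λ s) ∈ K) :
    Finite (Subgroup.closure ((fun n => im7 (sel Λ n)) '' Set.Iio C.ng)) ∧
      Nat.card (Subgroup.closure ((fun n => im7 (sel Λ n)) '' Set.Iio C.ng)) ≤ C.fin.length * Nat.card K :=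
  card_le C (fun n => im7 (sel Λ n)) hC (fun l hl => im7_sq (hΛ l (hng ▸ hl)))
    (fun r hr => by
      have := im7_rel (hR r hr)
      rwa [wval, List.map_map] at this)
    (fun r hr l hl => im7_sq (hΛ l (decide_eq_true_eq.mp (List.all_eq_true.1 (List.all_eq_true.1 hlet r hr) l hl))))
    hsub le_rfl

theorem maps_ok : (C2.rels.all fun r => relsS.contains (r.map (sel [0, 1, 2, 3]))) = true ∧
    (C4.rels.all fun r => relsS.contains (r.map (sel [0, 1, 2, 3, 6]))) = true ∧
    (C5.rels.all fun r => relsS.contains (r.map (sel [0, 1, 2, 3, 4, 5, 6]))) = true := by decide +kernel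

theorem finite_P7 : Finite P7 ∧ Nat.card P7 ≤ 1958400 := by
  have mem : ∀ {R : List (List ℕ)} {Λ : List ℕ}, (R.all fun r => relsS.contains (r.map (sel Λ))) = true →
      ∀ r ∈ R, r.map (sel Λ) ∈ relsS := fun h r hr => List.contains_iff_mem.1 (List.all_eq_true.1 h r hr)
  obtain ⟨f1, c1⟩ := stepS C2.valid [0, 1, 2, 3] rfl (mem maps_ok.1) rels2.2.1 (by decide) (K := ⊥)
    (by simp [C2.cert])
  rw [C2.fins_length, Subgroup.card_bot] at c1
  haveI := f1
  obtain ⟨f2, c2⟩ := stepS C4.valid [0, 1, 2, 3, 6] rfl (mem maps_ok.2.1) rels4.2.1 (by decide)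
    (K := Subgroup.closure ((fun n => im7 (sel [0, 1, 2, 3] n)) '' Set.Iio C2.cert.ng)) (fun s hs => by
      simp only [C4.cert, List.mem_cons, List.mem_nil_iff, or_false] at hs
      refine Subgroup.subset_closure ⟨s, ?_, ?_⟩
      · simp only [C2.cert, Set.mem_Iio]; omega
      · rcases hs with rfl | rfl | rfl | rfl <;> rfl)
  rw [C4.fins_length] at c2
  haveI := f2
  obtain ⟨f3, c3⟩ := stepS C5.valid [0, 1, 2, 3, 4, 5, 6] rfl (mem maps_ok.2.2) rels5.2.1 (by decide)
    (K := Subgroup.closure ((fun n => im7 (sel [0, 1, 2, 3, 6] n)) '' Set.Iio C4.cert.ng)) (fun s hs => by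
      simp only [C5.cert, List.mem_cons, List.mem_nil_iff, or_false] at hs
      rcases hs with rfl | rfl | rfl | rfl | rfl
      exacts [Subgroup.subset_closure ⟨0, by simp [C4.cert], rfl⟩, Subgroup.subset_closure ⟨1, by simp [C4.cert], rfl⟩,
        Subgroup.subset_closure ⟨2, by simp [C4.cert], rfl⟩, Subgroup.subset_closure ⟨3, by simp [C4.cert], rfl⟩,
        Subgroup.subset_closure ⟨4, by simp [C4.cert], rfl⟩])
  rw [C5.fins_length] at c3
  have htop : Subgroup.closure ((fun n => im7 (sel [0, 1, 2, 3, 4, 5, 6] n)) '' Set.Iio C5.cert.ng) = ⊤ := by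
    refine top_le_iff.1 ?_
    rw [← PresentedGroup.closure_range_of]
    refine Subgroup.closure_mono ?_
    rintro _ ⟨x, rfl⟩
    refine ⟨x.val, x.isLt, ?_⟩
    have : sel [0, 1, 2, 3, 4, 5, 6] x.val = x.val := by revert x; decide
    show im7 (sel _ x.val) = _
    rw [this]
    exact congrArg PresentedGroup.of (Fin.ext (Nat.mod_eq_of_lt x.isLt))
  rw [htop, Subgroup.card_top] at c3
  rw [htop] at f3
  haveI := f3
  exact ⟨Finite.of_equiv _ Subgroup.topEquiv.toEquiv, c3.trans (by omega)⟩

/-- A map out of the presented stabiliser. -/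
theorem lift_relsS {G : Type*} [Group G] (f : ℕ → G) (hf : ∀ w ∈ relsS, wval f w = 1) :
    ∀ r ∈ {r : FreeGroup (Fin 7) | ∃ w ∈ relsS, r = freeS w}, FreeGroup.lift (fun x : Fin 7 => f x.val) r = 1 := by
  rintro r ⟨w, hw, rfl⟩
  rw [freeS, map_list_prod, List.map_map]
  refine Eq.trans ?_ (hf w hw)
  refine congrArg List.prod (List.map_congr_left fun l hl => ?_)
  rw [Function.comp_apply, FreeGroup.lift_apply_of]
  have := List.all_eq_true.1 (List.all_eq_true.1 relsS_lt.1 w hw) l hl
  rw [decide_eq_true_eq] at this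
  exact congrArg f (Nat.mod_eq_of_lt this)

/-- The letters inside the stabiliser. -/
def imH (n : ℕ) : stab := if h : sel lamS n ∈ lamH then ⟨im9 (sel lamS n), gp_mem h⟩ else 1

theorem sel_lamS : ∀ n : Fin 7, sel lamS n.val ∈ lamH := by decide

theorem relsS_he : (relsS.all fun r => ok2 (r.map (sel lamS))) = true := by decide +kernel

theorem imH_rel : ∀ w ∈ relsS, wval imH w = 1 := fun w hw => by
  refine Subtype.ext ?_
  rw [wval, SubmonoidClass.coe_list_prod, List.map_map]
  have h := ok2_sound (List.all_eq_true.1 relsS_he w hw)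
  rw [wval, List.map_map] at h
  refine Eq.trans ?_ h
  refine congrArg List.prod (List.map_congr_left fun l hl => ?_)
  have hl7 : l < 7 := decide_eq_true_eq.mp (List.all_eq_true.1 (List.all_eq_true.1 relsS_lt.1 w hw) l hl)
  simp [imH, dif_pos (sel_lamS ⟨l, hl7⟩)]

/-- The map to the stabiliser. -/
def toStab : P7 →* stab := PresentedGroup.toGroup (lift_relsS imH imH_rel)

theorem toStab_bijective : Function.Bijective toStab := by
  haveI := finite_P7.1
  haveI := bound_stab.1
  have hs : Function.Surjective toStab := by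
    intro x
    have h : stab ≤ (toStab.range).map stab.subtype := by
      refine (Subgroup.closure_le _).2 ?_
      rintro _ ⟨l, hl, rfl⟩
      have : ∀ l ∈ lamH, ∃ n : Fin 7, sel lamS n.val = l := by decide
      obtain ⟨n, hn⟩ := this l hl
      refine ⟨imH n.val, ⟨PresentedGroup.of n, PresentedGroup.toGroup.of _⟩, ?_⟩
      subst hn
      simp [imH, dif_pos (sel_lamS n)]
    obtain ⟨y, ⟨p, hp⟩, e⟩ := h x.2
    exact ⟨p, hp.trans (Subtype.ext e)⟩
  refine (Nat.bijective_iff_surjective_and_card _).2 ⟨hs, le_antisymm ?_ (Nat.card_le_card_of_surjective _ hs)⟩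
  rw [card_stab]
  exact finite_P7.2

theorem semiTabs_valid : (List.range 7).all (fun l => valid 256 (semiTabs.getD l (0, 0))) = true := by decide +kernel

/-- The permutations of the vectors. -/
def semiPerm (n : ℕ) : Equiv.Perm (Fin 256) := perm 256 (semiTabs.getD n (0, 0))

theorem semi_rels : (relsS.all fun w => isId 256 (w.map fun l => semiTabs.getD l (0, 0))) = true := by decide +kernel

theorem semiPerm_rel : ∀ w ∈ relsS, wval semiPerm w = 1 := fun w hw => by
  have h := isId_sound (w := w.map fun l => semiTabs.getD l (0, 0)) (fun g hg => by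
    obtain ⟨l, hl, rfl⟩ := List.mem_map.1 hg
    exact List.all_eq_true.1 semiTabs_valid l (List.mem_range.2
      (decide_eq_true_eq.mp (List.all_eq_true.1 (List.all_eq_true.1 relsS_lt.1 w hw) l hl))))
    (List.all_eq_true.1 semi_rels w hw)
  rw [wperm, List.map_map] at h
  exact h

/-- The action on the vectors. -/
def toPerm : P7 →* Equiv.Perm (Fin 256) := PresentedGroup.toGroup (lift_relsS semiPerm semiPerm_rel)

theorem toPerm_im7 {l : ℕ} (hl : l < 7) : toPerm (im7 l) = semiPerm l := by
  rw [toPerm, im7, PresentedGroup.toGroup.of]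
  exact congrArg semiPerm (Nat.mod_eq_of_lt hl)

theorem chainT_ok : chainOK semiTabs 256 7 chainT = true ∧ chainSize chainT = 1958400 := by decide +kernel

theorem card_range_toPerm : Nat.card toPerm.range = 1958400 ∧ Function.Injective toPerm := by
  haveI := finite_P7.1
  have h1 : 1958400 ≤ Nat.card toPerm.range := chainT_ok.2 ▸
    chain_bound (fun n => toPerm (im7 n)) (MonoidHom.id _) semiTabs (fun l hl => by
      have h7 : l < 7 := hl
      exact ⟨List.all_eq_true.1 semiTabs_valid l (List.mem_range.2 h7), toPerm_im7 h7⟩) chainT toPerm.range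
      chainT_ok.1 inferInstance (fun K _ w _ => ⟨_, hom_wval toPerm im7 w⟩)
  have h2 := Nat.card_le_card_of_surjective toPerm.rangeRestrict toPerm.rangeRestrict_surjective
  have h3 := finite_P7.2
  have hb : Function.Bijective toPerm.rangeRestrict :=
    (Nat.bijective_iff_surjective_and_card _).2 ⟨toPerm.rangeRestrict_surjective, by omega⟩
  exact ⟨by omega, fun a b e => hb.1 (Subtype.ext e)⟩

open Cfsg.Lib.PrimeGraph

/-- The symplectic group. -/
abbrev Sp44 := ↥(Matrix.symplecticGroup (Fin 2) KQuad)

/-- The field automorphism. -/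
def frobK : KQuad →+* KQuad where
  toFun a := a * a
  map_one' := mul_one 1
  map_mul' a b := mul_mul_mul_comm a b a b
  map_zero' := mul_zero 0
  map_add' := by simp only [KQuad.forall_iff]; decide +kernel

theorem frobK_sq : ∀ a, frobK (frobK a) = a := by simp only [KQuad.forall_iff]; decide +kernel

theorem frob_mem (A : Sp44) : (A.val.map frobK) ∈ Matrix.symplecticGroup (Fin 2) KQuad := by
  have h := SymplecticGroup.mem_iff.1 A.2
  rw [SymplecticGroup.mem_iff]
  have hJ : (Matrix.J (Fin 2) KQuad).map frobK = Matrix.J (Fin 2) KQuad := by decide +kernel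
  conv_lhs => rw [← hJ]
  rw [← Matrix.transpose_map, ← Matrix.map_mul, ← Matrix.map_mul, h, hJ]

/-- The automorphism of the symplectic group. -/
def frobSp : MulAut Sp44 where
  toFun A := ⟨A.val.map frobK, frob_mem A⟩
  invFun A := ⟨A.val.map frobK, frob_mem A⟩
  left_inv A := Subtype.ext (Matrix.ext fun i j => frobK_sq _)
  right_inv A := Subtype.ext (Matrix.ext fun i j => frobK_sq _)
  map_mul' A B := Subtype.ext (Matrix.map_mul (f := frobK))

/-- The group of order two acting. -/
def frobHom : Multiplicative (ZMod 2) →* MulAut Sp44 where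
  toFun b := if b = 1 then 1 else frobSp
  map_one' := if_pos rfl
  map_mul' a b := by
    have hsq : frobSp * frobSp = 1 := MulEquiv.ext fun A => Subtype.ext (Matrix.ext fun i j => frobK_sq _)
    have hb : ∀ x : Multiplicative (ZMod 2), x = 1 ∨ x = Multiplicative.ofAdd 1 := by decide
    have hn : Multiplicative.ofAdd (1 : ZMod 2) ≠ 1 := by decide
    have hm : Multiplicative.ofAdd (1 : ZMod 2) * Multiplicative.ofAdd 1 = 1 := by decide
    rcases hb a with rfl | rfl <;> rcases hb b with rfl | rfl <;> simp [hn, hm, hsq]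

/-- The semilinear group. -/
abbrev Semi := SemidirectProduct Sp44 (Multiplicative (ZMod 2)) frobHom

/-- The four coordinates. -/
abbrev Vec := Fin 2 ⊕ Fin 2 → KQuad

/-- Numbering of the vectors. -/
def vecEquiv : Vec ≃ Fin 256 :=
  ((finSumFinEquiv (m := 2) (n := 2)).arrowCongr KQuad.equivFin).trans finFunctionFinEquiv

/-- The linear action. -/
def linPerm : Sp44 →* Equiv.Perm (Fin 256) where
  toFun A := vecEquiv.permCongr
    { toFun := fun v => A.val *ᵥ v
      invFun := fun v => (A⁻¹ : Sp44).val *ᵥ v
      left_inv := fun v => by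
        show (A⁻¹ : Sp44).val *ᵥ (A.val *ᵥ v) = v
        rw [Matrix.mulVec_mulVec, ← Submonoid.coe_mul, inv_mul_cancel, Submonoid.coe_one, Matrix.one_mulVec]
      right_inv := fun v => by
        show A.val *ᵥ ((A⁻¹ : Sp44).val *ᵥ v) = v
        rw [Matrix.mulVec_mulVec, ← Submonoid.coe_mul, mul_inv_cancel, Submonoid.coe_one, Matrix.one_mulVec] }
  map_one' := Equiv.ext fun x => by
    show vecEquiv ((1 : Sp44).val *ᵥ vecEquiv.symm x) = x
    rw [Submonoid.coe_one, Matrix.one_mulVec, Equiv.apply_symm_apply]
  map_mul' A B := Equiv.ext fun x => by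
    show vecEquiv ((A * B : Sp44).val *ᵥ vecEquiv.symm x) =
      vecEquiv (A.val *ᵥ vecEquiv.symm (vecEquiv (B.val *ᵥ vecEquiv.symm x)))
    rw [Equiv.symm_apply_apply, Matrix.mulVec_mulVec, Submonoid.coe_mul]

/-- The field automorphism on vectors. -/
def frobVec : Equiv.Perm (Fin 256) :=
  vecEquiv.permCongr
    { toFun := fun v i => frobK (v i)
      invFun := fun v i => frobK (v i)
      left_inv := fun v => funext fun i => frobK_sq _
      right_inv := fun v => funext fun i => frobK_sq _ }

theorem frobVec_sq : frobVec * frobVec = 1 := Equiv.ext fun x => by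
  rw [Equiv.Perm.mul_apply]
  simp [frobVec, Equiv.permCongr_apply, frobK_sq]

/-- The group of order two on vectors. -/
def frobPerm : Multiplicative (ZMod 2) →* Equiv.Perm (Fin 256) where
  toFun b := if b = 1 then 1 else frobVec
  map_one' := if_pos rfl
  map_mul' a b := by
    have hb : ∀ x : Multiplicative (ZMod 2), x = 1 ∨ x = Multiplicative.ofAdd 1 := by decide
    have hn : Multiplicative.ofAdd (1 : ZMod 2) ≠ 1 := by decide
    have hm : Multiplicative.ofAdd (1 : ZMod 2) * Multiplicative.ofAdd 1 = 1 := by decide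
    rcases hb a with rfl | rfl <;> rcases hb b with rfl | rfl <;> simp [hn, hm, frobVec_sq]

theorem conj_frob (A : Sp44) : linPerm (frobSp A) = frobVec * linPerm A * frobVec := Equiv.ext fun x => by
  show vecEquiv ((A.val.map frobK) *ᵥ vecEquiv.symm x) = _
  simp only [Equiv.Perm.mul_apply, frobVec, linPerm, MonoidHom.coe_mk, OneHom.coe_mk, Equiv.permCongr_apply,
    Equiv.symm_apply_apply, Equiv.coe_fn_mk]
  refine congrArg vecEquiv (funext fun i => ?_)
  rw [RingHom.map_mulVec]
  simp [frobK_sq, Function.comp_def]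

/-- The semilinear action. -/
def semiAct : Semi →* Equiv.Perm (Fin 256) :=
  SemidirectProduct.lift linPerm frobPerm fun g => by
    have hb : ∀ x : Multiplicative (ZMod 2), x = 1 ∨ x = Multiplicative.ofAdd 1 := by decide
    have hn : Multiplicative.ofAdd (1 : ZMod 2) ≠ 1 := by decide
    refine MonoidHom.ext fun A => ?_
    rcases hb g with rfl | rfl
    · simp
    · show linPerm (frobHom (Multiplicative.ofAdd 1) A) =
        frobPerm (Multiplicative.ofAdd 1) * linPerm A * (frobPerm (Multiplicative.ofAdd 1))⁻¹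
      simp only [frobHom, frobPerm, MonoidHom.coe_mk, OneHom.coe_mk, if_neg hn,
        inv_eq_of_mul_eq_one_left frobVec_sq]
      exact conj_frob A

/-- The matrix of a generator. -/
def genMat (l : ℕ) : Matrix (Fin 2 ⊕ Fin 2) (Fin 2 ⊕ Fin 2) KQuad :=
  Matrix.of fun i j => KQuad.ofCode ((semiMats.getD l []).getD (4 * (finSumFinEquiv i).val + (finSumFinEquiv j).val) 0)

theorem genMat_mem : ∀ l : Fin 7, genMat l.val * Matrix.J (Fin 2) KQuad * (genMat l.val)ᵀ = Matrix.J (Fin 2) KQuad := by
  decide +kernel

/-- A generator in the semilinear group. -/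
def genSemi (l : Fin 7) : Semi :=
  ⟨⟨genMat l.val, SymplecticGroup.mem_iff.2 (genMat_mem l)⟩,
    if semiOdds.getD l.val false then Multiplicative.ofAdd 1 else 1⟩

theorem genSemi_tables : ∀ (l : Fin 7) (x : Fin 256),
    (semiAct (genSemi l) x).val = ap (semiTabs.getD l.val (0, 0)).1 x.val := by decide +kernel

theorem semiAct_gen (l : Fin 7) : semiAct (genSemi l) = semiPerm l.val :=
  Equiv.ext fun x => Fin.ext ((genSemi_tables l x).trans
    (perm_apply (List.all_eq_true.1 semiTabs_valid l.val (List.mem_range.2 l.isLt)) x).symm)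

theorem card_sp : Nat.card Sp44 = 979200 := by
  rw [Cfsg.Agent.S0245.result (F := KQuad) KQuad.card_eq 2]
  norm_num [Finset.prod_range_succ]

theorem card_semi : Nat.card Semi = 1958400 := by
  rw [Nat.card_congr (SemidirectProduct.equivProd (φ := frobHom)), Nat.card_prod, card_sp,
    Nat.card_congr Multiplicative.toAdd, Nat.card_zmod]

theorem range_eq : semiAct.range = toPerm.range ∧ Function.Injective semiAct := by
  haveI : Finite Semi := Nat.finite_of_card_ne_zero (by rw [card_semi]; norm_num)
  have hle : toPerm.range ≤ semiAct.range := by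
    rw [MonoidHom.range_eq_map, ← PresentedGroup.closure_range_of, MonoidHom.map_closure, Subgroup.closure_le]
    rintro _ ⟨_, ⟨x, rfl⟩, rfl⟩
    refine ⟨genSemi x, ?_⟩
    rw [semiAct_gen]
    exact (PresentedGroup.toGroup.of (lift_relsS semiPerm semiPerm_rel) (x := x)).symm
  have h2 := Nat.card_le_card_of_surjective semiAct.rangeRestrict semiAct.rangeRestrict_surjective
  rw [card_semi] at h2
  have heq := Subgroup.eq_of_le_of_card_ge hle (by rw [card_range_toPerm.1]; exact h2)
  refine ⟨heq.symm, ?_⟩
  have hb : Function.Bijective semiAct.rangeRestrict :=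
    (Nat.bijective_iff_surjective_and_card _).2 ⟨semiAct.rangeRestrict_surjective,
      by rw [← heq, card_range_toPerm.1, card_semi]⟩
  exact fun a b e => hb.1 (Subtype.ext e)

/-- The stabiliser is the semilinear group. -/
noncomputable def stabIso : Semi ≃* stab :=
  (MonoidHom.ofInjective range_eq.2).trans <| (MulEquiv.subgroupCongr range_eq.1).trans <|
    (MonoidHom.ofInjective card_range_toPerm.2).symm.trans (MulEquiv.ofBijective toStab toStab_bijective)

/-- The subgroup of index two of the stabiliser. -/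
noncomputable def inner : Subgroup stab :=
  (SemidirectProduct.inl : Sp44 →* Semi).range.map stabIso.toMonoidHom

/-- It is the symplectic group. -/
noncomputable def innerIso : inner ≃* Sp44 :=
  ((MonoidHom.ofInjective SemidirectProduct.inl_injective).trans (stabIso.subgroupMap _)).symm

theorem index_inner : inner.index = 2 := by
  have h := Subgroup.card_mul_index inner
  rw [Nat.card_congr innerIso.toEquiv, card_sp, card_stab] at h
  omega

theorem inner_normal : inner.Normal := Subgroup.normal_of_index_eq_two index_inner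

theorem simple_sp : IsSimpleGroup Sp44 := by
  have hs : IsSimpleGroup (Cfsg.PSp 2 KQuad) :=
    Cfsg.Agent.S0270.result (F := KQuad) 2 le_rfl fun _ => by rw [KQuad.card_eq]; norm_num
  have hc : Nat.card (Subgroup.center Sp44) = 1 := by
    rw [Cfsg.Agent.S0246.result (F := KQuad) KQuad.card_eq 2 (by norm_num)]; norm_num
  have hb : Subgroup.center Sp44 = ⊥ := Subgroup.card_eq_one.1 hc
  have e : Cfsg.PSp 2 KQuad ≃* Sp44 :=
    (QuotientGroup.quotientMulEquivOfEq hb).trans QuotientGroup.quotientBot
  haveI : Nontrivial Sp44 := e.symm.toEquiv.nontrivial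
  exact IsSimpleGroup.isSimpleGroup_of_surjective e.toMonoidHom e.surjective

end Cfsg.Lib.HePres
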