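import Cfsg.Agent.HePres.Order

/-!
The point stabiliser, as printed.
-/

set_option autoImplicit false

namespace Cfsg.Lib.HePres

open Cfsg.Lib.CosetCert

open Cfsg.Spor.He in
theorem printed_eq : (Subgroup.closure ({a, c, d, e, f, (a * b) ^ 2, (b * c * d * e) ^ 7} : Set (FreeGroup Gen))).map
    (PresentedGroup.mk (Cfsg.Spor.coxRelators edges ∪ {r | r ∈ extra})) = stab := by
  rw [MonoidHom.map_closure]
  have e7 : im9 7 = (im 0 * im 1) ^ 2 := by simp [im9, expandL, wval, sq, mul_assoc]
  have e8 : im9 8 = im 0 * (im 1 * im 2 * im 3 * im 4) ^ 7 := by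
    rw [im9, show expandL 8 = 0 :: rpt 7 [1, 2, 3, 4] from rfl, wval_cons, wval_rpt]
    simp [wval, mul_assoc]
  refine le_antisymm ((Subgroup.closure_le _).2 ?_) ((Subgroup.closure_le _).2 ?_)
  · rintro _ ⟨w, hw, rfl⟩
    simp only [Set.mem_insert_iff, Set.mem_singleton_iff] at hw
    rcases hw with rfl | rfl | rfl | rfl | rfl | rfl | rfl
    · show im 0 ∈ stab
      rw [← im9_low (show 0 < 7 by norm_num)]
      exact gp_mem (show 0 ∈ lamH by decide)
    · show im 2 ∈ stab
      rw [← im9_low (show 2 < 7 by norm_num)]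
      exact gp_mem (show 2 ∈ lamH by decide)
    · show im 3 ∈ stab
      rw [← im9_low (show 3 < 7 by norm_num)]
      exact gp_mem (show 3 ∈ lamH by decide)
    · show im 4 ∈ stab
      rw [← im9_low (show 4 < 7 by norm_num)]
      exact gp_mem (show 4 ∈ lamH by decide)
    · show im 5 ∈ stab
      rw [← im9_low (show 5 < 7 by norm_num)]
      exact gp_mem (show 5 ∈ lamH by decide)
    · rw [SetLike.mem_coe, map_pow, map_mul]
      show (im 0 * im 1) ^ 2 ∈ stab
      rw [← e7]
      exact gp_mem (show 7 ∈ lamH by decide)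
    · rw [SetLike.mem_coe, map_pow, map_mul, map_mul, map_mul]
      show (im 1 * im 2 * im 3 * im 4) ^ 7 ∈ stab
      have h := mul_mem (gp_mem (show 0 ∈ lamH by decide)) (gp_mem (show 8 ∈ lamH by decide))
      rw [im9_low (show 0 < 7 by norm_num), e8, ← mul_assoc, good_im.inv (by norm_num), one_mul] at h
      exact h
  · rintro _ ⟨l, hl, rfl⟩
    rw [SetLike.mem_coe]
    simp only [lamH, List.mem_cons, List.mem_nil_iff, or_false] at hl
    rcases hl with rfl | rfl | rfl | rfl | rfl | rfl | rfl
    · exact Subgroup.subset_closure ⟨a, by simp, (im9_low (show 0 < 7 by norm_num)).symm⟩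
    · exact Subgroup.subset_closure ⟨c, by simp, (im9_low (show 2 < 7 by norm_num)).symm⟩
    · exact Subgroup.subset_closure ⟨d, by simp, (im9_low (show 3 < 7 by norm_num)).symm⟩
    · exact Subgroup.subset_closure ⟨e, by simp, (im9_low (show 4 < 7 by norm_num)).symm⟩
    · exact Subgroup.subset_closure ⟨f, by simp, (im9_low (show 5 < 7 by norm_num)).symm⟩
    · refine Subgroup.subset_closure ⟨(a * b) ^ 2, by simp, ?_⟩
      rw [map_pow, map_mul, e7]
      rfl
    · rw [e8]
      refine mul_mem (Subgroup.subset_closure ⟨a, by simp, rfl⟩) (Subgroup.subset_closure ⟨(b * c * d * e) ^ 7, by simp, ?_⟩)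
      rw [map_pow, map_mul, map_mul, map_mul]
      rfl

end Cfsg.Lib.HePres
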