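import Cfsg.Agent.HePres.C5Data

/-!
The certificate is valid.
-/

set_option autoImplicit false

namespace Cfsg.Lib.HePres.C5

open Cfsg.Lib.CosetCert

theorem steps0_ok : cert.stepsOK 0 steps0 = true ∧ ruleBound spec.length steps0 = true := by decide +kernel

theorem steps1_ok : cert.stepsOK 256 steps1 = true ∧ ruleBound spec.length steps1 = true := by decide +kernel

theorem steps2_ok : cert.stepsOK 512 steps2 = true ∧ ruleBound spec.length steps2 = true := by decide +kernel

theorem steps3_ok : cert.stepsOK 768 steps3 = true ∧ ruleBound spec.length steps3 = true := by decide +kernel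

theorem steps4_ok : cert.stepsOK 1024 steps4 = true ∧ ruleBound spec.length steps4 = true := by decide +kernel

theorem steps5_ok : cert.stepsOK 1280 steps5 = true ∧ ruleBound spec.length steps5 = true := by decide +kernel

theorem steps6_ok : cert.stepsOK 1536 steps6 = true ∧ ruleBound spec.length steps6 = true := by decide +kernel

theorem steps7_ok : cert.stepsOK 1792 steps7 = true ∧ ruleBound spec.length steps7 = true := by decide +kernel

theorem steps8_ok : cert.stepsOK 2048 steps8 = true ∧ ruleBound spec.length steps8 = true := by decide +kernel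

theorem steps9_ok : cert.stepsOK 2304 steps9 = true ∧ ruleBound spec.length steps9 = true := by decide +kernel

def cat0_0 : List (ℕ × ℕ) := steps0 ++ steps1

theorem cat0_0_ok : cert.stepsOK 0 cat0_0 = true ∧ ruleBound spec.length cat0_0 = true :=
  stepsOK_cat steps0_ok steps1_ok (by decide +kernel)

def cat0_1 : List (ℕ × ℕ) := steps2 ++ steps3

theorem cat0_1_ok : cert.stepsOK 512 cat0_1 = true ∧ ruleBound spec.length cat0_1 = true :=
  stepsOK_cat steps2_ok steps3_ok (by decide +kernel)

def cat0_2 : List (ℕ × ℕ) := steps4 ++ steps5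

theorem cat0_2_ok : cert.stepsOK 1024 cat0_2 = true ∧ ruleBound spec.length cat0_2 = true :=
  stepsOK_cat steps4_ok steps5_ok (by decide +kernel)

def cat0_3 : List (ℕ × ℕ) := steps6 ++ steps7

theorem cat0_3_ok : cert.stepsOK 1536 cat0_3 = true ∧ ruleBound spec.length cat0_3 = true :=
  stepsOK_cat steps6_ok steps7_ok (by decide +kernel)

def cat0_4 : List (ℕ × ℕ) := steps8 ++ steps9

theorem cat0_4_ok : cert.stepsOK 2048 cat0_4 = true ∧ ruleBound spec.length cat0_4 = true :=
  stepsOK_cat steps8_ok steps9_ok (by decide +kernel)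

def cat1_0 : List (ℕ × ℕ) := cat0_0 ++ cat0_1

theorem cat1_0_ok : cert.stepsOK 0 cat1_0 = true ∧ ruleBound spec.length cat1_0 = true :=
  stepsOK_cat cat0_0_ok cat0_1_ok (by decide +kernel)

def cat1_1 : List (ℕ × ℕ) := cat0_2 ++ cat0_3

theorem cat1_1_ok : cert.stepsOK 1024 cat1_1 = true ∧ ruleBound spec.length cat1_1 = true :=
  stepsOK_cat cat0_2_ok cat0_3_ok (by decide +kernel)

def cat2_0 : List (ℕ × ℕ) := cat1_0 ++ cat1_1

theorem cat2_0_ok : cert.stepsOK 0 cat2_0 = true ∧ ruleBound spec.length cat2_0 = true :=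
  stepsOK_cat cat1_0_ok cat1_1_ok (by decide +kernel)

def cat3_0 : List (ℕ × ℕ) := cat2_0 ++ cat0_4

theorem cat3_0_ok : cert.stepsOK 0 cat3_0 = true ∧ ruleBound spec.length cat3_0 = true :=
  stepsOK_cat cat2_0_ok cat0_4_ok (by decide +kernel)

theorem spec_ok : cert.rotsOK rels spec = true := by decide +kernel

theorem tab_ok : cert.tabOK cat3_0.length = true := by decide +kernel

theorem valid : cert.Valid rels :=
  ⟨by decide, spec, cat3_0, spec_ok, cat3_0_ok.1, cat3_0_ok.2, tab_ok⟩

theorem fins_length : cert.fin.length = 510 := by rw [Cert.fin, List.length_map, List.length_range]; rfl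

end Cfsg.Lib.HePres.C5
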