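import Cfsg.Agent.HePres.Small
import Cfsg.Agent.HePres.C4Check
import Cfsg.Agent.HePres.C5Check
import Cfsg.Agent.HePres.C6Check

/-!
The order of the presented Held group and the faithful action on 2058 points.
-/

set_option autoImplicit false

namespace Cfsg.Lib.HePres

open Cfsg.Lib.CosetCert Cfsg.Lib.PermCert

/-- The letters of the point stabiliser. -/
def lamH : List ℕ := [0, 2, 3, 4, 5, 7, 8]

/-- The point stabiliser. -/
def stab : Subgroup Cfsg.Spor.He := gp lamH

/-- The word is known to be trivial. -/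
def ok2 (w : List ℕ) : Bool := ok1 w || okX w || w == [5, 7, 5, 7] || w == extraRel

theorem ok2_sound {w : List ℕ} (h : ok2 w = true) : wval im9 w = 1 := by
  simp only [ok2, Bool.or_eq_true, beq_iff_eq] at h
  rcases h with ((h | h) | rfl) | rfl
  · exact ok1_sound h
  · exact okX_sound h
  · exact ft_one
  · exact extraRel_one

theorem rels4 : (C4.rels.all fun r => ok2 (r.map (sel [0, 2, 3, 4, 5]))) = true ∧
    (C4.rels.all fun r => r.all fun l => decide (l < 5)) = true ∧
    ((List.range 5).all fun l => C4.rels.contains [l, l]) = true := by decide +kernel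

theorem rels5 : (C5.rels.all fun r => ok2 (r.map (sel [0, 2, 3, 4, 7, 8, 5]))) = true ∧
    (C5.rels.all fun r => r.all fun l => decide (l < 7)) = true ∧
    ((List.range 7).all fun l => C5.rels.contains [l, l]) = true := by decide +kernel

theorem rels6 : (C6.rels.all fun r => ok2 (r.map (sel [0, 1, 2, 3, 4, 5, 6, 7, 8]))) = true ∧
    (C6.rels.all fun r => r.all fun l => decide (l < 9)) = true := by decide +kernel

theorem sq9 : ∀ l < [0, 1, 2, 3, 4, 5, 6, 7, 8].length, wval im9
    [sel [0, 1, 2, 3, 4, 5, 6, 7, 8] l, sel [0, 1, 2, 3, 4, 5, 6, 7, 8] l] = 1 := by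
  have h : ((List.range 9).all fun l =>
    ok1 [sel [0, 1, 2, 3, 4, 5, 6, 7, 8] l, sel [0, 1, 2, 3, 4, 5, 6, 7, 8] l]) = true := by decide +kernel
  exact fun l hl => ok1_sound (List.all_eq_true.1 h l (List.mem_range.2 hl))

theorem gp_mono {S T : List ℕ} (h : ∀ l ∈ S, l ∈ T) : gp S ≤ gp T :=
  Subgroup.closure_mono fun _ ⟨l, hl, e⟩ => ⟨l, h l hl, e⟩

theorem bound_acdef : Finite (gp [0, 2, 3, 4, 5]) ∧ Nat.card (gp [0, 2, 3, 4, 5]) ≤ 3840 := by
  haveI := card_acde.1
  have h := step_bound C4.valid [0, 2, 3, 4, 5] rfl (fun r hr => ok2_sound (List.all_eq_true.1 rels4.1 r hr))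
    rels4.2.1 (sq_of rels4.2.2 (fun r hr => ok2_sound (List.all_eq_true.1 rels4.1 r hr))) (K := gp [0, 2, 3, 4]) (fun s hs => by
      simp only [C4.cert, List.mem_cons, List.mem_nil_iff, or_false] at hs
      rcases hs with rfl | rfl | rfl | rfl <;> exact gp_mem (by decide))
  rw [C4.fins_length] at h
  have hc := card_acde.2
  exact ⟨h.1, h.2.trans (by omega)⟩

theorem bound_stab : Finite stab ∧ Nat.card stab ≤ 1958400 := by
  haveI := bound_acdef.1
  have h := step_bound C5.valid [0, 2, 3, 4, 7, 8, 5] rfl (fun r hr => ok2_sound (List.all_eq_true.1 rels5.1 r hr))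
    rels5.2.1 (sq_of rels5.2.2 (fun r hr => ok2_sound (List.all_eq_true.1 rels5.1 r hr))) (K := gp [0, 2, 3, 4, 5]) (fun s hs => by
      simp only [C5.cert, List.mem_cons, List.mem_nil_iff, or_false] at hs
      rcases hs with rfl | rfl | rfl | rfl | rfl <;> exact gp_mem (by decide))
  rw [C5.fins_length] at h
  have hc := bound_acdef.2
  have e : gp [0, 2, 3, 4, 7, 8, 5] = stab :=
    le_antisymm (gp_mono (by decide)) (gp_mono (by decide))
  rw [e] at h
  exact ⟨h.1, h.2.trans (by omega)⟩

theorem gp_top : gp [0, 1, 2, 3, 4, 5, 6, 7, 8] = ⊤ := by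
  refine top_le_iff.1 (closure_im ▸ (Subgroup.closure_le _).2 ?_)
  rintro _ ⟨n, hn, rfl⟩
  have h : n < 7 := hn
  rw [SetLike.mem_coe, ← im9_low h]
  exact gp_mem (by interval_cases n <;> decide)

theorem bound_all : Finite Cfsg.Spor.He ∧ Nat.card Cfsg.Spor.He ≤ 4030387200 := by
  haveI := bound_stab.1
  have h := step_bound C6.valid [0, 1, 2, 3, 4, 5, 6, 7, 8] rfl
    (fun r hr => ok2_sound (List.all_eq_true.1 rels6.1 r hr)) rels6.2 sq9 (K := stab) (fun s hs => by
      simp only [C6.cert, List.mem_cons, List.mem_nil_iff, or_false] at hs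
      rcases hs with rfl | rfl | rfl | rfl | rfl | rfl | rfl <;> exact gp_mem (by decide))
  rw [C6.fins_length, gp_top, Subgroup.card_top] at h
  haveI := h.1
  have hc := bound_stab.2
  exact ⟨Finite.of_equiv _ Subgroup.topEquiv.toEquiv, h.2.trans (by omega)⟩

instance finite_he : Finite Cfsg.Spor.He := bound_all.1

theorem chainG_ok : chainOK sigTabs 2058 9 chainG = true ∧ chainSize chainG = 4030387200 ∧
    chainOK sigTabs 2058 9 chainG.tail = true ∧ chainSize chainG.tail = 1958400 ∧
    (chainG.all fun K => K.gens.all (lettersIn [0, 1, 2, 3, 4, 5, 6, 7, 8])) = true ∧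
    (chainG.tail.all fun K => K.gens.all (lettersIn lamH)) = true := by decide +kernel

theorem factG : Nat.card (⊤ : Subgroup Cfsg.Spor.He) = 4030387200 ∧ ∀ x ∈ (⊤ : Subgroup Cfsg.Spor.He), psi x = 1 → x = 1 :=
  faithful_of_chain ⟨inferInstance, by rw [Subgroup.card_top]; exact bound_all.2⟩ chainG_ok.1 chainG_ok.2.1
    fun _ _ w _ => Subgroup.mem_top (wval im9 w)

theorem card_he : Nat.card Cfsg.Spor.He = 4030387200 := by
  rw [← Subgroup.card_top]
  exact factG.1

theorem psi_injective : Function.Injective psi :=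
  (injective_iff_map_eq_one psi).2 fun x hx => factG.2 x (Subgroup.mem_top x) hx

theorem card_stab : Nat.card stab = 1958400 :=
  (faithful_of_chain bound_stab chainG_ok.2.2.1 chainG_ok.2.2.2.1 fun K hK w hw =>
    gp_wval (List.all_eq_true.1 (List.all_eq_true.1 chainG_ok.2.2.2.2.2 K hK) w hw)).1

theorem index_stab : stab.index = 2058 := by
  have h := Subgroup.card_mul_index stab
  rw [card_stab, card_he] at h
  omega

end Cfsg.Lib.HePres
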