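import Cfsg.Agent.HePres.Semi

/-!
The action of the presented Held group on the 2058 points: suborbits and simplicity.
-/

set_option autoImplicit false

namespace Cfsg.Lib.HePres

open Cfsg.Lib.CosetCert Cfsg.Lib.PermCert

instance actHe : MulAction Cfsg.Spor.He (Fin 2058) := MulAction.compHom (Fin 2058) psi

theorem im_smul {l : ℕ} (hl : l < 9) (x : Fin 2058) : ((im9 l • x : Fin 2058) : ℕ) = evalW sigTabs [l] x := by
  have hsq : im9 l * im9 l = 1 := by
    have hsel : sel [0, 1, 2, 3, 4, 5, 6, 7, 8] l = l := by interval_cases l <;> rfl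
    have h := sq9 l hl
    rw [hsel] at h
    simpa [wval] using h
  have h := evalW_apply im9 psi sigTabs psi_im9 [l] (fun a ha => by
    rw [List.mem_singleton] at ha
    exact ha ▸ hl) x
  rw [wval_cons, wval_nil, mul_one] at h
  rw [← h, ← map_inv, inv_eq_of_mul_eq_one_left hsq]
  rfl

/-- The base point. -/
def p0 : Fin 2058 := ⟨0, by norm_num⟩

theorem fix_zero : lamH.all (fun l => decide (l < 9) && (evalW sigTabs [l] 0 == 0)) = true := by decide +kernel

theorem lamH_lt {l : ℕ} (h : l ∈ lamH) : l < 9 := by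
  have := List.all_eq_true.1 fix_zero l h
  rw [Bool.and_eq_true, decide_eq_true_eq] at this
  exact this.1

theorem stab_le : stab ≤ MulAction.stabilizer Cfsg.Spor.He p0 := by
  refine (Subgroup.closure_le _).2 ?_
  rintro _ ⟨l, hl, rfl⟩
  have := List.all_eq_true.1 fix_zero l hl
  rw [Bool.and_eq_true, beq_iff_eq] at this
  rw [SetLike.mem_coe, MulAction.mem_stabilizer_iff]
  exact Fin.ext ((im_smul (lamH_lt hl) p0).trans this.2)

theorem transitive : MulAction.IsPretransitive Cfsg.Spor.He (Fin 2058) := by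
  have hscan : chainOK sigTabs 2058 9 [chainG0] = true ∧ chainG0.b = 0 ∧
      (chainG0.gens.all fun w => w.all fun l => decide (l < 9)) = true ∧
      ((List.range 2058).all fun j => (chainG0.orb.foldl (fun s e => s ||| 1 <<< e.1) (1 <<< 0)).testBit j) = true := by
    decide +kernel
  obtain ⟨hok, hb, -, hall⟩ := hscan
  simp only [chainOK, Lev.ok, Bool.and_eq_true, decide_eq_true_eq] at hok
  obtain ⟨⟨⟨⟨-, hs⟩, hlet⟩, -⟩, -⟩ := hok
  simp only [Lev.letters, List.all_eq_true, decide_eq_true_eq] at hlet
  rw [hb] at hs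
  have key : ∀ (t : List (ℕ × ℕ × ℕ)) (s : ℕ), scanOrb sigTabs 2058 chainG0.gens s t = true →
      (∀ j, s.testBit j = true → ∃ g : Cfsg.Spor.He, ((g • p0 : Fin 2058) : ℕ) = j) →
      ∀ j, (t.foldl (fun s e => s ||| 1 <<< e.1) s).testBit j = true →
        ∃ g : Cfsg.Spor.He, ((g • p0 : Fin 2058) : ℕ) = j := by
    intro t
    induction t with
    | nil => exact fun s _ hs j hj => hs j hj
    | cons e r ih =>
      obtain ⟨q, par, g⟩ := e
      intro s hsc hs j hj
      simp only [scanOrb, Bool.and_eq_true, decide_eq_true_eq, beq_iff_eq] at hsc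
      obtain ⟨⟨⟨⟨⟨hq, -⟩, hpar⟩, hg⟩, hev⟩, hrest⟩ := hsc
      refine ih _ hrest (fun i hi => ?_) j hj
      rw [Nat.testBit_or, Bool.or_eq_true, Nat.one_shiftLeft, Nat.testBit_two_pow, decide_eq_true_eq] at hi
      rcases hi with hi | rfl
      · exact hs i hi
      · obtain ⟨h, e⟩ := hs par hpar
        rw [List.getD_eq_getElem _ _ hg] at hev
        have := evalW_apply im9 psi sigTabs psi_im9 _ (hlet _ (List.getElem_mem hg)) (h • p0)
        rw [e, hev] at this
        refine ⟨(wval im9 (chainG0.gens[g]))⁻¹ * h, ?_⟩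
        rw [mul_smul, ← this, ← map_inv]
        rfl
  have hzero : ∀ x : Fin 2058, ∃ g : Cfsg.Spor.He, g • p0 = x := fun x => by
    obtain ⟨g, e⟩ := key _ _ hs (fun j hj => ⟨1, by
      rw [Nat.one_shiftLeft, Nat.testBit_two_pow, decide_eq_true_eq] at hj
      rw [one_smul]
      exact hj⟩) x.val (List.all_eq_true.1 hall x.val (List.mem_range.2 x.isLt))
    exact ⟨g, Fin.ext e⟩
  refine ⟨fun x y => ?_⟩
  obtain ⟨g, rfl⟩ := hzero x
  obtain ⟨h, rfl⟩ := hzero y
  exact ⟨h * g⁻¹, by rw [mul_smul, inv_smul_smul]⟩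

/-- The one-letter words of the stabiliser. -/
def hLetters : List (List ℕ) := [[0], [2], [3], [4], [5], [7], [8]]

/-- A set of points, as a bit mask. -/
def maskOf : List (ℕ × ℕ × ℕ) → ℕ → ℕ
  | [], s => s
  | (q, _, _) :: r, s => maskOf r (s ||| 1 <<< q)

/-- A spanning tree of an orbit of the seven letters: reached, of known size, and closed. -/
def subOK (b : ℕ) (t : List (ℕ × ℕ × ℕ)) (len : ℕ) : Bool :=
  decide (b < 2058) && scanOrb sigTabs 2058 hLetters (1 <<< b) t &&
    (((List.range 2058).filter fun x => (maskOf t (1 <<< b)).testBit x).length == len) &&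
    (List.range 2058).all fun x => !(maskOf t (1 <<< b)).testBit x ||
      hLetters.all fun w => (maskOf t (1 <<< b)).testBit (evalW sigTabs w x)

theorem sub1_ok : subOK subBase1 subTree1 136 = true := by decide +kernel

theorem sub2_ok : subOK subBase2 subTree2 136 = true := by decide +kernel

theorem sub3_ok : subOK subBase3 subTree3 425 = true := by decide +kernel

theorem sub4_ok : subOK subBase4 subTree4 1360 = true := by decide +kernel

theorem reach {H : Subgroup Cfsg.Spor.He} (hH : stab ≤ H) {p : Fin 2058} :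
    ∀ (t : List (ℕ × ℕ × ℕ)) (s : ℕ), scanOrb sigTabs 2058 hLetters s t = true →
      (∀ j, s.testBit j = true → ∃ h ∈ H, ((h • p : Fin 2058) : ℕ) = j) →
      ∀ j, (maskOf t s).testBit j = true → ∃ h ∈ H, ((h • p : Fin 2058) : ℕ) = j
  | [], _, _, hs, j, hj => hs j hj
  | (q, par, g) :: r, s, hsc, hs, j, hj => by
    simp only [scanOrb, Bool.and_eq_true, decide_eq_true_eq, beq_iff_eq] at hsc
    obtain ⟨⟨⟨⟨⟨hq, -⟩, hpar⟩, hg⟩, hev⟩, hrest⟩ := hsc
    refine reach hH r _ hrest (fun i hi => ?_) j hj
    rw [Nat.testBit_or, Bool.or_eq_true, Nat.one_shiftLeft, Nat.testBit_two_pow, decide_eq_true_eq] at hi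
    rcases hi with hi | rfl
    · exact hs i hi
    · obtain ⟨h, hh, e⟩ := hs par hpar
      have hg7 : g < 7 := hg
      have e2 : hLetters.getD g [] = [lamH.getD g 0] ∧ lamH.getD g 0 ∈ lamH := by
        interval_cases g <;> decide
      rw [e2.1] at hev
      refine ⟨im9 (lamH.getD g 0) * h, mul_mem (hH (gp_mem e2.2)) hh, ?_⟩
      rw [mul_smul, im_smul (lamH_lt e2.2), e]
      exact hev

theorem closed_stab {T : Set (Fin 2058)} (h : ∀ l ∈ lamH, ∀ x ∈ T, im9 l • x ∈ T) :
    ∀ g ∈ stab, ∀ x : Fin 2058, x ∈ T ↔ g • x ∈ T := by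
  intro g hg
  induction hg using Subgroup.closure_induction with
  | mem _ hy =>
    obtain ⟨l, hl, rfl⟩ := hy
    intro x
    refine ⟨h l hl x, fun hx => ?_⟩
    have h2 := h l hl _ hx
    have hsq : im9 l * im9 l = 1 := by
      have hsel : sel [0, 1, 2, 3, 4, 5, 6, 7, 8] l = l := by
        have := lamH_lt hl
        interval_cases l <;> rfl
      have h' := sq9 l (lamH_lt hl)
      rw [hsel] at h'
      simpa [wval] using h'
    rwa [← mul_smul, hsq, one_smul] at h2
  | one => intro x; rw [one_smul]
  | mul a b _ _ ha hb => intro x; rw [mul_smul, ← ha, ← hb]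
  | inv a _ ha => intro x; rw [ha (a⁻¹ • x), smul_inv_smul]

/-- The points of a mask. -/
def maskSet (m : ℕ) : Set (Fin 2058) := {x | m.testBit x.val = true}

theorem mem_maskSet {m : ℕ} {x : Fin 2058} : x ∈ maskSet m ↔ m.testBit x.val = true := Iff.rfl

theorem self_mem : ∀ (t : List (ℕ × ℕ × ℕ)) (s j : ℕ), s.testBit j = true → (maskOf t s).testBit j = true
  | [], _, _, h => h
  | (q, _, _) :: r, s, j, h => self_mem r _ j (by rw [Nat.testBit_or, h, Bool.true_or])

theorem letter_mem : ∀ l ∈ lamH, [l] ∈ hLetters := by decide +kernel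

theorem mask_orbit {b : ℕ} {t : List (ℕ × ℕ × ℕ)} {len : ℕ} (h : subOK b t len = true) :
    (∀ x ∈ maskSet (maskOf t (1 <<< b)), MulAction.orbit (stab) x = maskSet (maskOf t (1 <<< b))) ∧
      (maskSet (maskOf t (1 <<< b))).ncard = len ∧ ∃ x, x ∈ maskSet (maskOf t (1 <<< b)) := by
  simp only [subOK, Bool.and_eq_true, decide_eq_true_eq, beq_iff_eq] at h
  obtain ⟨⟨⟨hb, hscan⟩, hlen⟩, hclosed⟩ := h
  simp only [List.all_eq_true, List.mem_range, Bool.or_eq_true, Bool.not_eq_true'] at hclosed
  have hbm : (⟨b, hb⟩ : Fin 2058) ∈ maskSet (maskOf t (1 <<< b)) :=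
    self_mem t _ b (by simp [Nat.one_shiftLeft])
  have he : MulAction.orbit (stab) (⟨b, hb⟩ : Fin 2058) = maskSet (maskOf t (1 <<< b)) := by
    refine Set.Subset.antisymm ?_ ?_
    · rintro _ ⟨g, rfl⟩
      refine (closed_stab (T := maskSet (maskOf t (1 <<< b))) (fun l hl x hx => ?_) g g.2 _).1 hbm
      rw [mem_maskSet] at hx ⊢
      rw [im_smul (lamH_lt hl)]
      rcases hclosed x.val x.isLt with e | e
      · rw [hx] at e
        exact Bool.noConfusion e
      · exact e [l] (letter_mem l hl)
    · intro x hx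
      obtain ⟨g, hg, e⟩ := reach (p := ⟨b, hb⟩) le_rfl t (1 <<< b) hscan
        (fun j hj => ⟨1, Subgroup.one_mem _, by
          rw [Nat.one_shiftLeft, Nat.testBit_two_pow, decide_eq_true_eq] at hj
          rw [one_smul]
          exact hj⟩) x.val hx
      exact ⟨⟨g, hg⟩, Fin.ext e⟩
  refine ⟨fun x hx => ?_, ?_, ⟨_, hbm⟩⟩
  · rw [← he] at hx
    rw [MulAction.orbit_eq_iff.2 hx, he]
  classical
  rw [← hlen, Set.ncard_eq_toFinset_card', ← List.toFinset_card_of_nodup (List.nodup_range.filter _)]
  refine Finset.card_bij (fun x _ => x.val) ?_ ?_ ?_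
  · intro x hx
    rw [Set.mem_toFinset] at hx
    rw [List.mem_toFinset, List.mem_filter, List.mem_range]
    exact ⟨x.isLt, hx⟩
  · exact fun x _ y _ e => Fin.ext e
  · intro j hj
    rw [List.mem_toFinset, List.mem_filter, List.mem_range] at hj
    exact ⟨⟨j, hj.1⟩, by rw [Set.mem_toFinset]; exact hj.2, rfl⟩

/-- The masks of the suborbits. -/
def mask1 : ℕ := maskOf subTree1 (1 <<< subBase1)
/-- The second. -/
def mask2 : ℕ := maskOf subTree2 (1 <<< subBase2)
/-- The third. -/
def mask3 : ℕ := maskOf subTree3 (1 <<< subBase3)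
/-- The fourth. -/
def mask4 : ℕ := maskOf subTree4 (1 <<< subBase4)

theorem orbit1 : (∀ x ∈ maskSet mask1, MulAction.orbit stab x = maskSet mask1) ∧
    (maskSet mask1).ncard = 136 ∧ ∃ x, x ∈ maskSet mask1 := mask_orbit sub1_ok
theorem orbit2 : (∀ x ∈ maskSet mask2, MulAction.orbit stab x = maskSet mask2) ∧
    (maskSet mask2).ncard = 136 ∧ ∃ x, x ∈ maskSet mask2 := mask_orbit sub2_ok
theorem orbit3 : (∀ x ∈ maskSet mask3, MulAction.orbit stab x = maskSet mask3) ∧
    (maskSet mask3).ncard = 425 ∧ ∃ x, x ∈ maskSet mask3 := mask_orbit sub3_ok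
theorem orbit4 : (∀ x ∈ maskSet mask4, MulAction.orbit stab x = maskSet mask4) ∧
    (maskSet mask4).ncard = 1360 ∧ ∃ x, x ∈ maskSet mask4 := mask_orbit sub4_ok

/-- A mask or nothing. -/
def pick (c : Bool) (m : ℕ) : ℕ := if c then m else 0

/-- The number of points of a union. -/
def unionCount (c1 c2 c3 c4 : Bool) : ℕ :=
  ((List.range 2058).filter fun j => (1 ||| pick c1 mask1 ||| pick c2 mask2 ||| pick c3 mask3 ||| pick c4 mask4).testBit j).length

theorem mask_facts : ((List.range 2058).all fun j => decide (j = 0) || mask1.testBit j || mask2.testBit j || mask3.testBit j ||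
      mask4.testBit j) = true ∧
    ((List.range 2058).all fun j => !(mask1.testBit j && mask2.testBit j)) = true ∧
    (∀ c1 c2 c3 c4 : Bool, unionCount c1 c2 c3 c4 ∣ 2058 →
      (c1 = false ∧ c2 = false ∧ c3 = false ∧ c4 = false) ∨ unionCount c1 c2 c3 c4 = 2058) := by decide +kernel

theorem cover (x : Fin 2058) : x = p0 ∨ x ∈ maskSet mask1 ∨ x ∈ maskSet mask2 ∨ x ∈ maskSet mask3 ∨ x ∈ maskSet mask4 := by
  have := List.all_eq_true.1 mask_facts.1 x.val (List.mem_range.2 x.isLt)
  simp only [Bool.or_eq_true, decide_eq_true_eq, or_assoc] at this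
  exact this.imp_left fun e => Fin.ext e

theorem orbit12_ne {x y : Fin 2058} (hx : x ∈ maskSet mask1) (hy : y ∈ maskSet mask2) :
    MulAction.orbit stab x ≠ MulAction.orbit stab y := fun e => by
  rw [orbit1.1 x hx, orbit2.1 y hy] at e
  have h1 : x ∈ maskSet mask2 := e ▸ hx
  have h2 := List.all_eq_true.1 mask_facts.2.1 x.val (List.mem_range.2 x.isLt)
  rw [mem_maskSet] at hx h1
  rw [hx, h1] at h2
  exact Bool.noConfusion h2

theorem stabilizer_zero : MulAction.stabilizer Cfsg.Spor.He p0 = stab := by
  haveI := transitive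
  haveI := bound_stab.1
  have h1 : (MulAction.stabilizer Cfsg.Spor.He p0).index = 2058 := by
    rw [MulAction.index_stabilizer, MulAction.orbit_eq_univ, Set.ncard_univ, Nat.card_fin]
  refine (Subgroup.eq_of_le_of_card_ge stab_le ?_).symm
  have := Subgroup.card_mul_index (MulAction.stabilizer Cfsg.Spor.He p0)
  rw [h1, card_he] at this
  rw [card_stab]
  omega

/-- The cosets are the points. -/
theorem quotient_equiv : ∃ e : Cfsg.Spor.He ⧸ stab ≃ Fin 2058,
    ∀ (g : Cfsg.Spor.He) q, e (g • q) = g • e q := by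
  haveI := transitive
  let f : Cfsg.Spor.He ⧸ stab → Fin 2058 := fun q =>
    Quotient.liftOn' q (fun g => g • p0) fun a b hab => by
      rw [QuotientGroup.leftRel_apply, ← stabilizer_zero, MulAction.mem_stabilizer_iff, mul_smul,
        inv_smul_eq_iff] at hab
      exact hab.symm
  have hf : Function.Bijective f := by
    constructor
    · intro a b
      induction a using QuotientGroup.induction_on with
      | H a =>
        induction b using QuotientGroup.induction_on with
        | H b =>
          intro h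
          rw [QuotientGroup.eq, ← stabilizer_zero, MulAction.mem_stabilizer_iff, mul_smul, inv_smul_eq_iff]
          exact h.symm
    · intro x
      obtain ⟨g, hg⟩ := MulAction.exists_smul_eq Cfsg.Spor.He p0 x
      exact ⟨QuotientGroup.mk g, hg⟩
  refine ⟨Equiv.ofBijective f hf, fun g q => ?_⟩
  induction q using QuotientGroup.induction_on with
  | H a => exact mul_smul g a p0

theorem orbit_image (e : Cfsg.Spor.He ⧸ stab ≃ Fin 2058)
    (he : ∀ (g : Cfsg.Spor.He) q, e (g • q) = g • e q) (p : Fin 2058) :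
    MulAction.orbit (stab) (e.symm p) = e ⁻¹' MulAction.orbit (stab) p := by
  ext q
  simp only [Set.mem_preimage, MulAction.mem_orbit_iff, Subgroup.smul_def]
  refine exists_congr fun g => ?_
  rw [← e.injective.eq_iff]
  show e ((g : Cfsg.Spor.He) • e.symm p) = e q ↔ (g : Cfsg.Spor.He) • p = e q
  rw [he, e.apply_symm_apply]

theorem suborbits : ∃ q₁ q₂ q₃ q₄ : Cfsg.Spor.He ⧸ stab,
    MulAction.orbit stab q₁ ≠ MulAction.orbit stab q₂ ∧ (MulAction.orbit stab q₁).ncard = 136 ∧
    (MulAction.orbit stab q₂).ncard = 136 ∧ (MulAction.orbit stab q₃).ncard = 425 ∧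
    (MulAction.orbit stab q₄).ncard = 1360 := by
  obtain ⟨e, he⟩ := quotient_equiv
  obtain ⟨h1, c1, p1, m1⟩ := orbit1
  obtain ⟨h2, c2, p2, m2⟩ := orbit2
  obtain ⟨h3, c3, p3, m3⟩ := orbit3
  obtain ⟨h4, c4, p4, m4⟩ := orbit4
  have hn : ∀ p, (MulAction.orbit stab (e.symm p)).ncard = (MulAction.orbit stab p).ncard := fun p => by
    rw [orbit_image e he, Set.ncard_preimage_of_injective_subset_range e.injective (by simp [e.range_eq_univ])]
  refine ⟨e.symm p1, e.symm p2, e.symm p3, e.symm p4, fun h => ?_, ?_, ?_, ?_, ?_⟩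
  · rw [orbit_image e he, orbit_image e he] at h
    exact orbit12_ne m1 m2 (e.surjective.preimage_injective h)
  · rw [hn, h1 p1 m1, c1]
  · rw [hn, h2 p2 m2, c2]
  · rw [hn, h3 p3 m3, c3]
  · rw [hn, h4 p4 m4, c4]

theorem relIndex_orbit (M : Subgroup Cfsg.Spor.He) : stab.relIndex M = (MulAction.orbit M p0).ncard := by
  have e : MulAction.stabilizer M p0 = stab.subgroupOf M := by
    ext x
    rw [Subgroup.mem_subgroupOf, MulAction.mem_stabilizer_iff, ← stabilizer_zero, MulAction.mem_stabilizer_iff,
      Subgroup.smul_def]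
  rw [Subgroup.relIndex, ← e]
  exact MulAction.index_stabilizer (G := M) p0

theorem ncard_mask (M : ℕ) : (maskSet M).ncard = ((List.range 2058).filter fun j => M.testBit j).length := by
  classical
  rw [Set.ncard_eq_toFinset_card', ← List.toFinset_card_of_nodup (List.nodup_range.filter _)]
  refine Finset.card_bij (fun x _ => x.val) ?_ ?_ ?_
  · intro x hx
    rw [Set.mem_toFinset] at hx
    rw [List.mem_toFinset, List.mem_filter, List.mem_range]
    exact ⟨x.isLt, hx⟩
  · exact fun x _ y _ e => Fin.ext e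
  · intro j hj
    rw [List.mem_toFinset, List.mem_filter, List.mem_range] at hj
    exact ⟨⟨j, hj.1⟩, by rw [Set.mem_toFinset]; exact hj.2, rfl⟩

theorem between {M : Subgroup Cfsg.Spor.He} (hM : stab ≤ M) : M = stab ∨ M = ⊤ := by
  classical
  have hmul := Subgroup.relIndex_mul_index hM
  rw [index_stab, relIndex_orbit] at hmul
  set O : Set (Fin 2058) := MulAction.orbit M p0 with hO
  let b : ℕ → Bool := fun m => decide (∃ x ∈ maskSet m, x ∈ O)
  have hp0 : p0 ∈ O := MulAction.mem_orbit_self _
  have hin : ∀ {m : ℕ}, (∀ x ∈ maskSet m, MulAction.orbit stab x = maskSet m) → b m = true → maskSet m ⊆ O := by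
    intro m hm hb y hy
    obtain ⟨x, hx, hxO⟩ := decide_eq_true_eq.mp hb
    rw [← hm x hx] at hy
    obtain ⟨g, rfl⟩ := hy
    exact MulAction.mem_orbit_of_mem_orbit (⟨g, hM g.2⟩ : M) hxO
  have hmem : ∀ {m : ℕ} {x : Fin 2058}, (pick (b m) m).testBit x = true → b m = true ∧ x ∈ maskSet m := by
    intro m x h
    unfold pick at h
    split_ifs at h with hb
    · exact ⟨hb, h⟩
    · simp at h
  have hOeq : O = maskSet (1 ||| pick (b mask1) mask1 ||| pick (b mask2) mask2 ||| pick (b mask3) mask3 |||
      pick (b mask4) mask4) := by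
    ext x
    rw [mem_maskSet]
    simp only [Nat.testBit_or, Bool.or_eq_true, or_assoc]
    constructor
    · intro hx
      have hb : ∀ {m}, x ∈ maskSet m → (pick (b m) m).testBit x = true := fun {m} h => by
        rw [pick, if_pos (show b m = true from decide_eq_true ⟨x, h, hx⟩)]; exact h
      rcases cover x with e | e | e | e | e
      · left; rw [e]; rfl
      · exact Or.inr (Or.inl (hb e))
      · exact Or.inr (Or.inr (Or.inl (hb e)))
      · exact Or.inr (Or.inr (Or.inr (Or.inl (hb e))))
      · exact Or.inr (Or.inr (Or.inr (Or.inr (hb e))))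
    · rintro (h | h | h | h | h)
      · rw [Nat.testBit_one_eq_true_iff_self_eq_zero] at h
        rwa [show x = p0 from Fin.ext h]
      · exact hin orbit1.1 (hmem h).1 (hmem h).2
      · exact hin orbit2.1 (hmem h).1 (hmem h).2
      · exact hin orbit3.1 (hmem h).1 (hmem h).2
      · exact hin orbit4.1 (hmem h).1 (hmem h).2
  have hcount : O.ncard = unionCount (b mask1) (b mask2) (b mask3) (b mask4) := by rw [hOeq, ncard_mask]; rfl
  rw [hcount] at hmul
  rcases mask_facts.2.2 _ _ _ _ (Dvd.intro _ hmul) with ⟨b1, b2, b3, b4⟩ | h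
  · left
    refine le_antisymm (fun m hm => ?_) hM
    rw [← stabilizer_zero, MulAction.mem_stabilizer_iff]
    have hmO : m • p0 ∈ O := ⟨⟨m, hm⟩, rfl⟩
    have no : ∀ {k}, b k = false → m • p0 ∉ maskSet k := fun hb hk =>
      (decide_eq_false_iff_not.mp hb) ⟨_, hk, hmO⟩
    rcases cover (m • p0) with e | e | e | e | e
    · exact e
    · exact absurd e (no b1)
    · exact absurd e (no b2)
    · exact absurd e (no b3)
    · exact absurd e (no b4)
  · right
    rw [h] at hmul
    exact Subgroup.index_eq_one.1 (by omega)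

theorem not_normal : ¬ stab.Normal := fun hn => by
  haveI := transitive
  obtain ⟨h1, c1, p1, m1⟩ := orbit1
  obtain ⟨g, hg⟩ := MulAction.exists_smul_eq Cfsg.Spor.He p0 p1
  have hsub : MulAction.orbit stab p1 ⊆ {p1} := by
    intro z hz
    obtain ⟨h, rfl⟩ := MulAction.mem_orbit_iff.1 hz
    have hc : g⁻¹ * h * g ∈ stab := by simpa using hn.conj_mem (h : Cfsg.Spor.He) h.2 g⁻¹
    have := stab_le hc
    rw [MulAction.mem_stabilizer_iff, mul_smul, mul_smul, hg, inv_smul_eq_iff, hg] at this
    exact this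
  have := Set.ncard_le_ncard hsub
  rw [h1 p1 m1, c1, Set.ncard_singleton] at this
  omega

theorem no_index_two (N : Subgroup Cfsg.Spor.He) : N.index ≠ 2 := fun h => by
  haveI := Subgroup.normal_of_index_eq_two h
  have hq : Nat.card (Cfsg.Spor.He ⧸ N) = 2 := by rw [← Subgroup.index_eq_card, h]
  let χ : Cfsg.Spor.He →* Cfsg.Spor.He ⧸ N := QuotientGroup.mk' N
  have hsq : ∀ y : Cfsg.Spor.He ⧸ N, y * y = 1 := fun y => by
    rw [← sq, ← hq]
    exact pow_card_eq_one'
  have hc : ∀ y z : Cfsg.Spor.He ⧸ N, y * z = z * y := fun y z => by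
    have h1 := hsq (y * z)
    rw [← inv_eq_of_mul_eq_one_left h1, mul_inv_rev, inv_eq_of_mul_eq_one_left (hsq y), inv_eq_of_mul_eq_one_left (hsq z)]
  have hodd : ∀ x y, x < 7 → y < 7 → Cfsg.Spor.coxLabel Cfsg.Spor.He.edges (genOf x) (genOf y) = 3 →
      χ (im x) = χ (im y) := fun x y hx hy h => by
    have e := congrArg χ (good_im.pair hx hy)
    rw [h, map_pow, map_mul, map_one, pow_succ, sq, hsq, one_mul] at e
    rw [mul_eq_one_iff_eq_inv] at e
    rwa [inv_eq_of_mul_eq_one_left (hsq _)] at e
  have hex : ∀ w ∈ extraWords, wval (fun n => χ (im n)) w = 1 := fun w hw => by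
    rw [← hom_wval, good_im w (List.mem_append_right _ hw), map_one]
  have bc := hodd 1 2 (by norm_num) (by norm_num) (by decide +kernel)
  have de := hodd 3 4 (by norm_num) (by norm_num) (by decide +kernel)
  have df := hodd 3 5 (by norm_num) (by norm_num) (by decide +kernel)
  have gd := hodd 6 3 (by norm_num) (by norm_num) (by decide +kernel)
  simp only [extraWords, List.forall_mem_cons, List.forall_mem_nil, and_true, wval_rpt, wval_cons, wval_nil,
    mul_one] at hex
  obtain ⟨e1, e2, e3, -⟩ := hex
  have h4 : χ (im 4) = 1 := by rwa [sq, hsq, mul_one] at e1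
  have h3 : χ (im 3) = 1 := de.trans h4
  have h5 : χ (im 5) = 1 := df.symm.trans h3
  have h6 : χ (im 6) = 1 := gd.trans h3
  have h0 : χ (im 0) = 1 := by
    rwa [h4, one_mul, pow_succ, sq, hsq, one_mul, bc, ← mul_assoc, hsq, one_mul] at e2
  have h2 : χ (im 2) = 1 := by
    rwa [h0, one_mul, h3, mul_one, pow_succ,
      show (χ (im 2)) ^ 4 = 1 by rw [show 4 = 2 * 2 from rfl, pow_mul, sq, hsq], one_mul] at e3
  have hall : ∀ n, n < 7 → χ (im n) = 1 := by
    intro n hn
    interval_cases n
    · exact h0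
    · exact bc.trans h2
    · exact h2
    · exact h3
    · exact h4
    · exact h5
    · exact h6
  have htop : ⊤ ≤ χ.ker := closure_im ▸ (Subgroup.closure_le _).2 (by
    rintro _ ⟨n, hn, rfl⟩
    exact hall n hn)
  rw [QuotientGroup.ker_mk'] at htop
  rw [top_le_iff.1 htop, Subgroup.index_top] at h
  omega

theorem simple_he : IsSimpleGroup Cfsg.Spor.He := by
  haveI := bound_stab.1
  haveI : Nontrivial Cfsg.Spor.He := Finite.one_lt_card_iff_nontrivial.1 (by rw [card_he]; norm_num)
  haveI := simple_sp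
  haveI : Nontrivial inner := innerIso.toEquiv.nontrivial
  haveI : IsSimpleGroup inner := IsSimpleGroup.isSimpleGroup_of_surjective innerIso.symm.toMonoidHom innerIso.symm.surjective
  refine ⟨fun N hN => ?_⟩
  haveI := hN
  by_cases hle : N ≤ stab
  · left
    refine le_bot_iff.1 fun x hx => ?_
    haveI := transitive
    refine psi_injective ?_
    rw [map_one]
    refine Equiv.ext fun y => ?_
    obtain ⟨g, rfl⟩ := MulAction.exists_smul_eq Cfsg.Spor.He p0 y
    have h : g⁻¹ * x * g ∈ stab := hle (by simpa using hN.conj_mem x hx g⁻¹)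
    have := stab_le h
    rw [MulAction.mem_stabilizer_iff, mul_smul, mul_smul, inv_smul_eq_iff] at this
    exact this
  · have htop : stab ⊔ N = ⊤ := by
      rcases between (le_sup_left : stab ≤ stab ⊔ N) with e | e
      · exact absurd (e ▸ le_sup_right) hle
      · exact e
    have hcard : ∀ {K : Subgroup Cfsg.Spor.He}, K.Normal →
        Nat.card (stab ⊔ K : Subgroup Cfsg.Spor.He) * Nat.card (K.subgroupOf stab) = Nat.card K * 1958400 := by
      intro K hK
      haveI := hK
      have h1 := Subgroup.relIndex_mul_relIndex ⊥ K (stab ⊔ K) bot_le le_sup_right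
      rw [Subgroup.relIndex_bot_left, Subgroup.relIndex_bot_left, Subgroup.relIndex_sup_right] at h1
      have h2 := Subgroup.card_mul_index (K.subgroupOf stab)
      rw [card_stab] at h2
      rw [← h1, ← h2, Subgroup.relIndex]
      ring
    have hN' := hcard hN
    rw [htop, Subgroup.card_top, card_he] at hN'
    haveI := inner_normal
    rcases Subgroup.Normal.eq_bot_or_eq_top (inferInstance : ((N.subgroupOf stab).subgroupOf inner).Normal) with h | h
    · have hk : Nat.card (N.subgroupOf stab) ∣ 2 := by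
        haveI := inner_normal
        rw [Subgroup.subgroupOf_eq_bot, disjoint_iff] at h
        have h2 := Subgroup.relIndex_dvd_index_of_normal inner (N.subgroupOf stab)
        rw [← Subgroup.inf_relIndex_right, inf_comm, h, Subgroup.relIndex_bot_left, index_inner] at h2
        exact h2
      haveI : Fact (Nat.Prime 7) := ⟨by norm_num⟩
      have hk2 : Nat.card (N.subgroupOf stab) = 1 ∨ Nat.card (N.subgroupOf stab) = 2 :=
        (Nat.dvd_prime (by norm_num)).1 hk
      have hNc : Nat.card N = 2058 * Nat.card (N.subgroupOf stab) := by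
        rcases hk2 with e | e <;> rw [e] at hN' ⊢ <;> omega
      obtain ⟨P⟩ : Nonempty (Sylow 7 N) := inferInstance
      have hP : Nat.card P = 343 := by
        rw [P.card_eq_multiplicity, hNc, show (2058 : ℕ) = 7 ^ 3 * 6 by norm_num, mul_assoc,
          Nat.factorization_mul (by norm_num) (by rcases hk2 with e | e <;> rw [e] <;> norm_num), Finsupp.add_apply,
          Nat.factorization_pow, Finsupp.smul_apply, Nat.Prime.factorization_self (by norm_num),
          Nat.factorization_eq_zero_of_not_dvd (by rcases hk2 with e | e <;> rw [e] <;> norm_num)]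
        norm_num
      have hi : (P : Subgroup N).index = 6 * Nat.card (N.subgroupOf stab) := by
        have := Subgroup.card_mul_index (P : Subgroup N)
        rw [show Nat.card (P : Subgroup N) = 343 from hP, hNc] at this
        omega
      have hn1 : Nat.card (Sylow 7 N) = 1 := by
        have hd : Nat.card (Sylow 7 N) ∣ 12 := (hi ▸ Sylow.card_dvd_index P).trans (by
          rcases hk2 with e | e <;> rw [e] <;> norm_num)
        have hm := card_sylow_modEq_one 7 N
        have hl : Nat.card (Sylow 7 N) ≤ 12 := Nat.le_of_dvd (by norm_num) hd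
        unfold Nat.ModEq at hm
        interval_cases hk : Nat.card (Sylow 7 N) <;> omega
      haveI : Subsingleton (Sylow 7 N) := (Nat.card_eq_one_iff_unique.1 hn1).1
      haveI : (P : Subgroup N).Characteristic := P.characteristic_of_subsingleton
      set Q := (P : Subgroup N).map N.subtype
      have hQn : Q.Normal := ConjAct.normal_of_characteristic_of_normal
      have hQ : Nat.card Q = 343 := by
        rw [← hP]
        exact (Nat.card_congr ((P : Subgroup N).equivMapOfInjective N.subtype N.subtype_injective).toEquiv).symm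
      have hc2 := hcard hQn
      rw [hQ] at hc2
      have hd2 : Nat.card (Q.subgroupOf stab) ∣ 2 :=
        (Subgroup.card_dvd_of_le (show Q.subgroupOf stab ≤ N.subgroupOf stab from
          fun x hx => Subgroup.mem_subgroupOf.2 (Subgroup.map_subtype_le (P : Subgroup N) (Subgroup.mem_subgroupOf.1 hx)))).trans hk
      exfalso
      rcases (Nat.dvd_prime (by norm_num)).1 hd2 with d | d <;> rw [d] at hc2 <;>
        rcases between (le_sup_left : stab ≤ stab ⊔ Q) with e2 | e2 <;>
        simp only [e2, Subgroup.card_top, card_stab, card_he] at hc2 <;> omega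
    · rw [Subgroup.subgroupOf_eq_top] at h
      have hd := Subgroup.index_dvd_of_le h
      rw [index_inner] at hd
      rcases (Nat.dvd_prime (by norm_num)).1 hd with e | e
      · right
        have hst : stab ≤ N := Subgroup.subgroupOf_eq_top.1 (Subgroup.index_eq_one.1 e)
        rwa [sup_eq_right.2 hst] at htop
      · exfalso
        refine no_index_two N ?_
        have h2 := Subgroup.card_mul_index (N.subgroupOf stab)
        rw [e, card_stab] at h2
        have h3 := Subgroup.card_mul_index N
        rw [card_he] at h3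
        have h4 : Nat.card (N.subgroupOf stab) = 979200 := by omega
        rw [h4] at hN'
        have h5 : Nat.card N = 2015193600 := by omega
        rw [h5] at h3
        omega

end Cfsg.Lib.HePres
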