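import Cfsg.Agent.HePres.Relators
import Cfsg.Agent.HePres.LowerData

/-!
The permutations satisfy the relations.
-/

set_option autoImplicit false

namespace Cfsg.Lib.HePres

open Cfsg.Lib.CosetCert Cfsg.Lib.PermCert

theorem tabs_valid : (List.range 9).all (fun l => valid 2058 (sigTabs.getD l (0, 0))) = true := by decide +kernel

/-- The permutations. -/
def act (n : ℕ) : Equiv.Perm (Fin 2058) := perm 2058 (sigTabs.getD n (0, 0))

/-- A word in the permutations is trivial. -/
def okWord (w : List ℕ) : Bool :=
  w.all (fun l => decide (l < 7)) && isId 2058 (w.map fun l => sigTabs.getD l (0, 0))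

set_option maxRecDepth 4000 in
theorem okWord_sound {w : List ℕ} (h : okWord w = true) : wval act w = 1 := by
  simp only [okWord, Bool.and_eq_true, List.all_eq_true, decide_eq_true_eq] at h
  have hv : ∀ g ∈ w.map (fun l => sigTabs.getD l (0, 0)), valid 2058 g = true := by
    intro g hg
    obtain ⟨l, hl, rfl⟩ := List.mem_map.1 hg
    exact List.all_eq_true.1 tabs_valid l (List.mem_range.2 (Nat.lt_trans (h.1 l hl) (by norm_num)))
  have := isId_sound hv h.2
  rw [wperm, List.map_map] at this
  unfold wval
  exact this

theorem pairs_ok0 : ((List.range' 0 7).map (pairWord 0)).all okWord = true := by decide +kernel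

theorem pairs_ok1 : ((List.range' 1 6).map (pairWord 1)).all okWord = true := by decide +kernel

theorem pairs_ok2 : ((List.range' 2 5).map (pairWord 2)).all okWord = true := by decide +kernel

theorem pairs_ok3 : ((List.range' 3 4).map (pairWord 3)).all okWord = true := by decide +kernel

theorem pairs_ok4 : ((List.range' 4 3).map (pairWord 4)).all okWord = true := by decide +kernel

theorem pairs_ok5 : ((List.range' 5 2).map (pairWord 5)).all okWord = true := by decide +kernel

theorem pairs_ok6 : ((List.range' 6 1).map (pairWord 6)).all okWord = true := by decide +kernel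

theorem extra_ok : extraWords.all okWord = true := by decide +kernel

theorem label_symm : ∀ x : Fin 7, ∀ y : Fin 7, Cfsg.Spor.coxLabel Cfsg.Spor.He.edges (genOf y) (genOf x) =
    Cfsg.Spor.coxLabel Cfsg.Spor.He.edges (genOf x) (genOf y) := by decide +kernel

theorem pair_le {x y : ℕ} (hy : y < 7) (hxy : x ≤ y) : wval act (pairWord x y) = 1 := by
  have hm : pairWord x y ∈ (List.range' x (7 - x)).map (pairWord x) :=
    List.mem_map.2 ⟨y, by rw [List.mem_range'_1]; omega, rfl⟩
  have hx : x < 7 := by omega
  interval_cases x
  · exact okWord_sound (List.all_eq_true.1 pairs_ok0 _ hm)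
  · exact okWord_sound (List.all_eq_true.1 pairs_ok1 _ hm)
  · exact okWord_sound (List.all_eq_true.1 pairs_ok2 _ hm)
  · exact okWord_sound (List.all_eq_true.1 pairs_ok3 _ hm)
  · exact okWord_sound (List.all_eq_true.1 pairs_ok4 _ hm)
  · exact okWord_sound (List.all_eq_true.1 pairs_ok5 _ hm)
  · exact okWord_sound (List.all_eq_true.1 pairs_ok6 _ hm)

theorem good_act : Good act := by
  intro w hw
  rcases List.mem_append.1 hw with hw | hw
  · obtain ⟨x, hx, hw⟩ := List.mem_flatMap.1 hw
    obtain ⟨y, hy, rfl⟩ := List.mem_map.1 hw
    rw [List.mem_range] at hx hy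
    rcases le_total x y with h | h
    · exact pair_le hy h
    · have hp := pair_le (x := y) (y := x) hx h
      have hinv : ∀ z, z < 7 → act z * act z = 1 := fun z hz => by
        have := pair_le (x := z) (y := z) hz le_rfl
        rw [pairWord, label_self, wval_rpt, pow_one] at this
        simpa [wval_cons, wval_nil] using this
      rw [pairWord, wval_rpt, wval_cons, wval_cons, wval_nil, mul_one] at hp ⊢
      rw [← label_symm ⟨x, hx⟩ ⟨y, hy⟩]
      have e : act x * act y = (act y * act x)⁻¹ := by
        rw [mul_inv_rev, inv_eq_of_mul_eq_one_left (hinv y hy), inv_eq_of_mul_eq_one_left (hinv x hx)]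
      rw [e, inv_pow, hp, inv_one]
  · exact okWord_sound (List.all_eq_true.1 extra_ok w hw)

end Cfsg.Lib.HePres
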