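import Cfsg.Agent.HePres.Order

/-!
An element of the Held group is determined by its values on four points.
-/

set_option autoImplicit false

namespace Cfsg.Lib.CosetCert

open Cfsg.Lib.PermCert

variable {G : Type*} [Group G] {n : ℕ} (im : ℕ → G) (ψ : G →* Equiv.Perm (Fin n)) (tabs : List PP) (T : Subgroup G)

theorem chain_fix (hψ : ∀ l < tabs.length, valid n (tabs.getD l (0, 0)) = true ∧
      ψ (im l) = perm n (tabs.getD l (0, 0))) :
    ∀ (c : List Lev) (L : Subgroup G), chainOK tabs n tabs.length c = true → Finite L →
      (∀ K ∈ c, ∀ w ∈ K.gens, wval im w ∈ L) → T ≤ L →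
      (∀ g ∈ T, ∀ K ∈ c, ∀ x : Fin n, (x : ℕ) = K.b → ψ g x = x) → chainSize c * Nat.card T ≤ Nat.card L
  | [], L, _, hfin, _, hle, _ => by
    haveI : Finite L := hfin
    rw [chainSize, one_mul]
    exact Subgroup.card_le_of_le hle
  | M :: r, L, hc, hfin, hmem, hle, hT => by
    simp only [chainOK, Bool.and_eq_true] at hc
    obtain ⟨⟨⟨hok, hlet⟩, hfix⟩, hr⟩ := hc
    simp only [Lev.ok, Bool.and_eq_true, decide_eq_true_eq] at hok
    obtain ⟨hb, horb⟩ := hok
    simp only [Lev.letters, List.all_eq_true, decide_eq_true_eq] at hlet
    let act : MulAction L (Fin n) := MulAction.compHom (Fin n) (ψ.comp L.subtype)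
    letI := act
    set p : Fin n := ⟨M.b, hb⟩
    let S : Subgroup G := (MulAction.stabilizer L p).map L.subtype
    have hS : chainSize r * Nat.card T ≤ Nat.card S := by
      haveI : Finite L := hfin
      have hSfin : Finite S := Finite.of_equiv _
        ((MulAction.stabilizer L p).equivMapOfInjective L.subtype L.subtype_injective).toEquiv
      refine chain_fix hψ r S hr hSfin (fun K hK w hw => ?_)
        (fun g hg => ⟨⟨g, hle hg⟩, (by
          rw [SetLike.mem_coe, MulAction.mem_stabilizer_iff]
          exact hT g hg M List.mem_cons_self p rfl), rfl⟩)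
        (fun g hg K hK => hT g hg K (List.mem_cons_of_mem M hK))
      refine ⟨⟨_, hmem K (List.mem_cons_of_mem M hK) w hw⟩, ?_, rfl⟩
      have hfw := List.all_eq_true.1 hfix K hK
      simp only [Lev.fixes, List.all_eq_true, beq_iff_eq] at hfw
      rw [SetLike.mem_coe, MulAction.mem_stabilizer_iff]
      show ψ (wval im w) p = p
      have hl : ∀ l ∈ w, l < tabs.length := by
        intro l hl
        have hcl := chain_bound.chain_letters.{0} tabs r hr K hK
        exact hcl w hw l hl
      have e := evalW_apply im ψ tabs hψ w hl p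
      rw [show evalW tabs w (p : ℕ) = M.b from hfw w hw] at e
      have e' : (ψ (wval im w))⁻¹ p = p := Fin.ext e
      conv_lhs => rw [← e']
      simp
    have horbit : M.orb.length + 1 ≤ Nat.card (MulAction.orbit L p) := by
      have scan : ∀ (es : List (ℕ × ℕ × ℕ)) (seen : ℕ) (S : Finset (Fin n)),
          (∀ x : Fin n, seen.testBit x = true ↔ x ∈ S) → (∀ j, n ≤ j → seen.testBit j = false) →
          (∀ x ∈ S, x ∈ MulAction.orbit L p) → scanOrb tabs n M.gens seen es = true →
          S.card + es.length ≤ Nat.card (MulAction.orbit L p) := by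
        intro es
        induction es with
        | nil =>
          intro seen S _ _ hS _
          have hf : Function.Injective (fun x : S => (⟨x.1, hS x.1 x.2⟩ : MulAction.orbit L p)) := fun a b h => by
            simp only [Subtype.mk.injEq] at h
            exact Subtype.ext h
          simpa using Nat.card_le_card_of_injective _ hf
        | cons e r ih =>
          intro seen S hseen hhigh hS hsc
          obtain ⟨q, par, g⟩ := e
          simp only [scanOrb, Bool.and_eq_true, decide_eq_true_eq, Bool.not_eq_true', beq_iff_eq] at hsc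
          obtain ⟨⟨⟨⟨⟨hq, hnew⟩, hpar⟩, hg⟩, hev⟩, hrest⟩ := hsc
          have hparlt : par < n := by
            by_contra h
            rw [hhigh par (by omega)] at hpar
            exact Bool.noConfusion hpar
          rw [List.getD_eq_getElem _ _ hg] at hev
          have hw : M.gens[g] ∈ M.gens := List.getElem_mem hg
          have e := evalW_apply im ψ tabs hψ _ (hlet _ hw) ⟨par, hparlt⟩
          rw [hev] at e
          have hqo : (⟨q, hq⟩ : Fin n) ∈ MulAction.orbit L p := by
            obtain ⟨k, hk⟩ := hS ⟨par, hparlt⟩ ((hseen _).1 hpar)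
            refine ⟨⟨_, L.inv_mem (hmem M List.mem_cons_self _ hw)⟩ * k, ?_⟩
            show (ψ ((wval im _)⁻¹ * (k : G))) p = _
            rw [map_mul, Equiv.Perm.mul_apply, show (ψ (k : G)) p = _ from hk, map_inv]
            exact Fin.ext e
          have hqS : (⟨q, hq⟩ : Fin n) ∉ S := fun h => by
            rw [(hseen _).2 h] at hnew
            exact Bool.noConfusion hnew
          have := ih (seen ||| 1 <<< q) (insert ⟨q, hq⟩ S)
            (fun x => by
              rw [Nat.testBit_or, Nat.one_shiftLeft, Nat.testBit_two_pow, Bool.or_eq_true, decide_eq_true_eq,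
                hseen, Finset.mem_insert, Fin.ext_iff]
              exact or_comm.trans (or_congr ⟨Eq.symm, Eq.symm⟩ Iff.rfl))
            (fun j hj => by
              rw [Nat.testBit_or, Nat.one_shiftLeft, Nat.testBit_two_pow, hhigh j hj, Bool.false_or,
                decide_eq_false_iff_not]
              omega)
            (fun x hx => by
              rcases Finset.mem_insert.1 hx with rfl | hx
              · exact hqo
              · exact hS x hx) hrest
          rw [Finset.card_insert_of_notMem hqS] at this
          simp only [List.length_cons]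
          omega
      have := scan M.orb (1 <<< M.b) {p} (fun x => by
          rw [Nat.one_shiftLeft, Nat.testBit_two_pow, decide_eq_true_eq, Finset.mem_singleton, Fin.ext_iff]
          exact ⟨Eq.symm, Eq.symm⟩)
        (fun j hj => by rw [Nat.one_shiftLeft, Nat.testBit_two_pow, decide_eq_false_iff_not]; omega)
        (fun x hx => by rw [Finset.mem_singleton.1 hx]; exact MulAction.mem_orbit_self p) horb
      rw [Finset.card_singleton] at this
      omega
    calc chainSize (M :: r) * Nat.card T = (M.orb.length + 1) * (chainSize r * Nat.card T) := by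
          rw [chainSize, mul_assoc]
      _ ≤ Nat.card (MulAction.orbit L p) * Nat.card (MulAction.stabilizer L p) := by
          refine Nat.mul_le_mul horbit (hS.trans (le_of_eq ?_))
          exact Nat.card_congr ((MulAction.stabilizer L p).equivMapOfInjective L.subtype L.subtype_injective).symm.toEquiv
      _ = Nat.card L := by
          rw [← Nat.card_prod]
          exact Nat.card_congr (MulAction.orbitProdStabilizerEquivGroup L p)

end Cfsg.Lib.CosetCert

namespace Cfsg.Lib.HePres

open Cfsg.Lib.CosetCert Cfsg.Lib.PermCert

/-- The base points of the chain of the whole group. -/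
def basePts : List ℕ := chainG.map fun K => K.b

theorem basePts_lt : ∀ b ∈ basePts, b < 2058 := by decide

theorem eq_one_of_fix {g : Cfsg.Spor.He} (h : ∀ x : Fin 2058, (x : ℕ) ∈ basePts → psi g x = x) : g = 1 := by
  have hle : Subgroup.zpowers g ≤ ⊤ := le_top
  have hfix : ∀ a ∈ Subgroup.zpowers g, ∀ K ∈ chainG, ∀ x : Fin 2058, (x : ℕ) = K.b → psi a x = x := by
    rintro a ha K hK x hx
    obtain ⟨k, rfl⟩ := Subgroup.mem_zpowers_iff.mp ha
    rw [map_zpow]
    exact Equiv.Perm.zpow_apply_eq_self_of_apply_eq_self (h x (hx ▸ List.mem_map_of_mem (f := fun K : Lev => K.b) hK)) k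
  have h0 := chain_fix im9 psi sigTabs (Subgroup.zpowers g) psi_im9 chainG ⊤ chainG_ok.1 inferInstance
    (fun _ _ w _ => Subgroup.mem_top _) hle hfix
  rw [chainG_ok.2.1, Subgroup.card_top, card_he] at h0
  have h1 : Nat.card (Subgroup.zpowers g) = 1 := le_antisymm (by omega) Nat.card_pos
  rwa [Nat.card_zpowers, orderOf_eq_one_iff] at h1

theorem ext_base {g h : Cfsg.Spor.He} (e : ∀ x : Fin 2058, (x : ℕ) ∈ basePts → psi g x = psi h x) : g = h := by
  refine (inv_mul_eq_one.mp (eq_one_of_fix (g := h⁻¹ * g) fun x hx => ?_)).symm
  rw [map_mul, map_inv, Equiv.Perm.mul_apply, e x hx]; exact (psi h).symm_apply_apply x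

end Cfsg.Lib.HePres
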