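import Cfsg.Agent.Schur.PrimeCert
import Cfsg.Agent.CosetCert.Lower

/-!
Certificates for Sylow subgroups of the Held group.
-/

set_option autoImplicit false

namespace Cfsg.Lib.HePres

open Cfsg.Lib.Schur.Prime (Cert)
open Cfsg.Lib.CosetCert (Lev)

/-- The certificate. -/
def cert2 : Cert where
  p := 2
  n := 10
  tails := [[[4, 5]],
    [[0, 1, 2, 4, 5, 8, 9], [2, 8, 9]],
    [[0, 2, 5, 6, 7, 8, 9], [1, 2, 9], []],
    [[0, 3, 4, 5, 8, 9], [1, 3, 4, 6, 9], [2, 3, 5, 6, 7, 9], []],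
    [[0, 4, 8], [1, 4, 5, 6], [2, 4, 8, 9], [3, 4, 9], [9]],
    [[0, 5, 8], [1, 5, 7, 8, 9], [2, 5, 8, 9], [3, 5], [4, 5, 9], []],
    [[0, 6, 9], [1, 6, 7], [2, 6, 8], [3, 6], [4, 6, 9], [5, 6, 9], [9]],
    [[0, 7, 8], [1, 7, 8], [2, 7, 9], [3, 7], [4, 7, 9], [5, 7], [6, 7], []],
    [[0, 8, 9], [1, 8, 9], [2, 8], [3, 8, 9], [4, 8], [5, 8], [6, 8], [7, 8], []],
    [[0, 9], [1, 9], [2, 9], [3, 9], [4, 9], [5, 9], [6, 9], [7, 9], [8, 9], []]]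
  overlaps := [([2, 1, 0], 1),
    ([3, 1, 0], 1),
    ([3, 2, 0], 1),
    ([3, 2, 1], 1),
    ([4, 1, 0], 1),
    ([4, 2, 0], 1),
    ([4, 2, 1], 1),
    ([4, 3, 0], 1),
    ([4, 3, 1], 1),
    ([4, 3, 2], 1),
    ([5, 1, 0], 1),
    ([5, 2, 0], 1),
    ([5, 2, 1], 1),
    ([5, 3, 0], 1),
    ([5, 3, 1], 1),
    ([5, 3, 2], 1),
    ([5, 4, 0], 1),
    ([5, 4, 1], 1),
    ([5, 4, 2], 1),
    ([5, 4, 3], 1),
    ([6, 1, 0], 1),
    ([6, 2, 0], 1),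
    ([6, 2, 1], 1),
    ([6, 3, 0], 1),
    ([6, 3, 1], 1),
    ([6, 3, 2], 1),
    ([6, 4, 0], 1),
    ([6, 4, 1], 1),
    ([6, 4, 2], 1),
    ([6, 4, 3], 1),
    ([6, 5, 0], 1),
    ([6, 5, 1], 1),
    ([6, 5, 2], 1),
    ([6, 5, 3], 1),
    ([6, 5, 4], 1),
    ([7, 1, 0], 1),
    ([7, 2, 0], 1),
    ([7, 2, 1], 1),
    ([7, 3, 0], 1),
    ([7, 3, 1], 1),
    ([7, 3, 2], 1),
    ([7, 4, 0], 1),
    ([7, 4, 1], 1),
    ([7, 4, 2], 1),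
    ([7, 4, 3], 1),
    ([7, 5, 0], 1),
    ([7, 5, 1], 1),
    ([7, 5, 2], 1),
    ([7, 5, 3], 1),
    ([7, 5, 4], 1),
    ([7, 6, 0], 1),
    ([7, 6, 1], 1),
    ([7, 6, 2], 1),
    ([7, 6, 3], 1),
    ([7, 6, 4], 1),
    ([7, 6, 5], 1),
    ([8, 1, 0], 1),
    ([8, 2, 0], 1),
    ([8, 2, 1], 1),
    ([8, 3, 0], 1),
    ([8, 3, 1], 1),
    ([8, 3, 2], 1),
    ([8, 4, 0], 1),
    ([8, 4, 1], 1),
    ([8, 4, 2], 1),
    ([8, 4, 3], 1),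
    ([8, 5, 0], 1),
    ([8, 5, 1], 1),
    ([8, 5, 2], 1),
    ([8, 5, 3], 1),
    ([8, 5, 4], 1),
    ([8, 6, 0], 1),
    ([8, 6, 1], 1),
    ([8, 6, 2], 1),
    ([8, 6, 3], 1),
    ([8, 6, 4], 1),
    ([8, 6, 5], 1),
    ([8, 7, 0], 1),
    ([8, 7, 1], 1),
    ([8, 7, 2], 1),
    ([8, 7, 3], 1),
    ([8, 7, 4], 1),
    ([8, 7, 5], 1),
    ([8, 7, 6], 1),
    ([9, 1, 0], 1),
    ([9, 2, 0], 1),
    ([9, 2, 1], 1),
    ([9, 3, 0], 1),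
    ([9, 3, 1], 1),
    ([9, 3, 2], 1),
    ([9, 4, 0], 1),
    ([9, 4, 1], 1),
    ([9, 4, 2], 1),
    ([9, 4, 3], 1),
    ([9, 5, 0], 1),
    ([9, 5, 1], 1),
    ([9, 5, 2], 1),
    ([9, 5, 3], 1),
    ([9, 5, 4], 1),
    ([9, 6, 0], 1),
    ([9, 6, 1], 1),
    ([9, 6, 2], 1),
    ([9, 6, 3], 1),
    ([9, 6, 4], 1),
    ([9, 6, 5], 1),
    ([9, 7, 0], 1),
    ([9, 7, 1], 1),
    ([9, 7, 2], 1),
    ([9, 7, 3], 1),
    ([9, 7, 4], 1),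
    ([9, 7, 5], 1),
    ([9, 7, 6], 1),
    ([9, 8, 0], 1),
    ([9, 8, 1], 1),
    ([9, 8, 2], 1),
    ([9, 8, 3], 1),
    ([9, 8, 4], 1),
    ([9, 8, 5], 1),
    ([9, 8, 6], 1),
    ([9, 8, 7], 1),
    ([0, 0, 0], 1),
    ([1, 1, 1], 1),
    ([1, 1, 0], 1),
    ([1, 0, 0], 1),
    ([2, 2, 2], 1),
    ([2, 2, 0], 1),
    ([2, 0, 0], 1),
    ([2, 2, 1], 1),
    ([2, 1, 1], 1),
    ([3, 3, 3], 1),
    ([3, 3, 0], 1),
    ([3, 0, 0], 1),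
    ([3, 3, 1], 1),
    ([3, 1, 1], 1),
    ([3, 3, 2], 1),
    ([3, 2, 2], 1),
    ([4, 4, 4], 1),
    ([4, 4, 0], 1),
    ([4, 0, 0], 1),
    ([4, 4, 1], 1),
    ([4, 1, 1], 1),
    ([4, 4, 2], 1),
    ([4, 2, 2], 1),
    ([4, 4, 3], 1),
    ([4, 3, 3], 1),
    ([5, 5, 5], 1),
    ([5, 5, 0], 1),
    ([5, 0, 0], 1),
    ([5, 5, 1], 1),
    ([5, 1, 1], 1),
    ([5, 5, 2], 1),
    ([5, 2, 2], 1),
    ([5, 5, 3], 1),
    ([5, 3, 3], 1),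
    ([5, 5, 4], 1),
    ([5, 4, 4], 1),
    ([6, 6, 6], 1),
    ([6, 6, 0], 1),
    ([6, 0, 0], 1),
    ([6, 6, 1], 1),
    ([6, 1, 1], 1),
    ([6, 6, 2], 1),
    ([6, 2, 2], 1),
    ([6, 6, 3], 1),
    ([6, 3, 3], 1),
    ([6, 6, 4], 1),
    ([6, 4, 4], 1),
    ([6, 6, 5], 1),
    ([6, 5, 5], 1),
    ([7, 7, 7], 1),
    ([7, 7, 0], 1),
    ([7, 0, 0], 1),
    ([7, 7, 1], 1),
    ([7, 1, 1], 1),
    ([7, 7, 2], 1),
    ([7, 2, 2], 1),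
    ([7, 7, 3], 1),
    ([7, 3, 3], 1),
    ([7, 7, 4], 1),
    ([7, 4, 4], 1),
    ([7, 7, 5], 1),
    ([7, 5, 5], 1),
    ([7, 7, 6], 1),
    ([7, 6, 6], 1),
    ([8, 8, 8], 1),
    ([8, 8, 0], 1),
    ([8, 0, 0], 1),
    ([8, 8, 1], 1),
    ([8, 1, 1], 1),
    ([8, 8, 2], 1),
    ([8, 2, 2], 1),
    ([8, 8, 3], 1),
    ([8, 3, 3], 1),
    ([8, 8, 4], 1),
    ([8, 4, 4], 1),
    ([8, 8, 5], 1),
    ([8, 5, 5], 1),
    ([8, 8, 6], 1),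
    ([8, 6, 6], 1),
    ([8, 8, 7], 1),
    ([8, 7, 7], 1),
    ([9, 9, 9], 1),
    ([9, 9, 0], 1),
    ([9, 0, 0], 1),
    ([9, 9, 1], 1),
    ([9, 1, 1], 1),
    ([9, 9, 2], 1),
    ([9, 2, 2], 1),
    ([9, 9, 3], 1),
    ([9, 3, 3], 1),
    ([9, 9, 4], 1),
    ([9, 4, 4], 1),
    ([9, 9, 5], 1),
    ([9, 5, 5], 1),
    ([9, 9, 6], 1),
    ([9, 6, 6], 1),
    ([9, 9, 7], 1),
    ([9, 7, 7], 1),
    ([9, 9, 8], 1),
    ([9, 8, 8], 1)]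
  fuse := [([[0, 2, 3, 6, 7, 8], [2, 5, 6, 7], [4, 6, 7]], [[0, 3, 4, 8, 9], [5, 7], [4, 5, 8]], [([0, 0], []), ([1, 0], [0, 1]), ([1, 1], []), ([2, 0], [0, 2]), ([2, 1], [1, 2]), ([2, 2], [])]),
    ([[0, 1, 4, 6, 9], [2, 5], [4, 7, 8, 9], [5, 6, 8, 9], [8, 9]], [[0, 3, 4, 5, 6, 7, 9], [0, 2, 4], [3], [4, 5, 8, 9], [4, 6, 7, 8, 9]], [([0, 0], []), ([1, 0], [0, 1, 3]), ([1, 1], [4]), ([2, 0], [0, 2, 3]), ([2, 1], [1, 2, 4]), ([2, 2], []), ([3, 0], [0, 3]), ([3, 1], [1, 3]), ([3, 2], [2, 3]), ([3, 3], []), ([4, 0], [0, 4]), ([4, 1], [1, 4]), ([4, 2], [2, 4]), ([4, 3], [3, 4]), ([4, 4], [])]),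
    ([[0, 1, 2, 4, 6, 8, 9], [3], [4], [5], [6], [7], [8], [9]], [[0, 2], [3, 5, 7], [3, 4, 7, 9], [7], [4, 6, 9], [5, 9], [5, 8, 9], [9]], [([0, 0], [3, 4, 5, 6, 7]), ([1, 0], [0, 1, 3, 4, 7]), ([1, 1], []), ([2, 0], [0, 2, 3, 4, 7]), ([2, 1], [1, 2, 7]), ([2, 2], [7]), ([3, 0], [0, 3, 5, 6, 7]), ([3, 1], [1, 3]), ([3, 2], [2, 3, 7]), ([3, 3], []), ([4, 0], [0, 4, 5, 6]), ([4, 1], [1, 4]), ([4, 2], [2, 4, 7]), ([4, 3], [3, 4, 7]), ([4, 4], [7]), ([5, 0], [0, 5, 7]), ([5, 1], [1, 5]), ([5, 2], [2, 5, 7]), ([5, 3], [3, 5]), ([5, 4], [4, 5]), ([5, 5], []), ([6, 0], [0, 6]), ([6, 1], [1, 6, 7]), ([6, 2], [2, 6]), ([6, 3], [3, 6]), ([6, 4], [4, 6]), ([6, 5], [5, 6]), ([6, 6], []), ([7, 0], [0, 7]), ([7, 1], [1, 7]), ([7, 2], [2, 7]), ([7, 3], [3, 7]), ([7, 4], [4, 7]), ([7, 5], [5, 7]), ([7, 6], [6, 7]), ([7, 7], [])])]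
  delta := [[], [], [(10, 1), (30, 1)], [], [(21, 1), (31, 1)], [(0, 1), (21, 1), (31, 1)], [], [(20, 1), (21, 1), (30, 1), (31, 1)], [(0, 1), (21, 1), (30, 1)], [(21, 1)]]
  sels := [[[]],
    [[], [(0, 1), (1, 1), (6, 1), (8, 1), (11, 1), (12, 1), (14, 1), (17, 1), (18, 1), (20, 1), (23, 1), (120, 1), (122, 1), (130, 1), (226, 1), (228, 1), (230, 1), (231, 1), (232, 1)]],
    [[], [], [(0, 1), (1, 1), (2, 1), (3, 1), (5, 1), (6, 1), (7, 1), (11, 1), (13, 1), (17, 1), (18, 1), (20, 1), (22, 1), (23, 1), (25, 1), (26, 1), (28, 1), (120, 1), (122, 1), (123, 1), (130, 1), (132, 1), (222, 1), (224, 1), (227, 1), (229, 1), (231, 1), (232, 1), (233, 1), (245, 1), (246, 1)]],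
    [[], [], [(1, 1), (6, 1), (8, 1), (9, 1), (11, 1), (15, 1), (16, 1), (17, 1), (18, 1), (19, 1), (22, 1), (23, 1), (27, 1), (32, 1), (120, 1), (121, 1), (123, 1), (132, 1), (221, 1), (222, 1), (228, 1), (230, 1), (231, 1), (245, 1), (246, 1)], [(0, 1), (1, 1), (3, 1), (6, 1), (8, 1), (12, 1), (14, 1), (16, 1), (17, 1), (18, 1), (19, 1), (26, 1), (27, 1), (120, 1), (121, 1), (122, 1), (123, 1), (132, 1), (133, 1), (232, 1), (245, 1), (246, 1)]],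
    [[(1, 1), (2, 1), (5, 1), (7, 1), (8, 1), (9, 1), (10, 1), (11, 1), (12, 1), (13, 1), (16, 1), (17, 1), (19, 1), (25, 1), (27, 1), (120, 1), (122, 1), (222, 1), (224, 1), (228, 1), (230, 1), (243, 1)], [(0, 1), (1, 1), (2, 1), (3, 1), (4, 1), (5, 1), (9, 1), (15, 1), (16, 1), (20, 1), (24, 1), (26, 1), (32, 1), (120, 1), (122, 1), (130, 1), (133, 1), (222, 1), (228, 1), (230, 1), (231, 1), (232, 1), (242, 1), (243, 1), (244, 1), (245, 1), (246, 1)], [(2, 1), (5, 1), (6, 1), (8, 1), (9, 1), (10, 1), (13, 1), (17, 1), (18, 1), (19, 1), (21, 1), (25, 1), (27, 1), (28, 1), (130, 1), (221, 1), (228, 1), (230, 1), (233, 1)], [(1, 1), (6, 1), (7, 1), (8, 1), (9, 1), (12, 1), (14, 1), (15, 1), (16, 1), (17, 1), (18, 1), (21, 1), (23, 1), (24, 1), (32, 1), (122, 1), (123, 1), (130, 1), (132, 1), (133, 1), (224, 1), (231, 1), (232, 1), (233, 1), (243, 1), (245, 1),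 (246, 1)], [(4, 1), (7, 1), (9, 1), (11, 1), (12, 1), (13, 1), (14, 1), (16, 1), (17, 1), (18, 1), (19, 1), (22, 1), (26, 1), (27, 1), (28, 1), (121, 1), (122, 1), (123, 1), (133, 1), (227, 1), (229, 1), (231, 1), (245, 1), (246, 1)]],
    [[(0, 1), (1, 1), (2, 1), (3, 1), (7, 1), (8, 1), (10, 1), (12, 1), (13, 1), (16, 1), (19, 1), (22, 1), (26, 1), (28, 1), (122, 1), (222, 1), (224, 1), (228, 1), (230, 1), (243, 1)], [(0, 1), (1, 1), (2, 1), (3, 1), (8, 1), (9, 1), (10, 1), (12, 1), (14, 1), (17, 1), (18, 1), (21, 1), (22, 1), (23, 1), (24, 1), (25, 1), (28, 1), (121, 1), (122, 1), (123, 1), (132, 1), (227, 1), (228, 1), (229, 1), (230, 1), (232, 1), (233, 1), (242, 1), (243, 1), (244, 1)], [(0, 1), (2, 1), (3, 1), (6, 1), (7, 1), (8, 1), (12, 1), (14, 1), (15, 1), (18, 1), (20, 1), (21, 1), (22, 1), (23, 1), (24, 1), (130, 1), (221, 1), (224, 1), (228, 1),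 (230, 1), (233, 1)], [(0, 1), (2, 1), (3, 1), (4, 1), (5, 1), (6, 1), (9, 1), (11, 1), (12, 1), (13, 1), (15, 1), (17, 1), (18, 1), (19, 1), (20, 1), (24, 1), (28, 1), (32, 1), (120, 1), (121, 1), (122, 1), (123, 1), (132, 1), (231, 1), (243, 1), (245, 1), (246, 1)], [(0, 1), (1, 1), (2, 1), (3, 1), (8, 1), (9, 1), (11, 1), (12, 1), (15, 1), (16, 1), (18, 1), (20, 1), (24, 1), (25, 1), (26, 1), (27, 1), (28, 1), (32, 1), (121, 1), (122, 1), (123, 1), (130, 1), (227, 1), (229, 1), (232, 1)], [(1, 1), (4, 1), (5, 1), (6, 1), (10, 1), (11, 1), (16, 1), (19, 1), (20, 1), (21, 1), (24, 1), (25, 1), (27, 1), (32, 1), (120, 1), (122, 1), (123, 1), (224, 1), (227, 1), (229, 1), (231, 1), (232, 1), (233, 1), (245, 1), (246, 1)]],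
    [[(0, 1), (1, 1), (3, 1), (4, 1), (5, 1), (11, 1), (12, 1), (13, 1), (14, 1), (16, 1), (18, 1), (19, 1), (22, 1), (23, 1), (24, 1), (25, 1), (26, 1), (27, 1), (32, 1), (122, 1), (130, 1), (221, 1), (222, 1), (224, 1), (233, 1), (243, 1)], [(0, 1), (1, 1), (3, 1), (8, 1), (10, 1), (13, 1), (15, 1), (17, 1), (19, 1), (20, 1), (26, 1), (27, 1), (28, 1), (32, 1), (120, 1), (122, 1), (123, 1), (133, 1), (221, 1), (224, 1), (233, 1), (242, 1), (243, 1), (244, 1)], [(4, 1), (5, 1), (6, 1), (7, 1), (10, 1), (18, 1), (20, 1), (21, 1), (23, 1), (24, 1), (25, 1), (27, 1), (32, 1), (121, 1), (130, 1), (221, 1), (224, 1), (228, 1), (230, 1), (233, 1)], [(0, 1), (1, 1), (3, 1), (4, 1), (6, 1), (7, 1), (12, 1), (18, 1), (22, 1), (25, 1), (27, 1), (28, 1), (121, 1), (130, 1), (132, 1), (224, 1), (227, 1), (229, 1), (231, 1), (232, 1), (233, 1), (243, 1), (245, 1), (246,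 1)], [(6, 1), (7, 1), (9, 1), (10, 1), (13, 1), (14, 1), (15, 1), (16, 1), (18, 1), (20, 1), (22, 1), (23, 1), (24, 1), (25, 1), (27, 1), (28, 1), (32, 1), (120, 1), (121, 1), (224, 1), (233, 1)], [(6, 1), (10, 1), (11, 1), (12, 1), (13, 1), (14, 1), (15, 1), (16, 1), (17, 1), (19, 1), (20, 1), (21, 1), (23, 1), (24, 1), (25, 1), (27, 1), (28, 1), (32, 1), (120, 1), (121, 1), (224, 1), (233, 1)], [(0, 1), (3, 1), (6, 1), (7, 1), (8, 1), (9, 1), (10, 1), (11, 1), (12, 1), (13, 1), (14, 1), (20, 1), (21, 1), (22, 1), (26, 1), (27, 1), (28, 1), (120, 1), (121, 1), (132, 1), (224, 1), (231, 1), (233, 1), (245, 1), (246, 1)]],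
    [[(1, 1), (2, 1), (4, 1), (8, 1), (11, 1), (13, 1), (16, 1), (18, 1), (19, 1), (21, 1), (22, 1), (23, 1), (26, 1), (27, 1), (121, 1), (122, 1), (123, 1), (221, 1), (224, 1), (227, 1), (228, 1), (229, 1), (230, 1), (232, 1), (233, 1)], [(0, 1), (2, 1), (5, 1), (6, 1), (7, 1), (8, 1), (9, 1), (12, 1), (13, 1), (15, 1), (16, 1), (17, 1), (18, 1), (19, 1), (20, 1), (26, 1), (32, 1), (121, 1), (122, 1), (123, 1), (130, 1), (133, 1), (221, 1), (227, 1), (228, 1), (229, 1), (230, 1), (232, 1)], [(7, 1), (9, 1), (13, 1), (14, 1), (15, 1), (17, 1), (18, 1), (19, 1), (22, 1), (24, 1), (25, 1), (26, 1), (121, 1)], [(0, 1), (1, 1), (3, 1), (4, 1), (5, 1), (7, 1), (12, 1), (17, 1), (18, 1), (21, 1), (23, 1), (24, 1), (25, 1), (26, 1), (27, 1), (120, 1), (122, 1), (123, 1), (130, 1), (224, 1), (227, 1), (229, 1), (232, 1), (233, 1)], [(0, 1), (3, 1), (5, 1), (12, 1), (13,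 1), (14, 1), (15, 1), (16, 1), (18, 1), (22, 1), (23, 1), (24, 1), (25, 1), (28, 1), (120, 1), (121, 1), (224, 1), (233, 1)], [(1, 1), (2, 1), (5, 1), (7, 1), (8, 1), (9, 1), (12, 1), (13, 1), (14, 1), (15, 1), (16, 1), (19, 1), (20, 1), (21, 1), (23, 1), (28, 1), (120, 1), (122, 1), (123, 1), (130, 1), (224, 1), (227, 1), (229, 1), (232, 1), (233, 1)], [(1, 1), (2, 1), (5, 1), (8, 1), (11, 1), (17, 1), (18, 1), (20, 1), (22, 1), (23, 1), (24, 1), (25, 1), (26, 1), (32, 1), (120, 1), (122, 1), (123, 1), (130, 1), (224, 1), (227, 1), (229, 1), (232, 1), (233, 1)], [(1, 1), (4, 1), (8, 1), (10, 1), (12, 1), (14, 1), (19, 1), (20, 1), (21, 1), (24, 1), (26, 1), (121, 1), (132, 1), (224, 1), (227, 1), (229, 1), (232, 1), (233, 1)]],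
    [[(0, 1), (1, 1), (3, 1), (4, 1), (6, 1), (10, 1), (13, 1), (14, 1), (18, 1), (20, 1), (21, 1), (24, 1), (26, 1), (28, 1), (121, 1), (122, 1), (123, 1), (130, 1), (227, 1), (229, 1), (232, 1)], [(0, 1), (3, 1), (5, 1), (6, 1), (7, 1), (10, 1), (11, 1), (14, 1), (15, 1), (16, 1), (17, 1), (18, 1), (20, 1), (21, 1), (22, 1), (23, 1), (24, 1), (25, 1), (32, 1), (121, 1)], [(0, 1), (2, 1), (3, 1), (4, 1), (5, 1), (8, 1), (9, 1), (14, 1), (16, 1), (17, 1), (20, 1), (21, 1), (25, 1), (27, 1), (32, 1)], [(0, 1), (1, 1), (3, 1), (4, 1), (6, 1), (10, 1), (13, 1), (14, 1), (17, 1), (20, 1), (24, 1), (25, 1), (26, 1), (27, 1), (28, 1), (121, 1), (122, 1), (123, 1), (130, 1), (227, 1), (229, 1), (232, 1)], [(2, 1), (4, 1), (5, 1), (6, 1), (8, 1), (9, 1), (10, 1), (11, 1), (17, 1), (18, 1), (21, 1), (22, 1), (24, 1), (27, 1), (28, 1)], [(2, 1), (4, 1), (5, 1), (6, 1),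 (8, 1), (9, 1), (10, 1), (11, 1), (17, 1), (18, 1), (21, 1), (22, 1), (24, 1), (27, 1), (32, 1)], [(5, 1), (7, 1), (12, 1), (13, 1), (14, 1), (15, 1), (16, 1), (21, 1), (22, 1), (24, 1), (26, 1), (27, 1)], [(0, 1), (3, 1), (5, 1), (6, 1), (7, 1), (10, 1), (12, 1), (14, 1), (16, 1), (18, 1), (19, 1), (20, 1), (23, 1), (24, 1), (26, 1), (27, 1), (28, 1)], [(0, 1), (2, 1), (3, 1), (4, 1), (6, 1), (8, 1), (10, 1), (18, 1), (21, 1), (24, 1), (25, 1), (26, 1), (28, 1), (32, 1)]],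
    [[(16, 1), (28, 1), (32, 1)], [(0, 1), (2, 1), (3, 1), (4, 1), (7, 1), (8, 1), (11, 1), (12, 1), (13, 1), (14, 1), (15, 1), (16, 1), (20, 1), (21, 1), (22, 1), (25, 1), (26, 1), (28, 1)], [(2, 1), (4, 1), (6, 1), (7, 1), (8, 1), (10, 1), (14, 1), (15, 1), (16, 1), (21, 1), (22, 1), (23, 1), (28, 1), (32, 1)], [(2, 1), (4, 1), (5, 1), (6, 1), (8, 1), (10, 1), (12, 1), (13, 1), (16, 1), (18, 1), (19, 1), (23, 1), (24, 1), (27, 1), (28, 1), (32, 1)], [(5, 1), (7, 1), (12, 1), (13, 1), (14, 1), (15, 1), (21, 1), (22, 1), (24, 1), (27, 1), (28, 1), (32, 1)], [(2, 1), (4, 1), (5, 1), (6, 1), (8, 1), (10, 1), (12, 1), (13, 1), (16, 1), (18, 1), (23, 1), (24, 1), (27, 1), (28, 1), (32, 1)], [(7, 1), (9, 1), (11, 1), (12, 1), (18, 1), (21, 1), (22, 1), (23, 1), (27, 1), (28, 1), (32, 1)], [(7, 1), (14, 1), (17, 1), (23, 1), (24, 1), (26, 1), (27, 1)], [(7, 1), (13,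 1), (17, 1), (26, 1), (27, 1)], [(2, 1), (4, 1), (5, 1), (6, 1), (7, 1), (8, 1), (10, 1), (12, 1), (18, 1), (23, 1), (24, 1), (27, 1), (28, 1), (32, 1)]]]

/-- Words of the generators. -/
def pcw2 : List (List ℕ) := [[3, 5, 3, 2, 6, 3, 4, 2, 3, 1, 2, 3, 5, 4, 3, 6, 2],
    [0, 4, 3, 2, 1, 3, 2, 1, 3, 2, 6, 3, 2, 1, 3, 2, 3, 6, 5, 2, 3, 4, 2, 3, 6, 3, 2, 0],
    [0, 2, 3, 2, 6, 3, 4, 5, 3, 2, 3, 1, 2, 3, 5, 4, 3, 6, 2, 3, 2, 0],
    [2, 1, 0, 3, 2, 3, 6, 3, 1, 2, 3, 5, 3, 1, 2, 3, 2, 0],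
    [5, 6, 3, 2, 1, 0, 3, 2, 1, 3, 2, 3, 2, 1, 0, 6, 3, 2, 3, 6, 4, 2, 3, 1, 2, 3, 6, 5, 2],
    [0, 1, 0, 6, 3, 2, 1, 3, 2, 1, 0, 3, 2, 3, 6, 3, 2, 1, 3, 2, 3, 5, 3, 2, 3, 0, 1, 2, 3, 1, 0],
    [1, 3, 2, 3, 2, 1, 0, 5, 3, 6, 4, 2, 3, 2, 3, 1, 2, 3, 6, 4, 2, 0],
    [5, 6, 3, 2, 3, 2, 1, 3, 2, 6, 3, 2, 1, 3, 2, 3, 6, 2, 3, 1, 2, 3, 2, 3, 6, 5],
    [0, 4, 5, 3, 2, 3, 2, 4, 3, 6, 1, 2, 3, 4, 2, 3, 2, 3, 5, 0],
    [6, 3, 2, 1, 3, 2, 1, 4, 6, 3, 2, 1, 3, 4, 6, 3, 2, 3, 6, 4, 1, 2, 3, 1, 2, 3, 6]]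

/-- Words of the conjugating elements. -/
def fw2 : List (List ℕ) := [[5, 3, 6, 5, 3, 2, 4, 3, 2, 6, 3, 2, 1, 3, 2, 3, 5, 2, 3, 1, 2, 3, 5, 1, 2, 3, 2, 0],
    [0, 2, 1, 5, 3, 2, 1, 3, 2, 3, 2, 1, 4, 5, 3, 2, 1, 6, 3, 2, 3, 6, 4, 2, 3, 5, 4, 2, 1, 0],
    [1, 4, 3, 2, 1, 3, 2, 3, 2, 1, 5, 3, 2, 3, 4, 2, 3, 6, 4, 3, 1, 2, 3, 4, 3]]

/-- The certificate. -/
def cert3 : Cert where
  p := 3
  n := 3
  tails := [[[]],
    [[0, 1, 2, 2], []],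
    [[0, 2], [1, 2], []]]
  overlaps := [([2, 1, 0], 1),
    ([0, 0, 0, 0], 1),
    ([1, 1, 1, 1], 1),
    ([1, 1, 1, 0], 2),
    ([1, 0, 0, 0], 1),
    ([2, 2, 2, 2], 1),
    ([2, 2, 2, 0], 2),
    ([2, 0, 0, 0], 1),
    ([2, 2, 2, 1], 2),
    ([2, 1, 1, 1], 1)]
  fuse := [([[0], [1], [2]], [[0, 0, 1, 1, 2, 2], [1, 2, 2], [2, 2]], [([0, 0, 0], []), ([1, 0], [0, 1, 2, 2]), ([1, 1, 1], []), ([2, 0], [0, 2]), ([2, 1], [1, 2]), ([2, 2, 2], [])]),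
    ([[0, 0, 1]], [[1, 1, 2, 2]], [([0, 0, 0], [])]),
    ([[0, 0, 1, 1]], [[0, 0, 2]], [([0, 0, 0], [])])]
  delta := [[], [], [(3, 2)]]
  sels := [[[(10, 2), (17, 2)]],
    [[], [(3, 1), (10, 2), (13, 1), (16, 1)]],
    [[(3, 1), (10, 2), (16, 1), (17, 1)], [(13, 2)], [(3, 1)]]]

/-- Words of the generators. -/
def pcw3 : List (List ℕ) := [[2, 1, 4, 3, 5, 6, 3, 2, 3, 2, 1, 3, 2, 3, 2, 3, 6, 4, 3, 5, 2, 3, 1, 2, 3, 5, 2, 0],
    [0, 1, 3, 4, 6, 3, 2, 4, 3, 2, 1, 6, 3, 2, 1, 3, 2, 3, 6, 1, 2, 3, 5, 6, 1, 2, 1, 0],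
    [1, 3, 2, 6, 5, 3, 2, 1, 3, 2, 3, 4, 5, 3, 2, 1, 3, 6, 4, 2, 3, 2, 3, 5, 6, 3, 2, 1]]

/-- Words of the conjugating elements. -/
def fw3 : List (List ℕ) := [[0, 2, 4, 3, 5, 3, 6, 3, 2, 1, 4, 3, 2, 3, 6, 4, 2, 3, 5, 2, 3, 1, 2, 3, 4, 0],
    [2, 5, 3, 2, 1, 6, 3, 2, 1, 3, 2, 1, 4, 6, 3, 2, 3, 6, 1, 2, 3, 5, 1, 2, 3, 4, 1, 2],
    [4, 3, 2, 3, 5, 3, 2, 1, 3, 2, 1, 4, 3, 5, 3, 6, 3, 2, 3, 5, 1, 2, 3, 6, 2, 3, 4, 0]]

/-- The certificate. -/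
def cert5 : Cert where
  p := 5
  n := 2
  tails := [[[]],
    [[0, 1], []]]
  overlaps := [([0, 0, 0, 0, 0, 0], 1),
    ([1, 1, 1, 1, 1, 1], 1),
    ([1, 1, 1, 1, 1, 0], 4),
    ([1, 0, 0, 0, 0, 0], 1)]
  fuse := [([[0, 0, 1, 1, 1]], [[1]], [([0, 0, 0, 0, 0], [])]),
    ([[1]], [[1, 1, 1]], [([0, 0, 0, 0, 0], [])]),
    ([[0], [1]], [[0, 0, 0, 0, 1, 1, 1, 1], [1]], [([0, 0, 0, 0, 0], []), ([1, 0], [0, 1]), ([1, 1, 1, 1, 1], [])])]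
  delta := [[], []]
  sels := [[[(4, 3), (5, 3)]],
    [[(7, 3)], [(5, 2)]]]

/-- Words of the generators. -/
def pcw5 : List (List ℕ) := [[1, 2, 4, 3, 2, 1, 3, 5, 3, 2, 4, 3, 2, 1, 3, 2, 4, 3, 2, 3, 5, 3, 1, 2, 3, 4, 2, 3],
    [0, 2, 1, 4, 3, 2, 3, 5, 6, 3, 2, 1, 3, 2, 3, 6, 5, 3, 4, 2, 3, 6, 1, 2, 3, 2]]

/-- Words of the conjugating elements. -/
def fw5 : List (List ℕ) := [[1, 0, 3, 6, 3, 2, 3, 4, 6, 3, 2, 1, 5, 3, 2, 3, 6, 4, 2, 3, 1, 2, 3, 1, 2, 3, 4],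
    [1, 3, 2, 3, 2, 1, 5, 3, 2, 3, 4, 6, 3, 2, 1, 3, 2, 3, 2, 3, 6, 3, 1, 2, 3, 4, 3, 0],
    [0, 2, 3, 5, 3, 2, 1, 3, 2, 1, 6, 3, 5, 3, 2, 3, 5, 2, 3, 1, 2, 3, 5, 0, 1, 2, 0]]

/-- The certificate. -/
def cert7 : Cert where
  p := 7
  n := 3
  tails := [[[]],
    [[0, 1, 2, 2], []],
    [[0, 2], [1, 2], []]]
  overlaps := [([2, 1, 0], 1),
    ([0, 0, 0, 0, 0, 0, 0, 0], 1),
    ([1, 1, 1, 1, 1, 1, 1, 1], 1),
    ([1, 1, 1, 1, 1, 1, 1, 0], 6),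
    ([1, 0, 0, 0, 0, 0, 0, 0], 1),
    ([2, 2, 2, 2, 2, 2, 2, 2], 1),
    ([2, 2, 2, 2, 2, 2, 2, 0], 6),
    ([2, 0, 0, 0, 0, 0, 0, 0], 1),
    ([2, 2, 2, 2, 2, 2, 2, 1], 6),
    ([2, 1, 1, 1, 1, 1, 1, 1], 1)]
  fuse := [([[0, 0, 0, 0, 1, 1, 1, 1, 2, 2, 2, 2, 2, 2], [2]], [[0, 0, 0, 0, 0, 0, 2, 2, 2], [0, 0, 0, 0, 0, 0, 2]], [([0, 0, 0, 0, 0, 0, 0], []), ([1, 0], [0, 1]), ([1, 1, 1, 1, 1, 1, 1], [])]),
    ([[0], [1], [2]], [[0, 0, 1, 1, 2, 2], [1, 1, 1, 1, 2], [2]], [([0, 0, 0, 0, 0, 0, 0], []), ([1, 0], [0, 1, 2, 2]), ([1, 1, 1, 1, 1, 1, 1], []), ([2, 0], [0, 2]), ([2, 1], [1, 2]), ([2, 2, 2, 2, 2, 2, 2], [])])]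
  delta := [[], [], [(3, 4)]]
  sels := [[[(12, 1)]],
    [[], [(3, 6), (10, 2), (12, 4)]],
    [[(11, 4), (17, 3)], [(17, 2)], [(3, 3)]]]

/-- Words of the generators. -/
def pcw7 : List (List ℕ) := [[1, 0, 2, 3, 2, 1, 6, 3, 2, 3, 2, 1, 3, 2, 4, 5, 3, 2, 3, 6, 3, 2, 3, 4, 1, 2, 3, 2, 0],
    [3, 2, 1, 3, 2, 1, 5, 3, 2, 1, 3, 2, 3, 6, 4, 3, 5, 1, 2, 3, 6, 3, 4, 3],
    [0, 5, 3, 2, 1, 6, 3, 2, 3, 2, 1, 3, 6, 3, 2, 3, 4, 1, 2, 3, 6, 5, 3, 2, 3, 6, 5]]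

/-- Words of the conjugating elements. -/
def fw7 : List (List ℕ) := [[1, 4, 3, 2, 5, 3, 2, 1, 3, 2, 3, 2, 1, 0, 6, 3, 2, 3, 6, 1, 2, 3, 5, 6, 1, 2, 0],
    [2, 1, 3, 2, 3, 2, 1, 6, 3, 2, 1, 4, 3, 2, 1, 6, 3, 4, 2, 3, 5, 1, 2, 3, 2, 3, 5, 6]]

/-- A stabiliser chain: base point, generators in the polycyclic letters, tree. -/
def levels2 : List (ℕ × List (List ℕ) × List (ℕ × ℕ × ℕ)) := [
  (0, [[9], [8], [7], [6], [5], [4], [3], [2], [1], [0]], [(931, 0, 0), (240, 0, 1), (126, 0, 2), (1856, 0, 3), (188, 0, 4), (502, 0, 5), (21, 0, 7), (1482, 0, 8), (1570, 0, 9), (606, 931, 1), (1119, 931, 2), (85, 931, 3), (685, 931, 4), (7, 931, 5), (1563, 931, 7), (1262, 931, 8), (1560, 931, 9), (1932, 240, 2), (1341, 240, 3), (1533, 240, 4), (1957, 240, 5), (618, 240, 7), (1664, 240, 8), (746, 240, 9), (547, 126, 3), (1440, 126, 4), (1055, 126, 5), (205, 126, 7), (91, 126,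 8), (2000, 126, 9), (659, 1856, 4), (247, 1856, 5), (1258, 1856, 7), (744, 1856, 8), (333, 1856, 9), (1667, 188, 3), (1591, 188, 5), (309, 188, 7), (1916, 188, 8), (131, 188, 9), (1497, 502, 2), (1498, 502, 3), (837, 502, 4), (1214, 502, 7), (1850, 502, 8), (359, 502, 9), (241, 21, 2), (655, 21, 3), (1492, 21, 4), (944, 21, 5), (407, 21, 6), (1188, 21, 8), (1755, 21, 9), (1810, 1482, 1), (440, 1482, 2), (1208, 1482, 3), (1368, 1482, 4), (1687, 1482, 5), (1903, 1482, 6), (1367, 1482, 7), (1297, 1482, 8), (1004, 1482, 9), (209, 1570, 1), (1866, 1570, 2), (300, 1570, 3), (1070, 1570, 4), (214, 1570, 5), (2034, 1570, 6), (681, 1570, 7), (1999, 1570, 8), (1348, 606, 2), (745, 606, 3), (1656, 606, 4), (1433, 606, 5), (679, 1119, 3), (954, 1119, 4), (1445, 1119, 8), (1812, 1119, 9), (505, 85, 7), (1152, 85, 8), (1962, 685, 7), (1777, 685, 8), (548, 685, 9), (1405, 7,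 7), (1274, 7, 8), (1320, 7, 9), (1900, 1563, 3), (1002, 1563, 4), (842, 1563, 5), (390, 1563, 6), (392, 1563, 9), (1848, 1262, 2), (976, 1262, 3), (1611, 1262, 4), (294, 1262, 5), (1959, 1262, 6), (724, 1262, 9), (222, 1560, 2), (1521, 1560, 4), (2001, 1560, 5), (1681, 1560, 6), (1467, 1560, 7), (1197, 1560, 8), (806, 1932, 3), (1927, 1932, 4), (73, 1932, 5), (1542, 1932, 7), (1411, 1341, 4), (803, 1341, 5), (2011, 1341, 8), (1186, 1341, 9), (337, 1533, 3), (228, 1533, 5), (469, 1533, 8), (891, 1957, 2), (1772, 1957, 3), (1069, 1957, 4), (1323, 1957, 8), (1493, 618, 2), (504, 618, 6), (662, 618, 8), (1950, 618, 9), (1691, 1664, 3), (1869, 1664, 4), (1427, 1664, 5), (2029, 1664, 6), (4, 1664, 7), (1552, 1664, 9), (588, 746, 3), (2005, 746, 6), (840, 746, 7), (675, 746, 8), (1149, 547, 4), (694, 547, 5), (1072, 547, 7), (897, 547, 8), (1804, 547, 9), (767, 1440,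 3), (1409, 1440, 5), (415, 1440, 7), (544, 1440, 9), (784, 1055, 3), (417, 1055, 4), (1559, 1055, 7), (60, 1055, 8), (1775, 1055, 9), (1880, 205, 3), (180, 205, 4), (828, 205, 5), (1007, 205, 6), (667, 205, 8), (1013, 205, 9), (951, 91, 3), (543, 91, 5), (75, 91, 6), (742, 91, 7), (284, 91, 9), (1393, 2000, 3), (2003, 2000, 4), (1709, 2000, 5), (650, 2000, 6), (72, 2000, 7), (375, 2000, 8), (603, 659, 5), (193, 659, 8), (1452, 659, 9), (1518, 247, 4), (49, 247, 7), (1038, 247, 8), (96, 247, 9), (1567, 1258, 2), (599, 1258, 4), (604, 1258, 5), (804, 1258, 6), (1080, 1258, 8), (573, 1258, 9), (739, 744, 4), (186, 744, 5), (1745, 744, 6), (14, 744, 7), (1321, 744, 9), (913, 333, 2), (1302, 333, 4), (1762, 333, 5), (13, 333, 6), (63, 333, 7), (78, 333, 8), (948, 1667, 7), (2053, 1667, 8), (1577, 1667, 9), (1852, 1591, 7), (1535, 309, 5), (735, 309, 8), (1048, 309,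 9), (468, 1916, 1), (1940, 1916, 3), (898, 1916, 5), (1490, 1916, 7), (826, 1916, 9), (1516, 131, 7), (615, 131, 8), (1800, 1497, 7), (1994, 1497, 8), (596, 1497, 9), (1045, 1498, 7), (1373, 1498, 8), (1883, 1498, 9), (889, 837, 7), (1123, 837, 8), (5, 837, 9), (1573, 1214, 4), (281, 1214, 6), (545, 1214, 8), (183, 1214, 9), (1079, 1850, 1), (1047, 1850, 2), (1890, 1850, 3), (1475, 1850, 5), (432, 1850, 7), (1904, 1850, 9), (1006, 359, 2), (234, 359, 7), (1035, 359, 8), (208, 241, 3), (1200, 241, 4), (1444, 241, 5), (1464, 241, 9), (656, 655, 8), (561, 655, 9), (435, 1492, 8), (751, 1492, 9), (1356, 944, 6), (30, 944, 8), (1630, 944, 9), (816, 407, 1), (2047, 407, 5), (1270, 407, 8), (170, 1188, 2), (539, 1188, 3), (833, 1188, 4), (1686, 1188, 5), (478, 1188, 6), (1514, 1188, 9), (508, 1755, 1), (1414, 1755, 2), (261, 1755, 3), (1329, 1755, 6), (1456, 1755, 7),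 (1973, 1755, 8), (629, 1810, 4), (1823, 1810, 5), (1167, 1810, 6), (1500, 1810, 9), (286, 440, 9), (795, 1208, 7), (204, 1208, 9), (1816, 1368, 3), (1247, 1368, 7), (1694, 1368, 9), (1971, 1687, 2), (1625, 1687, 4), (396, 1687, 7), (1862, 1687, 8), (1911, 1687, 9), (1649, 1903, 7), (1768, 1903, 8), (1163, 1903, 9), (61, 1367, 2), (394, 1367, 3), (669, 1367, 4), (138, 1367, 5), (1738, 1367, 6), (1650, 1367, 9), (507, 1004, 2), (614, 1004, 3), (920, 1004, 4), (1720, 1004, 5), (1679, 1004, 6), (55, 1004, 7), (1693, 1004, 8), (1566, 209, 7), (1608, 209, 8), (1970, 1866, 3), (1507, 1866, 6), (134, 1866, 7), (926, 1866, 8), (939, 1866, 9), (1902, 300, 4), (1719, 300, 5), (94, 300, 6), (1145, 300, 7), (1919, 300, 8), (2006, 1070, 7), (551, 1070, 8), (489, 214, 7), (934, 214, 8), (663, 2034, 7), (1171, 681, 2), (1061, 681, 3), (1447, 681, 4), (533, 681, 5), (1372, 681,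 6), (146, 681, 8), (172, 681, 9), (1675, 1999, 2), (757, 1999, 3), (1376, 1999, 4), (528, 1999, 5), (1769, 1999, 7), (781, 1348, 3), (1470, 1348, 4), (607, 954, 9), (473, 1445, 5), (933, 1812, 4), (1222, 1812, 6), (1557, 1812, 7), (2041, 505, 4), (729, 505, 5), (1849, 505, 9), (610, 1152, 4), (1712, 1152, 5), (1845, 1152, 9), (824, 1962, 9), (1157, 1777, 3), (1786, 1777, 5), (266, 1777, 9), (1209, 548, 8), (1077, 1405, 6), (354, 1405, 9), (464, 1274, 2), (1651, 1274, 9), (1415, 1320, 8), (1030, 1900, 8), (1455, 1002, 8), (594, 1002, 9), (1829, 842, 8), (1195, 842, 9), (783, 390, 8), (2028, 392, 2), (449, 392, 6), (57, 392, 7), (1605, 392, 8), (95, 1848, 9), (1987, 976, 7), (176, 1611, 7), (1000, 1611, 9), (160, 294, 7), (964, 294, 8), (2022, 294, 9), (1930, 1959, 7), (283, 1959, 8), (171, 1959, 9), (1017, 724, 4), (734, 724, 5), (1377, 724, 6), (325, 724, 7),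 (1020, 724, 8), (1870, 222, 6), (1150, 222, 8), (1921, 222, 9), (244, 1521, 7), (53, 1521, 8), (1589, 2001, 7), (1074, 2001, 8), (311, 1681, 7), (1337, 1467, 3), (1432, 1467, 6), (1545, 1467, 9), (1510, 1197, 3), (174, 1197, 4), (1692, 1197, 5), (2049, 806, 4), (998, 806, 5), (1301, 1927, 3), (1319, 73, 3), (1179, 1411, 5), (1108, 803, 4), (1526, 2011, 9), (1592, 1186, 6), (92, 1186, 8), (534, 469, 9), (497, 1323, 3), (1130, 1323, 9), (1893, 504, 8), (1416, 662, 6), (647, 662, 9), (1460, 1950, 7), (1234, 1950, 8), (1184, 1691, 9), (166, 1427, 4), (802, 1427, 8), (1729, 2029, 7), (331, 2029, 8), (890, 2029, 9), (2035, 4, 6), (874, 4, 9), (1979, 1552, 3), (1908, 1552, 6), (892, 1552, 7), (1407, 1552, 8), (69, 588, 6), (1785, 588, 8), (285, 840, 6), (142, 840, 8), (1648, 840, 9), (431, 675, 3), (330, 675, 4), (1669, 675, 5), (768, 675, 7), (579, 675, 9), (531, 1149,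 5), (590, 694, 4), (658, 694, 7), (1350, 1804, 6), (878, 767, 9), (1073, 784, 9), (1446, 417, 7), (1403, 1559, 8), (1532, 1559, 9), (1365, 60, 7), (155, 60, 9), (243, 1775, 7), (288, 1775, 8), (1934, 828, 8), (1483, 828, 9), (1129, 1007, 5), (1817, 1007, 8), (1527, 667, 5), (1760, 667, 6), (23, 667, 9), (1271, 1013, 6), (1380, 1013, 8), (430, 951, 9), (1133, 543, 7), (1907, 543, 9), (1764, 75, 7), (911, 742, 5), (1553, 742, 6), (1796, 742, 9), (1990, 284, 4), (999, 284, 5), (447, 284, 6), (1046, 284, 7), (712, 1393, 6), (985, 1709, 7), (1802, 1709, 8), (512, 650, 7), (1547, 72, 5), (132, 72, 6), (1246, 72, 8), (1328, 375, 5), (178, 375, 7), (1520, 193, 7), (29, 1452, 8), (1714, 49, 9), (257, 96, 7), (104, 96, 8), (1771, 599, 8), (793, 1080, 5), (1429, 573, 6), (1641, 186, 7), (796, 1745, 9), (1847, 1321, 4), (1944, 913, 6), (2045, 913, 8), (310, 913, 9), (1989,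 1302, 8), (370, 1762, 7), (297, 1762, 8), (1748, 63, 5), (1260, 63, 8), (589, 78, 4), (1366, 1577, 8), (740, 1940, 9), (381, 898, 9), (164, 826, 7), (194, 615, 5), (516, 1800, 9), (687, 596, 8), (608, 1123, 9), (470, 1573, 8), (474, 1573, 9), (433, 545, 4), (1851, 183, 3), (1982, 1079, 9), (1215, 1047, 9), (563, 1890, 7), (6, 432, 2), (1029, 1006, 7), (1901, 1006, 8), (834, 1035, 4), (206, 1035, 5), (882, 656, 9), (229, 30, 3), (1575, 1630, 7), (1726, 2047, 7), (518, 2047, 8), (674, 1270, 2), (363, 1270, 9), (248, 170, 9), (1506, 539, 9), (1807, 1456, 8), (900, 1973, 7), (461, 1500, 6), (1240, 286, 5), (1054, 507, 6), (750, 55, 5), (779, 134, 8), (597, 1919, 4), (719, 1061, 8), (498, 266, 7)]),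
  (1, [[3]], [(989, 1, 0)])]

/-- A stabiliser chain: base point, generators in the polycyclic letters, tree. -/
def levels3 : List (ℕ × List (List ℕ) × List (ℕ × ℕ × ℕ)) := [
  (0, [[2], [1], [0]], [(1775, 0, 0), (1043, 0, 1), (1062, 0, 2), (1464, 1775, 0), (232, 1775, 1), (1964, 1775, 2), (70, 1043, 1), (558, 1043, 2), (1985, 1062, 1), (151, 1062, 2), (404, 1464, 1), (1135, 1464, 2), (750, 232, 1), (1959, 1964, 1), (1482, 1964, 2), (1543, 70, 2), (576, 558, 1), (427, 558, 2), (712, 1985, 1), (584, 1985, 2), (1971, 151, 1), (236, 404, 1), (190, 1135, 2), (1389, 1543, 2), (617, 576, 2), (1392, 427, 1)])]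

/-- A stabiliser chain: base point, generators in the polycyclic letters, tree. -/
def levels5 : List (ℕ × List (List ℕ) × List (ℕ × ℕ × ℕ)) := [
  (0, [[1], [0]], [(1151, 0, 0), (727, 0, 1), (492, 1151, 0), (247, 1151, 1), (1090, 727, 1), (810, 492, 0), (999, 492, 1), (1937, 247, 1), (1437, 1090, 1), (127, 810, 0), (1941, 810, 1), (896, 999, 1), (887, 1937, 1), (180, 1437, 1), (1263, 127, 1), (1289, 1941, 1), (774, 896, 1), (1491, 887, 1), (558, 1263, 1), (642, 1289, 1), (1460, 774, 1), (1581, 558, 1), (1205, 642, 1), (464, 1581, 1)])]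

/-- A stabiliser chain: base point, generators in the polycyclic letters, tree. -/
def levels7 : List (ℕ × List (List ℕ) × List (ℕ × ℕ × ℕ)) := [
  (0, [[2], [1], [0]], [(1723, 0, 0), (1119, 0, 1), (415, 0, 2), (1462, 1723, 0), (1569, 1723, 1), (1808, 1723, 2), (1121, 1119, 1), (237, 1119, 2), (775, 415, 1), (821, 415, 2), (1466, 1462, 0), (1862, 1462, 1), (2024, 1462, 2), (1456, 1569, 1), (1011, 1569, 2), (581, 1808, 1), (1285, 1808, 2), (55, 1121, 1), (105, 1121, 2), (1263, 237, 1), (1202, 237, 2), (1855, 775, 1), (1648, 775, 2), (839, 821, 1), (1275, 821, 2), (706, 1466, 0), (1332, 1466, 1), (184, 1466, 2), (1363, 1862, 1), (1541, 1862, 2), (1536, 2024, 2), (329, 1456, 1), (1487, 1456, 2), (760, 1011, 1), (663, 1011, 2), (1014, 581, 1), (295, 581, 2), (545, 1285, 1), (780, 1285, 2), (588, 55, 1), (693, 55, 2), (101, 105, 1), (58, 105, 2), (1755, 1263, 1),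 (655, 1263, 2), (230, 1202, 1), (1567, 1202, 2), (1297, 1855, 1), (1311, 1648, 1), (977, 1648, 2), (260, 839, 1), (629, 839, 2), (1229, 1275, 1), (1608, 1275, 2), (618, 706, 0), (2052, 706, 1), (1079, 706, 2), (350, 1332, 1), (745, 1332, 2), (1174, 184, 2), (1907, 1363, 1), (1576, 1363, 2), (914, 1541, 2), (1999, 1536, 2), (1939, 329, 1), (1437, 1487, 1), (174, 760, 1), (401, 663, 1), (1529, 1014, 1), (1721, 295, 1), (710, 295, 2), (1575, 545, 2), (1906, 780, 1), (1069, 780, 2), (1182, 588, 1), (1283, 588, 2), (518, 693, 1), (470, 693, 2), (263, 101, 1), (1970, 101, 2), (466, 58, 1), (1031, 58, 2), (1126, 1755, 1), (502, 655, 1), (1817, 655, 2), (1709, 230, 1), (991, 230, 2), (222, 1567, 1), (1506, 1567, 2), (1228, 1297, 1), (1759, 1311, 1), (1888, 977, 1), (1461, 977, 2), (2026, 260, 1), (245, 629, 1), (786, 629, 2), (1156, 1229, 1), (399, 1229, 2), (1333, 1608,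 1), (1243, 1608, 2), (33, 618, 0), (284, 618, 1), (1337, 618, 2), (841, 2052, 1), (1423, 2052, 2), (1691, 1079, 2), (1108, 350, 1), (341, 1174, 2), (1090, 1907, 1), (824, 1999, 2), (1786, 1939, 1), (347, 1437, 1), (1617, 174, 1), (1990, 1575, 2), (1784, 1906, 2), (1707, 1069, 2), (8, 1182, 1), (1428, 1182, 2), (112, 1283, 1), (538, 1283, 2), (1610, 518, 1), (154, 518, 2), (904, 470, 1), (1841, 470, 2), (269, 263, 1), (850, 1970, 1), (1088, 1970, 2), (1267, 466, 1), (1364, 466, 2), (18, 1031, 1), (1280, 1031, 2), (568, 1126, 1), (1520, 502, 1), (995, 1817, 1), (2046, 1817, 2), (1872, 1709, 1), (1049, 991, 1), (989, 991, 2), (254, 222, 1), (1114, 222, 2), (770, 1506, 1), (1690, 1506, 2), (314, 1228, 1), (1693, 1461, 1), (73, 1461, 2), (1203, 786, 1), (816, 786, 2), (792, 399, 2), (855, 1333, 2), (416, 1243, 1), (9, 1243, 2), (233, 33, 1), (1281, 33, 2), (1744,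 284, 1), (21, 1337, 2), (1254, 841, 1), (1150, 1691, 2), (1344, 1108, 1), (462, 341, 2), (1099, 1090, 1), (1601, 824, 2), (224, 1786, 1), (2031, 347, 1), (832, 1784, 2), (1377, 1707, 2), (385, 8, 2), (291, 1428, 1), (1637, 1428, 2), (1242, 112, 1), (255, 112, 2), (1699, 538, 1), (624, 538, 2), (1380, 1610, 1), (81, 154, 1), (192, 154, 2), (1618, 904, 1), (468, 904, 2), (2027, 1841, 1), (1764, 1841, 2), (256, 269, 1), (1371, 850, 1), (374, 1088, 1), (1230, 1088, 2), (1793, 1267, 1), (544, 1364, 1), (1555, 1364, 2), (157, 18, 1), (1470, 18, 2), (106, 1280, 1), (1948, 1280, 2), (1848, 568, 1), (208, 2046, 1), (109, 2046, 2), (1683, 989, 1), (1964, 989, 2), (182, 1114, 2), (656, 770, 2), (1883, 1690, 1), (948, 1690, 2), (1765, 314, 1), (163, 73, 1), (445, 73, 2), (1713, 816, 2), (241, 792, 2), (1959, 855, 2), (746, 416, 2), (820, 9, 1), (623, 233, 1), (390, 1281,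 2), (1248, 1744, 1), (732, 21, 2), (437, 1254, 1), (817, 1150, 2), (1966, 1344, 1), (909, 462, 2), (1876, 1099, 1), (1516, 1601, 2), (196, 385, 2), (11, 291, 2), (740, 1637, 1), (474, 1637, 2), (1340, 255, 1), (203, 255, 2), (334, 1699, 1), (644, 1699, 2), (1783, 624, 1), (875, 624, 2), (1949, 81, 1), (847, 192, 1), (1708, 192, 2), (718, 1618, 1), (1947, 468, 1), (800, 468, 2), (155, 2027, 1), (564, 2027, 2), (195, 1764, 1), (1859, 1764, 2), (361, 1230, 1), (650, 1230, 2), (697, 1555, 1), (1029, 1555, 2), (1343, 1470, 2), (150, 106, 2), (666, 1948, 1), (335, 1948, 2), (1197, 109, 1), (1019, 109, 2), (1308, 1964, 2), (592, 182, 2), (583, 656, 2), (814, 1883, 2), (1439, 948, 1), (1022, 623, 1), (257, 390, 2), (497, 1248, 1), (1100, 732, 2), (1661, 437, 1), (1291, 817, 2), (1678, 1966, 1), (1685, 909, 2), (480, 196, 2), (587, 11, 2), (1287, 740, 2), (1350, 474,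 1), (288, 474, 2), (319, 203, 1), (872, 203, 2), (573, 644, 1), (1137, 644, 2), (165, 1783, 1), (293, 1783, 2), (1274, 875, 1), (1635, 875, 2), (1670, 1708, 1), (1767, 1708, 2), (87, 800, 1), (142, 800, 2), (1603, 564, 2), (1553, 195, 2), (920, 1859, 1), (1484, 1859, 2), (562, 650, 1), (579, 650, 2), (1469, 1029, 2), (316, 1343, 2), (1021, 150, 2), (1776, 666, 2), (1836, 335, 1), (175, 1022, 1), (1659, 257, 2), (796, 497, 1), (766, 1100, 2), (605, 1661, 1), (1518, 1291, 2), (1835, 480, 2), (1657, 587, 2), (653, 1287, 2), (1201, 1350, 2), (594, 288, 1), (1892, 288, 2), (2008, 872, 1), (76, 872, 2), (996, 1137, 1), (1092, 1137, 2), (1950, 293, 2), (1798, 1274, 2), (61, 1635, 1), (79, 1635, 2), (565, 1767, 1), (1791, 1767, 2), (1313, 142, 2), (1494, 1603, 2), (68, 1553, 2), (1719, 920, 2), (1718, 1484, 1), (1509, 175, 1), (1724, 1659, 2), (1033, 796, 1), (1920,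 766, 2), (1178, 1835, 2), (1037, 1657, 2), (228, 653, 2), (63, 1201, 2), (1861, 594, 2), (1499, 1892, 1), (1094, 1892, 2), (161, 76, 1), (1478, 76, 2), (1160, 1092, 2), (534, 1950, 2), (865, 1798, 2), (1452, 61, 2), (1895, 79, 1), (1741, 1509, 1), (1922, 1724, 2), (187, 1178, 2), (471, 1037, 2), (423, 228, 2), (1411, 63, 2), (469, 1861, 2), (1743, 1499, 2), (1221, 1094, 1)])]

end Cfsg.Lib.HePres
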