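import Cfsg.Agent.HePres.AutTabs
import Cfsg.Agent.HePres.MultData
import Cfsg.Agent.HePres.Fix
import Cfsg.Agent.HePres.Simple

/-!
A larger alphabet for short words: the nine letters, the powers of an element of order seventeen and the polycyclic
generators of a Sylow subgroup with their inverses; equality and inequality of words from a few points.
-/

set_option autoImplicit false
set_option Elab.async false

namespace Cfsg.Lib.HePres

open Cfsg.Lib.CosetCert Cfsg.Lib.PermCert

/-- All tables: letters, powers, polycyclic generators and inverses. -/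
def xTabs : List PP := sigTabs ++ powTabs ++ pcTabs ++ pcInvTabs

/-- The word of the element of order seventeen. -/
def uWord : List ℕ := [5, 4, 3, 2, 8]

/-- The element of order seventeen. -/
def uEl : Cfsg.Spor.He := wval im9 uWord

/-- The polycyclic generators. -/
def pcEl (k : ℕ) : Cfsg.Spor.He := wval im9 (pcw2.getD k [])

/-- The value of a letter of the alphabet. -/
def imX (l : ℕ) : Cfsg.Spor.He :=
  if l < 9 then im9 l else if l < 25 then uEl ^ (l - 8) else if l < 35 then pcEl (l - 25)
  else (pcEl (l - 35))⁻¹

theorem pow_valid : powTabs.all (valid 2058) = true := by decide +kernel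

theorem pc_valid : pcTabs.all (valid 2058) = true := by decide +kernel

theorem uWord_tab : ((List.range 2058).all fun x =>
    evalW sigTabs uWord x == ap (powTabs.getD 0 (0, 0)).2 x) = true := by decide +kernel

theorem pow_step : ((List.range 15).all fun i => (List.range 2058).all fun x =>
    ap (powTabs.getD (i + 1) (0, 0)).2 x == ap (powTabs.getD 0 (0, 0)).2 (ap (powTabs.getD i (0, 0)).2 x)) = true := by
  decide +kernel

/-- A word has a table. -/
def wordTab (w : List ℕ) (t : PP) : Bool :=
  w.all (fun l => decide (l < 9)) && (List.range 2058).all fun x => evalW sigTabs w x == ap t.2 x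

theorem pc_tab0 : wordTab (pcw2.getD 0 []) (pcTabs.getD 0 (0, 0)) = true := by decide +kernel
theorem pc_tab1 : wordTab (pcw2.getD 1 []) (pcTabs.getD 1 (0, 0)) = true := by decide +kernel
theorem pc_tab2 : wordTab (pcw2.getD 2 []) (pcTabs.getD 2 (0, 0)) = true := by decide +kernel
theorem pc_tab3 : wordTab (pcw2.getD 3 []) (pcTabs.getD 3 (0, 0)) = true := by decide +kernel
theorem pc_tab4 : wordTab (pcw2.getD 4 []) (pcTabs.getD 4 (0, 0)) = true := by decide +kernel
theorem pc_tab5 : wordTab (pcw2.getD 5 []) (pcTabs.getD 5 (0, 0)) = true := by decide +kernel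
theorem pc_tab6 : wordTab (pcw2.getD 6 []) (pcTabs.getD 6 (0, 0)) = true := by decide +kernel
theorem pc_tab7 : wordTab (pcw2.getD 7 []) (pcTabs.getD 7 (0, 0)) = true := by decide +kernel
theorem pc_tab8 : wordTab (pcw2.getD 8 []) (pcTabs.getD 8 (0, 0)) = true := by decide +kernel
theorem pc_tab9 : wordTab (pcw2.getD 9 []) (pcTabs.getD 9 (0, 0)) = true := by decide +kernel

theorem tab_of_inv {g : Cfsg.Spor.He} {t : PP} (hv : valid 2058 t = true)
    (h : ∀ x : Fin 2058, ((psi g)⁻¹ x : ℕ) = ap t.2 x) : psi g = perm 2058 t := by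
  have e : (psi g)⁻¹ = (perm 2058 t)⁻¹ := by
    refine Equiv.ext fun x => Fin.ext ?_
    rw [h, ← perm_pinv hv, perm_apply (valid_pinv hv)]
    rfl
  exact inv_injective e

theorem tab_wval {w : List ℕ} {t : PP} (hv : valid 2058 t = true) (h : wordTab w t = true) :
    psi (wval im9 w) = perm 2058 t := by
  simp only [wordTab, Bool.and_eq_true, List.all_eq_true, decide_eq_true_eq, beq_iff_eq, List.mem_range] at h
  exact tab_of_inv hv fun x =>
    (evalW_apply im9 psi sigTabs psi_im9 w h.1 x).trans (h.2 x.val x.isLt)

theorem psi_uPow : ∀ i, i < 16 → psi (uEl ^ (i + 1)) = perm 2058 (powTabs.getD i (0, 0)) := by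
  have hv : ∀ i, i < 16 → valid 2058 (powTabs.getD i (0, 0)) = true := fun i hi => by
    have h : i < powTabs.length := hi
    rw [List.getD_eq_getElem _ _ h]
    exact List.all_eq_true.1 pow_valid _ (List.getElem_mem h)
  intro i
  induction i with
  | zero =>
    intro _
    rw [zero_add, pow_one]
    refine tab_wval (hv 0 (by norm_num)) ?_
    rw [wordTab, uWord_tab, Bool.and_true]
    decide
  | succ i ih =>
    intro hi
    refine tab_of_inv (hv _ hi) fun x => ?_
    have h := List.all_eq_true.1 (List.all_eq_true.1 pow_step i (List.mem_range.2 (by omega))) x.val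
      (List.mem_range.2 x.isLt)
    rw [beq_iff_eq] at h
    have h1 := ih (by omega)
    have h0 : psi uEl = perm 2058 (powTabs.getD 0 (0, 0)) := by
      refine tab_wval (hv 0 (by norm_num)) ?_
      rw [wordTab, uWord_tab, Bool.and_true]
      decide
    rw [h, pow_succ (n := i + 1), map_mul, mul_inv_rev, Equiv.Perm.mul_apply, h0, h1,
      ← perm_pinv (hv 0 (by norm_num)), ← perm_pinv (hv i (by omega)), perm_apply (valid_pinv (hv 0 (by norm_num))),
      perm_apply (valid_pinv (hv i (by omega)))]
    rfl

theorem psi_pcEl {k : ℕ} (hk : k < 10) : psi (pcEl k) = perm 2058 (pcTabs.getD k (0, 0)) := by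
  have hv : valid 2058 (pcTabs.getD k (0, 0)) = true := by
    have h : k < pcTabs.length := hk
    rw [List.getD_eq_getElem _ _ h]
    exact List.all_eq_true.1 pc_valid _ (List.getElem_mem h)
  refine tab_wval hv ?_
  interval_cases k
  exacts [pc_tab0, pc_tab1, pc_tab2, pc_tab3, pc_tab4, pc_tab5, pc_tab6, pc_tab7, pc_tab8, pc_tab9]

theorem xTabs_getD {l : ℕ} (hl : l < 45) :
    xTabs.getD l (0, 0) = if l < 9 then sigTabs.getD l (0, 0) else if l < 25 then powTabs.getD (l - 9) (0, 0)
      else if l < 35 then pcTabs.getD (l - 25) (0, 0) else pinv (pcTabs.getD (l - 35) (0, 0)) := by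
  interval_cases l <;> rfl

theorem psi_imX (l : ℕ) (hl : l < xTabs.length) :
    valid 2058 (xTabs.getD l (0, 0)) = true ∧ psi (imX l) = perm 2058 (xTabs.getD l (0, 0)) := by
  have hl' : l < 45 := hl
  rw [xTabs_getD hl', imX]
  split_ifs with h9 h25 h35
  · exact psi_im9 l h9
  · have h : l - 9 < powTabs.length := by
      show l - 9 < 16
      omega
    refine ⟨?_, ?_⟩
    · rw [List.getD_eq_getElem _ _ h]
      exact List.all_eq_true.1 pow_valid _ (List.getElem_mem h)
    · rw [show l - 8 = l - 9 + 1 by omega]
      exact psi_uPow _ (by omega)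
  · have h : l - 25 < pcTabs.length := by
      show l - 25 < 10
      omega
    refine ⟨?_, psi_pcEl h⟩
    rw [List.getD_eq_getElem _ _ h]
    exact List.all_eq_true.1 pc_valid _ (List.getElem_mem h)
  · have h : l - 35 < pcTabs.length := by
      show l - 35 < 10
      omega
    have hv : valid 2058 (pcTabs.getD (l - 35) (0, 0)) = true := by
      rw [List.getD_eq_getElem _ _ h]
      exact List.all_eq_true.1 pc_valid _ (List.getElem_mem h)
    exact ⟨valid_pinv hv, by rw [map_inv, psi_pcEl h, perm_pinv hv]⟩

/-- All letters are in the alphabet. -/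
def inX (w : List ℕ) : Bool := w.all fun l => Nat.blt l 45

theorem inX_lt {w : List ℕ} (h : inX w = true) : ∀ l ∈ w, l < xTabs.length := fun l hl => by
  have := List.all_eq_true.1 h l hl
  exact Nat.le_of_ble_eq_true this

theorem evalX_apply {w : List ℕ} (h : inX w = true) (x : Fin 2058) :
    ((psi (wval imX w))⁻¹ x : ℕ) = evalW xTabs w x :=
  evalW_apply imX psi xTabs psi_imX w (inX_lt h) x

/-- Two words agree on the base points. -/
def sameW (w v : List ℕ) : Bool :=
  inX w && inX v && [0, 22, 8, 126].all fun b => evalW xTabs w b == evalW xTabs v b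

theorem sameW_sound {w v : List ℕ} (h : sameW w v = true) : wval imX w = wval imX v := by
  simp only [sameW, Bool.and_eq_true, List.all_eq_true, beq_iff_eq] at h
  refine inv_injective (ext_base fun x hx => Fin.ext ?_)
  rw [map_inv, map_inv, evalX_apply h.1.1, evalX_apply h.1.2]
  exact h.2 _ hx

theorem eval_eq {w v : List ℕ} (hw : inX w = true) (hv : inX v = true) (h : wval imX w = wval imX v) {x : ℕ}
    (hx : x < 2058) : evalW xTabs w x = evalW xTabs v x := by
  rw [← evalX_apply hw ⟨x, hx⟩, h, evalX_apply hv ⟨x, hx⟩]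

/-- The inverse letter. -/
def invL (l : ℕ) : ℕ := if l < 9 then l else if l < 25 then 33 - l else if l < 35 then l + 10 else l - 10

/-- The inverse word. -/
def invW (w : List ℕ) : List ℕ := (w.map invL).reverse

theorem invL_ok : ((List.range 45).all fun l => sameW [l, invL l] []) = true := by decide +kernel

theorem wvalX_append (v w : List ℕ) : wval imX (v ++ w) = wval imX v * wval imX w := wval_append imX v w

theorem wval_invW : ∀ {w : List ℕ}, inX w = true → wval imX (invW w) = (wval imX w)⁻¹
  | [], _ => by simp [invW, wval]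
  | l :: w, h => by
    simp only [inX, List.all_cons, Bool.and_eq_true] at h
    have hl := sameW_sound (List.all_eq_true.1 invL_ok l (List.mem_range.2 (by simpa [Nat.blt] using h.1)))
    rw [wval_cons, wval_cons, wval_nil, mul_one] at hl
    rw [invW, List.map_cons, List.reverse_cons, wvalX_append, ← invW, wval_invW h.2, wval_cons, wval_cons, wval_nil,
      mul_one, mul_inv_rev, inv_eq_of_mul_eq_one_right hl]

theorem imX_low {l : ℕ} (h : l < 9) : imX l = im9 l := if_pos h

theorem imX_pow {i : ℕ} (h0 : 1 ≤ i) (h : i ≤ 16) : imX (8 + i) = uEl ^ i := by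
  rw [imX, if_neg (by omega), if_pos (by omega), show 8 + i - 8 = i by omega]

end Cfsg.Lib.HePres
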