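import Cfsg.Agent.HePres.C1Data

/-!
The certificate is valid.
-/

set_option autoImplicit false

namespace Cfsg.Lib.HePres.C1

open Cfsg.Lib.CosetCert

theorem steps0_ok : cert.stepsOK 0 steps0 = true ∧ ruleBound spec.length steps0 = true := by decide +kernel

theorem steps1_ok : cert.stepsOK 256 steps1 = true ∧ ruleBound spec.length steps1 = true := by decide +kernel

theorem steps2_ok : cert.stepsOK 512 steps2 = true ∧ ruleBound spec.length steps2 = true := by decide +kernel

theorem steps3_ok : cert.stepsOK 768 steps3 = true ∧ ruleBound spec.length steps3 = true := by decide +kernel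

def cat0_0 : List (ℕ × ℕ) := steps0 ++ steps1

theorem cat0_0_ok : cert.stepsOK 0 cat0_0 = true ∧ ruleBound spec.length cat0_0 = true :=
  stepsOK_cat steps0_ok steps1_ok (by decide +kernel)

def cat0_1 : List (ℕ × ℕ) := steps2 ++ steps3

theorem cat0_1_ok : cert.stepsOK 512 cat0_1 = true ∧ ruleBound spec.length cat0_1 = true :=
  stepsOK_cat steps2_ok steps3_ok (by decide +kernel)

def cat1_0 : List (ℕ × ℕ) := cat0_0 ++ cat0_1

theorem cat1_0_ok : cert.stepsOK 0 cat1_0 = true ∧ ruleBound spec.length cat1_0 = true :=
  stepsOK_cat cat0_0_ok cat0_1_ok (by decide +kernel)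

theorem spec_ok : cert.rotsOK rels spec = true := by decide +kernel

theorem tab_ok : cert.tabOK cat1_0.length = true := by decide +kernel

theorem valid : cert.Valid rels :=
  ⟨by decide, spec, cat1_0, spec_ok, cat1_0_ok.1, cat1_0_ok.2, tab_ok⟩

theorem fins_length : cert.fin.length = 315 := by rw [Cert.fin, List.length_map, List.length_range]; rfl

end Cfsg.Lib.HePres.C1
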