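import Mathlib

/-!
Generated: the elements of a two-point stabiliser.
-/

set_option autoImplicit false

namespace Cfsg.Lib.HePres

def twoPt_0 : List (List ℕ) :=
  [[], [0,3], [3], [0], [3,4,3,5,3,4,7], [0,4,3,5,3,4,7],
   [4,3,5,3,4,7], [0,3,4,3,5,3,4,7], [0,5,3,4,8,5,8,3,5], [5,3,8,4,5,3,8,5], [5,7,8,5,8,3,5,8], [5,7,8,3,5,3,8,5],
   [0,5,3,8,4,5,3,8,5], [5,3,4,8,5,8,3,5], [7,8,3,5,3,8,5,8], [5,3,7,8,5,8,3,5], [4], [0,3,4],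
   [3,4], [0,4], [3,4,3,5,3,7], [0,4,3,5,3,7], [4,3,5,3,7], [0,3,4,3,5,3,7],
   [3,7,8,5,3,4,8,5,8], [0,7,8,5,3,4,8,5,8], [0,5,3,8,4,5,3,8,4,5], [5,3,4,8,5,3,4,8,5], [7,8,5,3,4,8,5,8], [5,3,7,8,5,3,4,8,5],
   [8,5,3,8,4,5,3,8,5], [5,3,8,4,5,3,8,4,5], [4,5], [0,3,4,5], [3,4,5], [0,4,5],
   [3,4,5,3,7], [0,4,5,3,7], [0,5,3,8,4,5,3,8,4], [5,3,4,8,5,3,4,8], [4,5,3,7], [0,3,4,5,3,7],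
   [7,8,5,3,8,5,8,4], [5,3,7,8,5,3,4,8], [8,5,3,8,4,5,3,8], [5,3,8,4,5,3,8,4], [0,5,3,7,8,5,3,4,8], [5,7,8,3,5,3,8,4],
   [5], [0,3,5], [3,5], [0,5], [0,5,3,4,8,5,8,3], [5,3,8,4,5,3,8],
   [3,4,5,3,4,7], [0,4,5,3,4,7], [0,5,3,8,4,5,3,8], [5,3,4,8,5,8,3], [4,5,3,4,7], [0,3,4,5,3,4,7],
   [7,8,5,3,8,5,8], [5,3,7,8,5,8,3], [0,5,3,7,8,5,8,3], [5,7,8,3,5,3,8], [3,4,7], [0,4,7],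
   [4,7], [0,3,4,7], [4,3,5,3], [0,3,4,3,5,3], [3,4,3,5,3], [0,4,3,5,3],
   [8,5,3,4,8,5,8], [5,3,8,5,3,4,8,5], [7,8,5,3,8,4,5,3,8,5], [5,3,7,8,4,5,3,8,4,5], [3,8,5,3,4,8,5,8], [0,8,5,3,4,8,5,8],
   [0,5,3,7,8,4,5,3,8,4,5], [5,3,4,7,8,5,3,4,8,5], [4,3], [0,3,4,3], [3,4,3], [0,4,3],
   [3,4,3,5,7], [0,4,3,5,7], [4,3,5,7], [0,3,4,3,5,7], [3,7,8,5,3,4,8,5,8,3], [0,7,8,5,3,4,8,5,8,3]]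

def twoPt_1 : List (List ℕ) :=
  [[7,8,5,3,4,8,5,8,3], [5,3,7,8,5,3,4,8,5,3], [8,5,3,4,8,5,8,3,5], [5,3,8,4,5,3,8,4,5,3], [3,8,5,3,4,8,5,8,3,5], [0,8,5,3,4,8,5,8,3,5],
   [3,7], [0,7], [7], [0,3,7], [4,3,5,3,4], [0,3,4,3,5,3,4],
   [3,4,3,5,3,4], [0,4,3,5,3,4], [0,5,3,7,8,4,5,3,8,5], [5,3,4,7,8,5,8,3,5], [8,3,5,3,8,5,8], [5,3,8,5,8,3,5],
   [0,5,3,4,7,8,5,8,3,5], [5,3,7,8,4,5,3,8,5], [5,8,5,8,3,5,8], [5,8,3,5,3,8,5], [3,4,5,7], [0,4,5,7],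
   [4,5,7], [0,3,4,5,7], [4,5,3], [0,3,4,5,3], [7,8,5,3,8,4,5,3,8], [5,3,7,8,4,5,3,8,4],
   [3,4,5,3], [0,4,5,3], [0,5,3,8,5,3,4,8], [5,8,3,5,3,8,4], [0,5,3,7,8,4,5,3,8,4], [5,3,4,7,8,5,3,4,8],
   [8,5,3,8,5,8,4], [5,3,8,5,3,4,8], [5,3], [0,3,5,3], [3,5,3], [0,5,3],
   [3,5,3,4,7], [0,5,3,4,7], [0,5,3,4,8,5,8], [5,3,8,5,8,4], [5,3,4,7], [0,3,5,3,4,7],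
   [0,5,3,7,8,5,8], [3,5,3,7,8,5,8], [0,5,3,8,5,8,4], [5,3,4,8,5,8], [5,3,7,8,5,8,0], [5,3,7,8,5,8],
   [3,5,7], [0,5,7], [5,7], [0,3,5,7], [0,5,3,7,8,4,5,3,8], [5,3,4,7,8,5,8,3],
   [4,5,3,4], [0,3,4,5,3,4], [0,5,3,4,7,8,5,8,3], [5,3,7,8,4,5,3,8], [3,4,5,3,4], [0,4,5,3,4],
   [0,5,3,8,5,8,3], [5,8,3,5,3,8], [8,5,3,8,5,8], [5,3,8,5,8,3], [3,4,3,7], [0,4,3,7],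
   [4,3,7], [0,3,4,3,7], [4,3,5], [0,3,4,3,5], [3,4,3,5], [0,4,3,5],
   [8,5,3,4,8,5,8,3], [5,3,8,5,3,4,8,5,3], [3,8,5,3,4,8,5,8,3], [0,8,5,3,4,8,5,8,3], [3,7,8,5,3,4,8,5,8,3,5], [0,7,8,5,3,4,8,5,8,3,5],
   [7,8,5,3,4,8,5,8,3,5], [5,3,7,8,4,5,3,8,4,5,3], [4,3,8,5,8,3], [0,3,4,3,8,5,8,3], [3,4,3,7,8,5,3,4,8,5], [4,7,8,5,8,3,5,8,4]]

def twoPt_2 : List (List ℕ) :=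
  [[0,4,7,8,3,5,3,8], [3,4,7,8,3,5,3,8], [3,4,3,8,5,8,3], [0,4,3,8,5,8,3], [0,3,4,7,8,3,5,3,8], [4,7,8,3,5,3,8],
   [8,4,5,3,8,4,5,8], [3,4,8,3,5,3,8,4,5], [3,4,7,8,5,8,3,5,8,4], [4,3,7,8,5,3,4,8,5], [3,8,4,5,3,8,4,5,8], [4,8,3,5,3,8,4,5],
   [3,5,3,7], [0,5,3,7], [5,3,7], [0,3,5,3,7], [5,3,4], [0,3,5,3,4],
   [0,5,3,7,8,5,8,4], [5,3,4,7,8,5,8], [3,5,3,4], [0,5,3,4], [5,3,8,5,8,0], [5,3,8,5,8],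
   [0,5,3,4,7,8,5,8], [5,3,7,8,5,8,4], [0,5,3,8,5,8], [3,5,3,8,5,8], [3,4,3,7,8,5,8,3], [0,4,3,7,8,5,8,3],
   [4,3,8,5,3,4,8,5], [3,4,8,5,8,3,5,8,4], [0,3,4,8,3,5,3,8], [4,8,3,5,3,8], [4,3,7,8,5,8,3], [0,3,4,3,7,8,5,8,3],
   [0,4,8,3,5,3,8], [3,4,8,3,5,3,8], [3,7,8,4,5,3,8,4,5,8], [4,7,8,3,5,3,8,4,5], [4,8,5,8,3,5,8,4], [3,4,3,8,5,3,4,8,5],
   [7,8,4,5,3,8,4,5,8], [3,4,7,8,3,5,3,8,4,5], [4,8,5,3,8,4], [3,4,5,8,5,3,4], [3,4,5,3,7,8,5,3,4], [7,8,4,5,3,4,8,5],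
   [3,4,7,8,5,3,8], [4,5,7,8,5,3], [4,5,3,8,5,3], [3,8,4,5,8,3,5], [4,7,8,5,3,8], [3,4,5,7,8,5,3],
   [3,4,5,3,8,5,3], [8,4,5,8,3,5], [3,4,8,5,3,8,4], [4,5,8,5,3,4], [4,5,3,7,8,5,3,4], [3,7,8,4,5,3,4,8,5],
   [4,3,8,5,3,4,8], [0,3,4,3,8,5,3,4,8], [0,3,4,7,8,3,5,3,8,4], [4,7,8,3,5,3,8,4], [3,4,7,8,5,8,3,5,8], [4,3,7,8,5,8,3,5],
   [0,4,8,3,5,3,8,5], [3,4,8,3,5,3,8,5], [0,3,4,8,3,5,3,8,5], [4,8,3,5,3,8,5], [3,4,3,8,5,3,4,8], [0,4,3,8,5,3,4,8],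
   [3,4,3,7,8,5,8,3,5], [4,7,8,5,8,3,5,8], [0,4,7,8,3,5,3,8,4], [3,4,7,8,3,5,3,8,4], [4,3,8,5,8], [0,3,4,3,8,5,8],
   [4,7,8,5,3,4,8,5,3,8], [3,4,3,7,8,5,3,4,8,5,3], [4,3,7,8,5,8,0], [4,3,7,8,5,8,4], [0,4,3,8,5,8], [3,4,3,8,5,8],
   [0,4,3,7,8,5,8,4], [4,3,5,7,8,5,8], [8,4,5,3,8,4,5,8,3], [3,4,8,3,5,3,8,4,5,3], [3,4,7,8,5,3,4,8,5,3,8], [4,3,7,8,5,3,4,8,5,3]]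

def twoPt_3 : List (List ℕ) :=
  [[3,8,4,5,3,8,4,5,8,3], [4,8,3,5,3,8,4,5,3], [3,4,3,7,8,5,3,4,8], [0,4,3,7,8,5,3,4,8], [0,4,8,3,5,3,8,4], [3,4,8,3,5,3,8,4],
   [4,8,5,8,3,5,8], [3,4,3,8,5,8,3,5], [0,3,4,7,8,3,5,3,8,5], [4,7,8,3,5,3,8,5], [0,4,7,8,3,5,3,8,5], [3,4,7,8,3,5,3,8,5],
   [4,3,7,8,5,3,4,8], [0,3,4,3,7,8,5,3,4,8], [4,3,8,5,8,3,5], [3,4,8,5,8,3,5,8], [0,3,4,8,3,5,3,8,4], [4,8,3,5,3,8,4],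
   [5,8,4,5,3,4], [3,8,4,5,3,4,8], [3,5,7,8,4,5,3], [7,8,4,5,8,3], [5,7,8,4,5,3], [3,7,8,4,5,8,3],
   [3,4,7,8,5,3,8,4,5], [4,5,7,8,3,5,3,4], [3,5,8,4,5,3,4], [8,4,5,3,4,8], [4,8,5,3,8,5], [3,4,5,8,3,5,3],
   [3,4,8,5,3,8,5], [4,5,8,3,5,3], [4,7,8,5,3,8,4,5], [3,4,5,7,8,3,5,3,4], [3,4,3,7,8,5,8], [0,4,3,7,8,5,8],
   [3,4,8,5,3,4,8,5,3,8], [4,3,8,5,3,4,8,5,3], [0,4,3,8,5,8,4], [4,3,5,8,5,8], [0,3,4,3,7,8,5,8], [4,3,7,8,5,8],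
   [4,3,8,5,8,0], [4,3,8,5,8,4], [3,7,8,4,5,3,8,4,5,8,3], [4,7,8,3,5,3,8,4,5,3], [4,8,5,3,4,8,5,3,8], [3,4,3,8,5,3,4,8,5,3],
   [7,8,4,5,3,8,4,5,8,3], [3,4,7,8,3,5,3,8,4,5,3], [3,4,7,8,5,3,8,4], [4,5,7,8,5,3,4], [4,5,3,8,5,3,4], [3,8,4,5,3,4,8,5],
   [4,8,5,3,8], [3,4,5,8,5,3], [3,4,5,3,7,8,5,3], [7,8,4,5,8,3,5], [3,4,8,5,3,8], [4,5,8,5,3],
   [4,5,3,7,8,5,3], [3,7,8,4,5,8,3,5], [4,7,8,5,3,8,4], [3,4,5,7,8,5,3,4], [3,4,5,3,8,5,3,4], [8,4,5,3,4,8,5],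
   [5,8,0,5,3,4], [0,8,3,5,3,4,8], [3,4,5,3,7,8,4,5,3,4], [7,8,4,5,3,4,8,5,3], [7,8,3,5,8,4], [4,5,7,8,5],
   [8,3,5,3,4,8], [8,0,5,3,4,8], [3,4,5,3,8,5], [0,4,5,3,8,5], [0,4,5,7,8,5], [3,4,5,7,8,5],
   [4,5,3,8,5], [0,3,4,5,3,8,5], [4,5,3,7,8,4,5,3,4], [3,7,8,4,5,3,4,8,5,3], [3,5,7,8,4,5,3,4], [7,8,4,5,3,4,8],
   [5,8,4,5,3], [3,8,4,5,8,3], [3,5,8,4,5,3], [8,4,5,8,3], [4,8,5,3,8,4,5], [3,4,5,8,3,5,3,4]]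

def twoPt_4 : List (List ℕ) :=
  [[5,7,8,4,5,3,4], [3,7,8,4,5,3,4,8], [3,4,7,8,5,3,8,5], [4,5,7,8,3,5,3], [4,7,8,5,3,8,5], [3,4,5,7,8,3,5,3],
   [3,4,8,5,3,8,4,5], [4,5,8,3,5,3,4], [5,8,5,3,4], [3,8,5,3,8,4], [3,5,8,5,3,4], [8,5,3,8,4],
   [3,5,7,8,4,5], [7,8,4,5,8], [0,3,4,5,8,3,5], [4,5,8,3,5], [5,7,8,4,5], [3,7,8,4,5,8],
   [0,4,5,8,3,5], [3,4,5,8,3,5], [3,4,7,8,5,3,8,4,5,3], [4,5,3,4,7,8,5,3,4], [4,7,8,5,3,8,4,5,3], [3,4,5,3,4,7,8,5,3,4],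
   [7,8,3,5,3,4,8], [7,8,0,5,3,4,8], [4,5,3,8,4,5,3,4], [3,8,4,5,3,4,8,5,3], [0,4,5,8,5], [3,4,5,8,5],
   [5,7,8,0,5,3,4], [0,7,8,3,5,3,4,8], [4,5,3,7,8,5], [0,3,4,5,3,7,8,5], [8,3,5,8,4], [4,5,8,5],
   [3,4,5,3,7,8,5], [0,4,5,3,7,8,5], [3,4,5,3,8,4,5,3,4], [8,4,5,3,4,8,5,3], [5,8,0,5,3], [0,8,3,5,8,3],
   [8,3,5,8,3], [8,0,5,8,3], [3,4,5,3,8,4,5], [0,4,5,3,8,4,5], [7,8,3,5,8], [7,8,0,5,8],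
   [5,7,8,0,5], [0,7,8,3,5,8], [4,5,3,7,8,4,5,3], [5,3,4,7,8,5,3,8,5], [3,4,5,3,7,8,4,5,3], [0,4,5,3,7,8,4,5,3],
   [4,5,3,8,4,5], [0,3,4,5,3,8,4,5], [0,5,3,8,5,3,4], [3,5,3,8,5,3,4], [3,4,5,3,8], [0,4,5,3,8],
   [0,4,5,7,8], [3,4,5,7,8], [4,5,3,8], [0,3,4,5,3,8], [0,3,4,5,7,8], [4,5,7,8],
   [3,5,3,4,7,8,5,3,4], [7,8,5,3,8,4,5,3], [5,3,4,7,8,5,3,4], [3,7,8,5,3,8,4,5,3], [5,3,8,5,3,8,4], [5,3,8,5,3,4],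
   [3,5,7,8,5,3,4], [7,8,5,3,8,4], [5,7,8,5,3,4], [3,7,8,5,3,8,4], [5,8,4,5], [3,8,4,5,8],
   [0,4,5,7,8,3,5], [3,4,5,7,8,3,5], [3,5,8,4,5], [8,4,5,8], [0,3,4,5,7,8,3,5], [4,5,7,8,3,5],
   [4,8,5,3,8,4,5,3], [3,4,5,3,4,8,5,3,4], [3,4,8,5,3,8,4,5,3], [4,5,3,4,8,5,3,4], [0,3,4,5,8,3], [4,5,8,3]]

def twoPt_5 : List (List ℕ) :=
  [[0,4,5,8,3], [3,4,5,8,3], [5,8,3,5,3,4], [3,8,5,3,8,4,5], [5,3,7,8,4,5,3,4,8], [5,3,7,8,4,5,3,4],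
   [5,7,8,4], [0,3,5,7,8,4], [0,5,3,7,8,4,5,3,4], [3,5,3,7,8,4,5,3,4], [3,5,8,3,5,3,4], [8,5,3,8,4,5],
   [3,5,7,8,4], [0,5,7,8,4], [3,5,8,5,3], [8,5,3,8], [0,3,4,5,3,4,8,5], [4,5,3,4,8,5],
   [5,8,5,3], [3,8,5,3,8], [5,7,8,5], [0,3,5,7,8,5], [0,4,5,3,4,7,8,5,3], [3,4,5,3,4,7,8,5,3],
   [3,5,7,8,5], [0,5,7,8,5], [0,4,5,3,4,8,5], [3,4,5,3,4,8,5], [5,3,7,8,4,5,8,3,5], [4,5,3,4,7,8,5,3],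
   [5,7,8,5,3], [3,7,8,5,3,8], [0,4,5,3,4,7,8,5], [3,4,5,3,4,7,8,5], [3,5,7,8,5,3], [7,8,5,3,8],
   [3,5,8,5], [0,5,8,5], [5,3,8,4,5,8,3,5], [4,5,3,4,8,5,3], [5,8,5], [0,3,5,8,5],
   [0,3,4,5,3,4,7,8,5], [4,5,3,4,7,8,5], [0,4,5,3,4,8,5,3], [3,4,5,3,4,8,5,3], [7,8,3,5,8,3], [7,8,0,5,8,3],
   [5,7,8,0,5,3], [0,7,8,3,5,8,3], [4,5,3,7,8,4,5], [0,3,4,5,3,7,8,4,5], [5,8,0,5], [0,8,3,5,8],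
   [8,3,5,8], [8,0,5,8], [3,4,5,3,8,4,5,3], [0,4,5,3,8,4,5,3], [4,5,3,8,4,5,3], [5,3,4,8,5,3,8,5],
   [3,4,5,3,7,8,4,5], [0,4,5,3,7,8,4,5], [5,3,7,8,5,3,8,4], [5,3,7,8,5,3,4], [4,5,3,7,8], [0,3,4,5,3,7,8],
   [0,3,4,5,8], [4,5,8], [3,4,5,3,7,8], [0,4,5,3,7,8], [0,4,5,8], [3,4,5,8],
   [5,3,4,8,5,3,4], [3,8,5,3,8,4,5,3], [3,5,3,4,8,5,3,4], [8,5,3,8,4,5,3], [0,5,3,7,8,5,3,4], [3,5,3,7,8,5,3,4],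
   [3,4,5,3,8,4], [0,4,5,3,8,4], [0,5,3,8,5,3], [3,5,3,8,5,3], [5,3,4,7,8,5,3], [5,3,4,7,8,5,3,8],
   [3,5,7,8,0], [0,5,7,8,0], [5,7,8,0], [0,3,5,7,8,0], [5,3,8,5,3,8], [5,3,8,5,3]]

def twoPt_6 : List (List ℕ) :=
  [[3,5,3,4,7,8,5,3], [0,5,3,4,7,8,5,3], [4,5,3,8,4], [0,3,4,5,3,8,4], [0,4,5,7,8,3], [3,4,5,7,8,3],
   [0,3,4,5,7,8,3], [4,5,7,8,3], [3,5,7,8,3,5,3,4], [7,8,5,3,8,4,5], [0,5,3,8,4,5,3,4], [3,5,3,8,4,5,3,4],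
   [3,5,8,4], [0,5,8,4], [5,3,8,4,5,3,4,8], [5,3,8,4,5,3,4], [5,7,8,3,5,3,4], [3,7,8,5,3,8,4,5],
   [5,8,4], [0,3,5,8,4], [4,7,8,3], [0,3,4,7,8,3], [3,4,7,8,3], [0,4,7,8,3],
   [8,5,3,4,8,5,3], [8,5,3,4,8,5,3,8], [4,3,5,8,4], [4,3,5,8,0], [0,4,3,5,8,4], [0,4,3,5,8,0],
   [0,7,8,4,5,3,8,4,5,3,8,5], [3,7,8,4,5,3,8,4,5,3,8,5], [3,8,5,3,4,8,5,3], [0,8,5,3,4,8,5,3], [7,8,4,5,3,8,4,5,3,8,5], [7,8,4,5,3,8,4,5,3,8,5,8],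
   [0,3,4,5,3,4,8], [4,5,3,4,8], [5,7,8], [0,3,5,7,8], [3,5,8,3,5,3], [8,5,3,8,5],
   [0,4,5,3,4,8], [3,4,5,3,4,8], [5,8,3,5,3], [3,8,5,3,8,5], [0,5,3,7,8,4,5,3], [3,5,3,7,8,4,5,3],
   [3,5,7,8], [0,5,7,8], [5,3,7,8,4,5,8,3], [5,3,7,8,4,5,3], [0,4,5,3,4,7,8], [3,4,5,3,4,7,8],
   [3,5,8], [0,5,8], [5,7,8,3,5,3], [3,7,8,5,3,8,5], [0,3,4,5,3,4,7,8], [4,5,3,4,7,8],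
   [3,5,7,8,3,5,3], [7,8,5,3,8,5], [5,3,8,4,5,8,3], [5,3,8,4,5,3], [5,8], [0,3,5,8],
   [0,5,3,8,4,5,3], [3,5,3,8,4,5,3], [4,5,3,7,8,4], [0,3,4,5,3,7,8,4], [5,3,7,8,5,3,8], [5,3,7,8,5,3],
   [3,5,3,4,8,5,3], [0,5,3,4,8,5,3], [5,8,0], [0,3,5,8,0], [3,5,8,0], [0,5,8,0],
   [0,5,3,7,8,5,3], [3,5,3,7,8,5,3], [5,3,4,8,5,3], [5,3,4,8,5,3,8], [3,4,5,3,7,8,4], [0,4,5,3,7,8,4],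
   [3,5,3,4,8], [0,5,3,4,8], [5,3,4,7,8,5], [5,7,8,3,5,8,4], [0,3,5,3,7,8], [5,3,7,8]]

def twoPt_7 : List (List ℕ) :=
  [[0,5,3,7,8], [3,5,3,7,8], [0,5,3,8,5], [3,5,3,8,5], [0,3,5,3,8,5], [5,3,8,5],
   [5,3,4,8], [0,3,5,3,4,8], [3,5,3,4,7,8,5], [0,5,3,4,7,8,5], [4,7,8,3,5], [0,3,4,7,8,3,5],
   [3,4,7,8,3,5], [0,4,7,8,3,5], [0,7,8,4,5,3,8,4,5,3,8], [3,7,8,4,5,3,8,4,5,3,8], [7,8,4,5,3,8,4,5,3,8], [7,8,5,3,4,8,5,3,8,5,8],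
   [4,3,5,8,4,5], [4,8,3,5,8], [3,4,8,3,5,8], [0,4,8,3,5,8], [8,4,5,3,8,4,5,3], [8,5,3,4,8,5,3,8,5],
   [3,8,4,5,3,8,4,5,3], [0,8,4,5,3,8,4,5,3], [3,4,3,8], [0,4,3,8], [0,3,4,3,8], [4,3,8],
   [3,4,8,5,3,4,8,5,8,3,5], [8,5,3,4,8,5,8,3,5,8], [4,3,5,7,8], [0,3,4,3,5,7,8], [3,4,3,5,7,8], [0,4,3,5,7,8],
   [0,7,8,3,5,3,8,4,5,3], [5,7,8,5,3,4,8,5,3], [7,8,0,5,3,8,4,5,3], [7,8,3,5,3,8,4,5,3], [3,8,5,3,4,8,5,8,3,5,8], [4,8,5,3,4,8,5,8,3,5],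
   [4,3,7,8], [0,3,4,3,7,8], [0,4,3,7,8], [3,4,3,7,8], [4,7,8,5,3,4,8,5,8,3,5], [3,7,8,5,3,4,8,5,8,3,5,8],
   [3,4,3,5,8], [0,4,3,5,8], [4,3,5,8], [0,3,4,3,5,8], [8,0,5,3,8,4,5,3], [8,3,5,3,8,4,5,3],
   [0,8,3,5,3,8,4,5,3], [5,8,5,3,4,8,5,3], [7,8,5,3,4,8,5,8,3,5,8], [3,4,7,8,5,3,4,8,5,8,3,5], [4,7,8], [0,3,4,7,8],
   [3,4,7,8], [0,4,7,8], [8,5,3,4,8,5], [8,5,8,3,5,8,4], [0,4,3,5,3,8], [3,4,3,5,3,8],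
   [0,3,4,3,5,3,8], [4,3,5,3,8], [7,8,5,3,8,4,5,3,8,5,8], [5,3,7,8,4,5,3,8,4,5,8], [3,8,5,3,4,8,5], [0,8,5,3,4,8,5],
   [4,5,3,7,8,4,5,3,8,4,5], [5,3,4,7,8,5,3,4,8,5,8], [0,3,5,3,8,4], [5,3,8,4], [5,7,8,3], [0,3,5,7,8,3],
   [0,5,3,7,8,4,5], [3,5,3,7,8,4,5], [3,5,7,8,3], [0,5,7,8,3], [3,5,8,3,5], [0,5,8,3,5],
   [0,5,3,8,4], [3,5,3,8,4], [5,8,3,5], [5,8,3,5,8], [5,3,7,8,4,5,8], [5,3,7,8,4,5]]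

def twoPt_8 : List (List ℕ) :=
  [[0,4,3,8,5], [3,4,3,8,5], [0,3,4,3,8,5], [4,3,8,5], [3,4,8,5,3,4,8,5,8,3], [0,4,8,5,3,4,8,5,8,3],
   [0,3,4,7,8,5,3,4,8,5,3], [4,7,8,5,3,4,8,5,3], [4,3,5,7,8,5], [4,7,8,3,5,8,4], [0,4,3,5,7,8,5], [3,4,3,5,7,8,5],
   [4,8,5,3,4,8,5,8,3], [0,3,4,8,5,3,4,8,5,8,3], [0,4,7,8,5,3,4,8,5,3], [3,4,7,8,5,3,4,8,5,3], [0,5,3,7,8,4], [3,5,3,7,8,4],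
   [3,5,8,3], [0,5,8,3], [5,3,8,4,5,8], [5,3,8,4,5], [5,8,3], [0,3,5,8,3],
   [5,7,8,3,5], [5,7,8,3,5,8], [0,3,5,3,7,8,4], [5,3,7,8,4], [3,5,7,8,3,5], [0,5,7,8,3,5],
   [0,5,3,8,4,5], [3,5,3,8,4,5], [5,3,4,7,8], [0,3,5,3,4,7,8], [3,5,3,4,8,5], [0,5,3,4,8,5],
   [0,5,3,8], [3,5,3,8], [0,3,5,3,8], [5,3,8], [0,3,5,3,7,8,5], [5,3,7,8,5],
   [0,5,3,7,8,5], [3,5,3,7,8,5], [3,5,3,4,7,8], [0,5,3,4,7,8], [5,3,4,8,5], [5,8,3,5,8,4],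
   [0,3,4,3,7,8,5], [4,3,7,8,5], [0,4,3,7,8,5], [3,4,3,7,8,5], [4,7,8,5,3,4,8,5,8,3], [0,3,4,7,8,5,3,4,8,5,8,3],
   [0,4,8,5,3,4,8,5,3], [3,4,8,5,3,4,8,5,3], [3,4,3,5,8,5], [0,4,3,5,8,5], [4,8,3,5,8,4], [4,3,5,8,5],
   [3,4,7,8,5,3,4,8,5,8,3], [0,4,7,8,5,3,4,8,5,8,3], [0,3,4,8,5,3,4,8,5,3], [4,8,5,3,4,8,5,3], [4,7,8,3,5,3], [0,3,4,7,8,3,5,3],
   [3,4,7,8,3,5,3], [0,4,7,8,3,5,3], [4,3,5,8,4,5,3], [4,8,3,5,8,3], [3,4,8,3,5,8,3], [0,4,8,3,5,8,3],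
   [8,4,5,3,8,4,5], [0,3,8,4,5,3,8,4,5], [0,7,8,4,5,3,8,5,8,4], [3,7,8,4,5,3,8,5,8,4], [7,8,4,5,3,8,5,8,4], [0,3,7,8,4,5,3,8,5,8,4],
   [3,8,4,5,3,8,4,5], [0,8,4,5,3,8,4,5], [3,4,8,3], [0,4,8,3], [4,8,3], [0,3,4,8,3],
   [3,7,8,5,3,4,8,5,3], [0,7,8,5,3,4,8,5,3], [0,4,3,5,7,8,0], [0,4,3,5,7,8,4], [4,3,5,7,8,0], [4,3,5,7,8,4]]

def twoPt_9 : List (List ℕ) :=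
  [[8,4,5,3,8,4,5,3,8,5,8], [8,4,5,3,8,4,5,3,8,5], [7,8,5,3,4,8,5,3], [7,8,5,3,4,8,5,3,8], [3,8,4,5,3,8,4,5,3,8,5], [0,8,4,5,3,8,4,5,3,8,5],
   [0,8,4], [3,8,4], [0,3,8,4], [8,4], [4,3,5,7,8,3], [0,3,4,3,5,7,8,3],
   [3,4,3,5,7,8,3], [0,4,3,5,7,8,3], [0,7,8,3,5,3,8,4,5], [5,7,8,5,3,4,8,5], [4,8,5,3,8,4,5,3,8,5], [0,5,3,8,4,5,3,8,5,8,4],
   [7,8,0,5,3,8,4,5], [7,8,3,5,3,8,4,5], [5,3,8,4,5,3,8,5,8,4], [4,5,3,4,8,5,3,4,8,5], [0,3,7,8,4], [7,8,4],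
   [0,7,8,4], [3,7,8,4], [3,4,3,5,8,3], [0,4,3,5,8,3], [4,3,5,8,3], [0,3,4,3,5,8,3],
   [8,0,5,3,8,4,5], [8,3,5,3,8,4,5], [5,3,7,8,4,5,3,8,5,8,4], [4,5,3,4,7,8,5,3,4,8,5], [0,8,3,5,3,8,4,5], [5,8,5,3,4,8,5],
   [4,7,8,5,3,8,4,5,3,8,5], [0,5,3,7,8,4,5,3,8,5,8,4], [0,7,8,0], [0,7,8,3], [7,8,3], [7,8,0],
   [0,3,4,3,5,3,8,4], [4,3,5,3,8,4], [8,5,8,3,5], [8,5,8,3,5,8], [0,4,3,5,3,8,4], [3,4,3,5,3,8,4],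
   [3,8,5,8,3,5], [0,8,5,8,3,5], [4,5,3,7,8,4,5,3,8,5,8], [4,5,3,7,8,4,5,3,8,5], [3,4,5,3,7,8,4,5,3,8,5], [0,4,5,3,7,8,4,5,3,8,5],
   [4,7,8,5], [0,3,4,7,8,5], [3,4,7,8,5], [0,4,7,8,5], [8,5,3,4,8], [0,3,8,5,3,4,8],
   [3,4,5,3,7,8,4,5,3,8,4], [7,8,4,5,3,4,8,5,8,3], [0,3,4,3,5,3,8,5], [4,3,5,3,8,5], [3,4,3,5,3,8,5], [0,4,3,5,3,8,5],
   [3,8,5,3,4,8], [0,8,5,3,4,8], [4,5,3,7,8,4,5,3,8,4], [3,7,8,4,5,3,4,8,5,8,3], [3,4,8,5,3], [0,4,8,5,3],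
   [4,8,5,3], [0,3,4,8,5,3], [3,7,8,4,5,3,8,4], [0,7,8,4,5,3,8,4], [4,5,3,7,8,5,3,8], [3,4,3,5,3,7,8,5,3],
   [3,8,4,5,3,4,8,5,8], [4,5,3,8,5,3,4,8], [4,3,5,3,7,8,5,3], [3,4,5,3,7,8,5,3,8], [7,8,4,5,3,8,4], [0,3,7,8,4,5,3,8,4],
   [8,4,5,3,4,8,5,8], [3,4,5,3,8,5,3,4,8], [0,3,7,8,4,5], [7,8,4,5], [0,7,8,4,5], [3,7,8,4,5]]

def twoPt_10 : List (List ℕ) :=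
  [[8,0,5,3,8,4], [8,3,5,3,8,4], [4,3,5,8,3,5], [3,4,5,8,3,5,8], [3,4,7,8,5,3,8,4,5,3,8], [4,5,3,4,7,8,5,3,4,8],
   [0,8,3,5,3,8,4], [5,8,5,3,4,8], [4,7,8,5,3,8,4,5,3,8], [3,4,5,3,4,7,8,5,3,4,8], [3,4,3,5,8,3,5], [4,5,8,3,5,8],
   [3,4,8,5], [0,4,8,5], [4,8,5], [0,3,4,8,5], [3,7,8,5,3,4,8], [0,7,8,5,3,4,8],
   [4,5,3,8,4,5,3,8,4], [3,8,4,5,3,4,8,5,8,3], [0,4,3,5,3,7,8,5], [3,4,3,5,3,7,8,5], [4,3,5,3,7,8,5], [0,3,4,3,5,3,7,8,5],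
   [7,8,5,3,4,8], [0,3,7,8,5,3,4,8], [3,4,5,3,8,4,5,3,8,4], [8,4,5,3,4,8,5,8,3], [3,4,8,3,5], [0,4,8,3,5],
   [4,8,3,5], [0,3,4,8,3,5], [8,5,3,4,8,5,3,8,5,8], [8,4,5,3,8,4,5,3,8], [3,8,4,5,3,8,4,5,3,8], [0,8,4,5,3,8,4,5,3,8],
   [0,4,7,8,3,5,8], [3,4,7,8,3,5,8], [4,7,8,3,5,8], [4,3,5,7,8,4,5], [3,7,8,4,5,3,8,4,5,3], [0,7,8,4,5,3,8,4,5,3],
   [7,8,4,5,3,8,4,5,3], [7,8,5,3,4,8,5,3,8,5], [0,4,3,8,5,3], [3,4,3,8,5,3], [0,3,4,3,8,5,3], [4,3,8,5,3],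
   [0,3,4,7,8,5,3,4,8,5], [4,7,8,5,3,4,8,5], [4,3,5,7,8,5,3], [3,4,3,7,8,5,3,8], [4,3,7,8,5,3,8], [3,4,3,5,7,8,5,3],
   [3,4,8,5,3,4,8,5,8], [0,4,8,5,3,4,8,5,8], [0,4,7,8,5,3,4,8,5], [3,4,7,8,5,3,4,8,5], [4,8,5,3,4,8,5,8], [0,3,4,8,5,3,4,8,5,8],
   [0,3,4,3,7,8,5,3], [4,3,7,8,5,3], [0,4,3,7,8,5,3], [3,4,3,7,8,5,3], [0,4,8,5,3,4,8,5], [3,4,8,5,3,4,8,5],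
   [3,4,3,5,8,5,3], [4,3,8,5,3,8], [3,4,3,8,5,3,8], [4,3,5,8,5,3], [4,7,8,5,3,4,8,5,8], [0,3,4,7,8,5,3,4,8,5,8],
   [0,3,4,8,5,3,4,8,5], [4,8,5,3,4,8,5], [3,4,7,8,5,3,4,8,5,8], [0,4,7,8,5,3,4,8,5,8], [4,7,8,5,3], [0,3,4,7,8,5,3],
   [3,4,7,8,5,3], [0,4,7,8,5,3], [8,4,5,3,8,4], [0,3,8,4,5,3,8,4], [3,4,5,3,8,5,3,8], [4,3,5,3,8,5,3],
   [7,8,4,5,3,4,8,5,8], [3,4,5,3,7,8,5,3,4,8], [3,4,3,5,3,8,5,3], [4,5,3,8,5,3,8], [3,8,4,5,3,8,4], [0,8,4,5,3,8,4]]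

def twoPt_11 : List (List ℕ) :=
  [[3,7,8,4,5,3,4,8,5,8], [4,5,3,7,8,5,3,4,8], [4,7,8,3,5,3,4], [0,3,4,7,8,3,5,3,4], [3,4,7,8,3,5,3,4], [0,4,7,8,3,5,3,4],
   [4,8,3,5,3,4,8], [4,3,5,8,4,5,3,4], [3,4,8,3,5,3,4,8], [0,4,8,3,5,3,4,8], [8,4,5,3,8,5], [0,3,8,4,5,3,8,5],
   [3,8,4,5,3,8,5], [0,8,4,5,3,8,5], [3,7,8,4,5,3,8,5,8], [0,7,8,4,5,3,8,5,8], [7,8,4,5,3,8,5,8], [0,3,7,8,4,5,3,8,5,8],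
   [0,3,4,3,7,8,5,3,4], [4,3,7,8,5,3,4], [0,4,3,7,8,5,3,4], [3,4,3,7,8,5,3,4], [4,3,5,8,5,3,4], [3,4,3,8,5,3,8,4],
   [0,4,8,5,8,3,5], [3,4,8,5,8,3,5], [0,3,4,8,5,8,3,5], [4,8,5,8,3,5], [3,4,3,5,8,5,3,4], [4,3,8,5,3,8,4],
   [4,7,8,3,5,3,8,5,8], [3,4,5,7,8,3,5,3,8,5], [3,4,7,8,3,5,3,8,5,8], [4,5,7,8,3,5,3,8,5], [3,4,8], [0,4,8],
   [4,8], [0,3,4,8], [3,7,8,5,3,4,8,5], [0,7,8,5,3,4,8,5], [0,3,4,3,5,3,7,8], [4,3,5,3,7,8],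
   [0,4,3,5,3,7,8], [3,4,3,5,3,7,8], [4,5,3,8,4,5,3,8,4,5], [5,3,4,8,5,3,4,8,5,8], [7,8,5,3,4,8,5], [7,8,5,8,3,5,8,4],
   [8,5,3,8,4,5,3,8,5,8], [5,3,8,4,5,3,8,4,5,8], [8,3], [8,0], [0,8,0], [0,8,3],
   [0,4,3,5,3,7,8,4], [3,4,3,5,3,7,8,4], [3,7,8,5,8,3,5], [0,7,8,5,8,3,5], [0,3,4,3,5,3,7,8,4], [4,3,5,3,7,8,4],
   [7,8,5,8,3,5], [7,8,5,8,3,5,8], [0,4,5,3,8,4,5,3,8,5], [3,4,5,3,8,4,5,3,8,5], [4,5,3,8,4,5,3,8,5], [4,5,3,8,4,5,3,8,5,8],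
   [0,8], [3,8], [0,3,8], [8], [4,3,5,3,4,7,8], [0,3,4,3,5,3,4,7,8],
   [7,8,0,5,3,8,5], [7,8,3,5,3,8,5], [5,3,8,4,5,3,8,5,8], [4,5,3,4,8,5,8,3,5], [3,4,3,5,3,4,7,8], [0,4,3,5,3,4,7,8],
   [0,7,8,3,5,3,8,5], [5,7,8,5,8,3,5], [5,3,4,8,5,8,3,5,8], [0,5,3,8,4,5,3,8,5,8], [0,8,4,5], [3,8,4,5],
   [0,3,8,4,5], [8,4,5], [0,7,8,3,5,3,8,4], [5,7,8,5,3,4,8], [3,4,3,5,7,8,3,5], [4,5,7,8,3,5,8]]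

def twoPt_12 : List (List ℕ) :=
  [[4,8,5,3,8,4,5,3,8], [3,4,5,3,4,8,5,3,4,8], [7,8,0,5,3,8,4], [7,8,3,5,3,8,4], [3,4,8,5,3,8,4,5,3,8], [4,5,3,4,8,5,3,4,8],
   [4,3,5,7,8,3,5], [3,4,5,7,8,3,5,8], [0,3,7,8], [7,8], [0,7,8], [3,7,8],
   [3,4,3,5,3,4,8], [0,4,3,5,3,4,8], [0,8,3,5,3,8,5], [5,8,5,8,3,5], [5,3,4,7,8,5,8,3,5,8], [0,5,3,7,8,4,5,3,8,5,8],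
   [4,3,5,3,4,8], [0,3,4,3,5,3,4,8], [8,0,5,3,8,5], [8,3,5,3,8,5], [5,3,7,8,4,5,3,8,5,8], [4,5,3,4,7,8,5,8,3,5],
   [0,7,8,0,5], [0,7,8,3,5], [7,8,3,5], [7,8,0,5], [8,5,8,3], [0,3,8,5,8,3],
   [3,4,5,3,8,4,5,8], [4,3,5,3,8,4,5], [3,8,5,8,3], [0,8,5,8,3], [5,3,4,7,8,5,3,8,5,8], [4,5,3,7,8,4,5,3,8],
   [3,4,5,3,7,8,4,5,3,8], [0,4,5,3,7,8,4,5,3,8], [3,4,3,5,3,8,4,5], [4,5,3,8,4,5,8], [0,3,7,8,5], [7,8,5],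
   [0,7,8,5], [3,7,8,5], [0,8,3,5,3,8], [5,8,5,8,3], [0,4,5,3,4,7,8,5,8,3], [3,4,5,3,4,7,8,5,8,3],
   [3,4,3,5,3,4,8,5], [4,5,8,3,5,8,4], [8,0,5,3,8], [8,3,5,3,8], [4,3,5,3,4,8,5], [3,4,5,8,3,5,8,4],
   [0,3,4,5,3,4,7,8,5,8,3], [4,5,3,4,7,8,5,8,3], [0,4,3,8,5,3,4], [3,4,3,8,5,3,4], [0,3,4,3,8,5,3,4], [4,3,8,5,3,4],
   [3,4,3,5,7,8,5,3,4], [4,3,7,8,5,3,8,4], [0,3,4,7,8,5,8,3,5], [4,7,8,5,8,3,5], [0,4,7,8,5,8,3,5], [3,4,7,8,5,8,3,5],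
   [4,3,5,7,8,5,3,4], [3,4,3,7,8,5,3,8,4], [3,4,8,3,5,3,8,5,8], [4,5,8,3,5,3,8,5], [4,8,3,5,3,8,5,8], [3,4,5,8,3,5,3,8,5],
   [3,4,8,5,3,4], [0,4,8,5,3,4], [4,8,5,3,4], [0,3,4,8,5,3,4], [4,3,5,3,7,8,5,3,4], [3,4,5,3,7,8,5,3,8,4],
   [3,7,8,4,5,3,8], [0,7,8,4,5,3,8], [7,8,4,5,3,8], [0,3,7,8,4,5,3,8], [3,4,3,5,3,7,8,5,3,4], [4,5,3,7,8,5,3,8,4],
   [4,5,3,8,5,8,3], [0,3,4,5,3,8,5,8,3], [0,4,5,3,8,5,8,3], [3,4,5,3,8,5,8,3], [0,8,4,5,3,4], [3,8,4,5,3,4]]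

def twoPt_13 : List (List ℕ) :=
  [[0,3,8,4,5,3,4], [8,4,5,3,4], [0,3,4,7,8,5,8,3], [4,7,8,5,8,3], [0,4,7,8,5,8,3], [3,4,7,8,5,8,3],
   [3,4,3,5,7,8,3,5,3,4], [4,3,7,8,5,3,8,4,5], [4,8,5,3,8,5,8], [3,4,5,8,3,5,3,8], [3,4,3,7,8,5,3,8,4,5], [4,3,5,7,8,3,5,3,4],
   [4,5,8,3,5,3,8], [3,4,8,5,3,8,5,8], [0,3,7,8,4,5,3], [7,8,4,5,3], [0,7,8,4,5,3], [3,7,8,4,5,3],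
   [0,4,8,5,3,4,8], [3,4,8,5,3,4,8], [0,3,4,8,5,3,4,8], [4,8,5,3,4,8], [4,3,5,8,3,5,3], [3,4,3,8,5,3,8,5],
   [3,4,3,5,8,3,5,3], [4,3,8,5,3,8,5], [4,5,7,8,3,5,3,8,4], [3,4,7,8,5,3,8,5,8,4], [4,7,8,5,3,8,5,8,4], [3,4,5,7,8,3,5,3,8,4],
   [0,8,4,5,3], [3,8,4,5,3], [0,3,8,4,5,3], [8,4,5,3], [0,3,4,7,8,5,3,4,8], [4,7,8,5,3,4,8],
   [0,4,7,8,5,3,4,8], [3,4,7,8,5,3,4,8], [3,4,3,5,7,8,3,5,3], [4,3,7,8,5,3,8,5], [4,3,5,7,8,3,5,3], [3,4,3,7,8,5,3,8,5],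
   [3,4,5,8,3,5,3,8,4], [4,8,5,3,8,5,8,4], [3,4,8,5,3,8,5,8,4], [4,5,8,3,5,3,8,4], [3,4,8,3,5,3], [0,4,8,3,5,3],
   [4,8,3,5,3], [0,3,4,8,3,5,3], [0,4,7,8,3,5,8,3], [3,4,7,8,3,5,8,3], [4,7,8,3,5,8,3], [4,3,5,7,8,4,5,3],
   [3,7,8,4,5,3,8,4,5], [0,7,8,4,5,3,8,4,5], [0,3,8,4,5,3,8,5,8,4], [8,4,5,3,8,5,8,4], [3,8,4,5,3,8,5,8,4], [0,8,4,5,3,8,5,8,4],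
   [7,8,4,5,3,8,4,5], [0,3,7,8,4,5,3,8,4,5], [0,8,5], [3,8,5], [0,3,8,5], [8,5],
   [7,8,0,5,3,8], [7,8,3,5,3,8], [0,3,4,5,3,4,8,5,8,3], [4,5,3,4,8,5,8,3], [4,3,5,3,4,7,8,5], [3,4,5,7,8,3,5,8,4],
   [0,7,8,3,5,3,8], [5,7,8,5,8,3], [3,4,3,5,3,4,7,8,5], [4,5,7,8,3,5,8,4], [0,4,5,3,4,8,5,8,3], [3,4,5,3,4,8,5,8,3],
   [8,3,5], [8,0,5], [0,8,0,5], [0,8,3,5], [3,7,8,5,8,3], [0,7,8,5,8,3],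
   [4,5,3,7,8,4,5,8], [3,4,3,5,3,7,8,4,5], [7,8,5,8,3], [0,3,7,8,5,8,3], [0,4,5,3,8,4,5,3,8], [3,4,5,3,8,4,5,3,8]]

def twoPt_14 : List (List ℕ) :=
  [[4,5,3,8,4,5,3,8], [5,3,4,8,5,3,8,5,8], [4,3,5,3,7,8,4,5], [3,4,5,3,7,8,4,5,8], [0,8,5,3], [3,8,5,3],
   [8,5,3], [0,3,8,5,3], [3,5,7,8,5,8], [7,8,5,8,0], [0,3,4,5,3,4,8,5,8], [4,5,3,4,8,5,8],
   [4,3,5,3,4,7,8,5,3], [3,4,5,3,4,7,8,5,3,8], [3,7,8,5,8,0], [5,7,8,5,8], [4,5,3,4,7,8,5,3,8], [3,4,3,5,3,4,7,8,5,3],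
   [0,4,5,3,4,8,5,8], [3,4,5,3,4,8,5,8], [0,7,8,0,5,3], [0,7,8,3,5,3], [7,8,3,5,3], [7,8,0,5,3],
   [8,5,8], [0,3,8,5,8], [3,4,5,3,8,4,5,8,3], [4,3,5,3,8,4,5,3], [3,8,5,8], [0,8,5,8],
   [0,3,4,5,3,7,8,5,8,4], [4,5,3,7,8,5,8,4], [0,4,5,3,7,8,5,8,4], [3,4,5,3,7,8,5,8,4], [3,4,3,5,3,8,4,5,3], [4,5,3,8,4,5,8,3],
   [8,3,5,3,4], [8,0,5,3,4], [0,8,0,5,3,4], [0,8,3,5,3,4], [3,7,8,5,8,4], [0,7,8,5,8,4],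
   [4,3,5,3,7,8,4,5,3,4], [3,4,5,3,7,8,4,5,3,4,8], [7,8,5,8,4], [0,3,7,8,5,8,4], [0,4,5,3,8,5,8], [3,4,5,3,8,5,8],
   [3,4,3,5,3,7,8,4,5,3,4], [4,5,3,7,8,4,5,3,4,8], [4,5,3,8,5,8], [0,3,4,5,3,8,5,8], [4,7,8,5,3,4], [0,3,4,7,8,5,3,4],
   [3,4,7,8,5,3,4], [0,4,7,8,5,3,4], [3,4,3,5,3,8,5,3,4], [4,5,3,8,5,3,8,4], [8,4,5,3,8], [0,3,8,4,5,3,8],
   [3,8,4,5,3,8], [0,8,4,5,3,8], [4,3,5,3,8,5,3,4], [3,4,5,3,8,5,3,8,4], [3,4,5,3,7,8,5,8,3], [0,4,5,3,7,8,5,8,3],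
   [0,3,4,5,3,7,8,5,8,3], [4,5,3,7,8,5,8,3], [0,3,7,8,4,5,3,4], [7,8,4,5,3,4], [0,7,8,4,5,3,4], [3,7,8,4,5,3,4],
   [0,4,8,5,8,3], [3,4,8,5,8,3], [0,3,4,8,5,8,3], [4,8,5,8,3], [4,3,5,8,3,5,3,4], [3,4,3,8,5,3,8,4,5],
   [3,4,7,8,5,3,8,5,8], [4,5,7,8,3,5,3,8], [4,3,8,5,3,8,4,5], [3,4,3,5,8,3,5,3,4], [3,4,5,7,8,3,5,3,8], [4,7,8,5,3,8,5,8],
   [0,3,7,8,5,3,4], [7,8,5,3,4], [0,7,8,5,3,4], [3,7,8,5,3,4], [0,4,8,5,8], [3,4,8,5,8]]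

def twoPt_15 : List (List ℕ) :=
  [[4,8,5,8], [0,3,4,8,5,8], [3,4,3,8,5,3,8,4,5,3], [4,3,5,3,4,8,5,3,4], [3,4,3,5,3,7,8,5,8], [4,5,3,7,8,5,8,0],
   [4,3,8,5,3,8,4,5,3], [3,4,3,5,3,4,8,5,3,4], [3,4,5,3,7,8,5,8,0], [4,3,5,3,7,8,5,8], [3,4,8,3,5,3,4], [0,4,8,3,5,3,4],
   [4,8,3,5,3,4], [0,3,4,8,3,5,3,4], [3,4,7,8,3,5,3,4,8], [0,4,7,8,3,5,3,4,8], [4,7,8,3,5,3,4,8], [4,3,5,7,8,4,5,3,4],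
   [3,7,8,4,5,3,8,5], [0,7,8,4,5,3,8,5], [7,8,4,5,3,8,5], [0,3,7,8,4,5,3,8,5], [8,4,5,3,8,5,8], [0,3,8,4,5,3,8,5,8],
   [3,8,4,5,3,8,5,8], [0,8,4,5,3,8,5,8], [0,7,8,0,5,3,4], [0,7,8,3,5,3,4], [7,8,3,5,3,4], [7,8,0,5,3,4],
   [8,5,8,4], [0,3,8,5,8,4], [3,4,3,5,3,8,4,5,3,4], [4,5,3,8,4,5,3,4,8], [3,8,5,8,4], [0,8,5,8,4],
   [0,3,4,5,3,7,8,5,8], [4,5,3,7,8,5,8], [4,3,5,3,8,4,5,3,4], [3,4,5,3,8,4,5,3,4,8], [3,4,5,3,7,8,5,8], [0,4,5,3,7,8,5,8],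
   [0,3,7,8,5,3], [7,8,5,3], [3,7,8,5,3], [0,7,8,5,3], [5,8,5,8], [3,8,5,8,0],
   [0,4,5,3,4,7,8,5,8], [3,4,5,3,4,7,8,5,8], [3,4,3,5,3,4,8,5,3], [4,5,3,4,8,5,3,8], [8,5,8,0], [3,5,8,5,8],
   [3,4,5,3,4,8,5,3,8], [4,3,5,3,4,8,5,3], [0,3,4,5,3,4,7,8,5,8], [4,5,3,4,7,8,5,8], [0,8,5,3,4], [3,8,5,3,4],
   [0,3,8,5,3,4], [8,5,3,4], [0,3,4,7,8,5,8], [4,7,8,5,8], [3,4,7,8,5,8], [0,4,7,8,5,8],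
   [4,3,7,8,5,3,8,4,5,3], [3,4,3,5,3,4,7,8,5,3,4], [4,3,5,3,8,5,8], [3,4,5,3,8,5,8,0], [3,4,3,7,8,5,3,8,4,5,3], [4,3,5,3,4,7,8,5,3,4],
   [4,5,3,8,5,8,0], [3,4,3,5,3,8,5,8], [8,3,5,3], [8,0,5,3], [0,8,0,5,3], [0,8,3,5,3],
   [3,7,8,5,8], [0,7,8,5,8], [4,5,3,7,8,4,5,8,3], [3,4,3,5,3,7,8,4,5,3], [7,8,5,8], [0,3,7,8,5,8],
   [0,4,5,3,8,5,8,4], [3,4,5,3,8,5,8,4], [0,3,4,5,3,8,5,8,4], [4,5,3,8,5,8,4], [4,3,5,3,7,8,4,5,3], [3,4,5,3,7,8,4,5,8,3]]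

def twoPt : List (List ℕ) :=
  twoPt_0 ++ twoPt_1 ++ twoPt_2 ++ twoPt_3 ++ twoPt_4 ++ twoPt_5 ++ twoPt_6 ++ twoPt_7 ++ twoPt_8 ++ twoPt_9 ++ twoPt_10 ++ twoPt_11 ++ twoPt_12 ++ twoPt_13 ++ twoPt_14 ++ twoPt_15

end Cfsg.Lib.HePres
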