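import Cfsg.Agent.HePres.Invol
import Cfsg.Agent.HePres.TwoPtData

/-!
The centraliser of the fourth letter has order at most 21504.
-/

set_option autoImplicit false
set_option Elab.async false

namespace Cfsg.Lib.HePres

open Cfsg.Lib.CosetCert Cfsg.Lib.PermCert

/-- The centraliser of the fourth letter. -/
def centD : Subgroup Cfsg.Spor.He := Subgroup.centralizer {im9 3}

/-- The second point. -/
def q1 : Fin 2058 := ⟨1, by norm_num⟩

theorem d_points : ((List.range 2058).filter fun x => evalW sigTabs [3] x == x).length = 42 ∧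
    ((List.range 2058).filter fun x => (evalW sigTabs [3] x == x) && mask4.testBit x).length = 16 ∧
    (evalW sigTabs [3] 1 == 1) = true ∧ mask4.testBit 1 = true := by decide +kernel

theorem twoPt_ok : (twoPt.all fun w => w.all (fun l => lamH.contains l) && inX w && (evalW xTabs w 1 == 1)) = true ∧
    incr (twoPt.map baseCode) = true ∧ twoPt.length = 1440 ∧
    (twoPt.filter fun w => sameW (3 :: w) (w ++ [3])).length = 32 := by decide +kernel

theorem mem_centD {c : Cfsg.Spor.He} : c ∈ centD ↔ c * im9 3 = im9 3 * c := Subgroup.mem_centralizer_singleton_iff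

theorem smul_fix_of_comm {c : Cfsg.Spor.He} (hc : c ∈ centD) {x : Fin 2058} (hx : im9 3 • x = x) :
    im9 3 • (c • x) = c • x := by
  rw [← mul_smul, ← mem_centD.1 hc, mul_smul, hx]

/-- The elements of the stabiliser fixing the second point. -/
def twoStab : Subgroup Cfsg.Spor.He := stab ⊓ MulAction.stabilizer Cfsg.Spor.He q1

theorem twoStab_list {c : Cfsg.Spor.He} (hc : c ∈ twoStab) : ∃ w ∈ twoPt, wval imX w = c := by
  classical
  obtain ⟨hall, hinc, hlen, -⟩ := twoPt_ok
  simp only [List.all_eq_true, Bool.and_eq_true, beq_iff_eq] at hall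
  set S : Set Cfsg.Spor.He := {y | y ∈ twoPt.map (wval imX)}
  have hw9 : ∀ w ∈ twoPt, wval imX w = wval im9 w := fun w hw => by
    refine congrArg List.prod (List.map_congr_left fun l hl => imX_low (lamH_lt ?_))
    exact List.contains_iff_mem.1 ((hall w hw).1.1 l hl)
  have hsub : S ⊆ twoStab := by
    intro y hy
    obtain ⟨w, hw, rfl⟩ := List.mem_map.1 hy
    refine ⟨?_, ?_⟩
    · rw [hw9 w hw]
      exact gp_wval (List.all_eq_true.2 (hall w hw).1.1)
    · show wval imX w • q1 = q1
      have h := evalX_apply (hall w hw).1.2 q1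
      rw [show evalW xTabs w (q1 : ℕ) = 1 from (hall w hw).2] at h
      have h' : (psi (wval imX w))⁻¹ q1 = q1 := Fin.ext h
      show psi (wval imX w) q1 = q1
      conv_lhs => rw [← h']
      simp
  have hnd : (twoPt.map (wval imX)).Nodup :=
    List.Nodup.map_on (fun a ha b hb e => List.inj_on_of_nodup_map (incr_nodup hinc) ha hb
      (code_eq (hall a ha).1.2 (hall b hb).1.2 e)) (List.Nodup.of_map _ (incr_nodup hinc))
  have hS : S.ncard = 1440 := by
    rw [← hlen, ← List.length_map (as := twoPt) (wval imX), ← List.toFinset_card_of_nodup hnd,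
      ← Set.ncard_coe_finset, List.coe_toFinset]
  have hcard : (twoStab : Set Cfsg.Spor.He).ncard = 1440 := by
    rw [← Nat.card_coe_set_eq]
    show Nat.card twoStab = 1440
    have h1 := MulAction.orbitProdStabilizerEquivGroup stab q1
    have h2 := Nat.card_congr h1
    rw [Nat.card_prod, Nat.card_coe_set_eq, orbit4.1 q1 (mem_maskSet.2 d_points.2.2.2), orbit4.2.1, card_stab] at h2
    have h3 : Nat.card twoStab = Nat.card (MulAction.stabilizer stab q1) := by
      rw [twoStab, Nat.card_congr (Subgroup.equivMapOfInjective (MulAction.stabilizer stab q1) stab.subtype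
        stab.subtype_injective).toEquiv]
      refine congrArg (fun H : Subgroup Cfsg.Spor.He => Nat.card H) (Subgroup.ext fun x => ?_)
      constructor
      · rintro ⟨h1, h2⟩
        exact ⟨⟨x, h1⟩, h2, rfl⟩
      · rintro ⟨y, hy, rfl⟩
        exact ⟨y.2, hy⟩
    omega
  have heq : S = (twoStab : Set Cfsg.Spor.He) :=
    Set.eq_of_subset_of_ncard_le hsub (by rw [hS, hcard]) (Set.toFinite _)
  rw [← SetLike.mem_coe, ← heq] at hc
  obtain ⟨w, hw, rfl⟩ := List.mem_map.1 hc
  exact ⟨w, hw, rfl⟩

theorem ncard_centD_two : Nat.card (centD ⊓ twoStab : Subgroup Cfsg.Spor.He) ≤ 32 := by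
  classical
  obtain ⟨hall, -, -, hcnt⟩ := twoPt_ok
  simp only [List.all_eq_true, Bool.and_eq_true] at hall
  set F := twoPt.filter fun w => sameW (3 :: w) (w ++ [3]) with hF
  calc Nat.card (centD ⊓ twoStab : Subgroup Cfsg.Spor.He)
      = ((centD ⊓ twoStab : Subgroup Cfsg.Spor.He) : Set Cfsg.Spor.He).ncard := Nat.card_coe_set_eq _
    _ ≤ ((F.map (wval imX)).toFinset : Set Cfsg.Spor.He).ncard := by
        refine Set.ncard_le_ncard ?_ (Finset.finite_toSet _)
        rintro c ⟨hc, hct⟩
        obtain ⟨w, hw, rfl⟩ := twoStab_list hct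
        rw [List.coe_toFinset]
        refine List.mem_map.2 ⟨w, List.mem_filter.2 ⟨hw, ?_⟩, rfl⟩
        have hin := (hall w hw).1.2
        have h3 : inX (3 :: w) = true := by
          rw [inX, List.all_cons, ← inX, hin]
          rfl
        have h3' : inX (w ++ [3]) = true := by
          rw [inX, List.all_append, ← inX, hin]
          rfl
        have e : wval imX (3 :: w) = wval imX (w ++ [3]) := by
          rw [wval_cons, wvalX_append, wval_cons, wval_nil, mul_one, imX_low (by norm_num)]
          exact (mem_centD.1 hc).symm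
        simp only [sameW, Bool.and_eq_true, List.all_eq_true, beq_iff_eq]
        exact ⟨⟨h3, h3'⟩, fun b hb => eval_eq h3 h3' e (by
          simp only [List.mem_cons, List.not_mem_nil, or_false] at hb
          rcases hb with rfl | rfl | rfl | rfl <;> norm_num)⟩
    _ ≤ 32 := by
        rw [Set.ncard_coe_finset, ← hcnt, ← List.length_map (as := F) (wval imX)]
        exact List.toFinset_card_le _

/-- An orbit bound for a subgroup. -/
theorem card_le_orbit_mul (K : Subgroup Cfsg.Spor.He) (x : Fin 2058) (S : Set (Fin 2058))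
    (h : ∀ g ∈ K, g • x ∈ S) :
    Nat.card K ≤ S.ncard * Nat.card (K ⊓ MulAction.stabilizer Cfsg.Spor.He x : Subgroup Cfsg.Spor.He) := by
  have h2 := Nat.card_congr (MulAction.orbitProdStabilizerEquivGroup K x)
  rw [Nat.card_prod, Nat.card_coe_set_eq] at h2
  have h3 : Nat.card (K ⊓ MulAction.stabilizer Cfsg.Spor.He x : Subgroup Cfsg.Spor.He) =
      Nat.card (MulAction.stabilizer K x) := by
    rw [Nat.card_congr (Subgroup.equivMapOfInjective (MulAction.stabilizer K x) K.subtype
      K.subtype_injective).toEquiv]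
    refine congrArg (fun H : Subgroup Cfsg.Spor.He => Nat.card H) (Subgroup.ext fun y => ?_)
    constructor
    · rintro ⟨h1, h2⟩
      exact ⟨⟨y, h1⟩, h2, rfl⟩
    · rintro ⟨z, hz, rfl⟩
      exact ⟨z.2, hz⟩
  rw [← h2, h3]
  refine Nat.mul_le_mul_right _ (Set.ncard_le_ncard ?_ (Set.toFinite _))
  rintro _ ⟨g, rfl⟩
  exact h g g.2

theorem ncard_filter {f : ℕ → Bool} :
    {x : Fin 2058 | f x.val = true}.ncard = ((List.range 2058).filter f).length := by
  classical
  rw [Set.ncard_eq_toFinset_card', ← List.toFinset_card_of_nodup (List.nodup_range.filter _)]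
  refine Finset.card_bij (fun x _ => x.val) ?_ ?_ ?_
  · intro x hx
    rw [Set.mem_toFinset] at hx
    rw [List.mem_toFinset, List.mem_filter, List.mem_range]
    exact ⟨x.isLt, hx⟩
  · exact fun x _ y _ e => Fin.ext e
  · intro j hj
    rw [List.mem_toFinset, List.mem_filter, List.mem_range] at hj
    exact ⟨⟨j, hj.1⟩, by rw [Set.mem_toFinset]; exact hj.2, rfl⟩

/-- The bound. -/
theorem card_centD_le : Nat.card centD ≤ 21504 := by
  obtain ⟨h42, h16, hq, hqm⟩ := d_points
  rw [beq_iff_eq] at hq
  have hfix0 : im9 3 • p0 = p0 := MulAction.mem_stabilizer_iff.1 (stab_le (gp_mem (by decide)))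
  have hfix1 : im9 3 • q1 = q1 := Fin.ext ((im_smul (by norm_num) q1).trans hq)
  have a := card_le_orbit_mul centD p0 {x | (evalW sigTabs [3] x.val == x.val) = true} fun g hg => by
    show (evalW sigTabs [3] _ == _) = true
    rw [beq_iff_eq, ← im_smul (by norm_num), smul_fix_of_comm hg hfix0]
  rw [ncard_filter (f := fun x => evalW sigTabs [3] x == x), h42, stabilizer_zero] at a
  have b := card_le_orbit_mul (centD ⊓ stab) q1
    {x | ((evalW sigTabs [3] x.val == x.val) && mask4.testBit x.val) = true} fun g hg => by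
    show (_ && _) = true
    rw [Bool.and_eq_true, beq_iff_eq, ← im_smul (by norm_num), smul_fix_of_comm hg.1 hfix1]
    refine ⟨rfl, ?_⟩
    have h : g • q1 ∈ MulAction.orbit stab q1 := ⟨⟨g, hg.2⟩, rfl⟩
    rw [orbit4.1 q1 (mem_maskSet.2 hqm)] at h
    exact h
  rw [ncard_filter (f := fun x => (evalW sigTabs [3] x == x) && mask4.testBit x), h16, inf_assoc] at b
  have c := ncard_centD_two
  unfold twoStab at c
  calc Nat.card centD ≤ _ := a
    _ ≤ 42 * (16 * 32) := Nat.mul_le_mul_left _ (b.trans (Nat.mul_le_mul_left _ c))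
    _ = 21504 := rfl

end Cfsg.Lib.HePres
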