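import Cfsg.Agent.HePres.CentIso
import Cfsg.Agent.HePres.PairChain

/-!
The two centralisers are isomorphic: both projections of the group of pairs are bijective.
-/

set_option autoImplicit false
set_option Elab.async false

namespace Cfsg.Lib.HePres

open Cfsg.Lib.CosetCert Cfsg.Lib.PermCert

/-- The chain in the alphabet. -/
def heLevs : List Lev := pairLevs.map fun L => ⟨L.1, L.2.1.map heWord, L.2.2⟩

theorem chains_pair : chainOK xTabs 2058 45 heLevs = true ∧ chainSize heLevs = 21504 ∧
    chainOK vecTabs 32 9 vecChain = true ∧ chainSize vecChain = 21504 ∧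
    (pairLevs.all fun L => L.2.1.all fun w => w.all fun l => pairGens0.contains l) = true ∧
    vecTabs.length = 9 ∧ xTabs.length = 45 := by decide +kernel

theorem vec_gens_mem : ∀ K ∈ vecChain, ∀ w ∈ K.gens, ∀ l ∈ w,
    ∃ ws : List ℕ, (∀ q ∈ ws, q ∈ pairGens0) ∧ wval imM ws = imM l := by
  have h : (vecChain.all fun K => K.gens.all fun w => w.all fun l => Nat.blt l 9) = true := by decide +kernel
  have key : ∀ l < 9, ∃ ws : List ℕ, (∀ q ∈ ws, q ∈ pairGens0) ∧ wval imM ws = imM l := by
    intro l hl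
    have hfull : pairGens0 = [0, 1] ∧ (((List.range 9).all fun k => (pairExpr.getD k []).all fun q => pairGens0.contains q) &&
        (List.range 9).all fun k => sameP (pairExpr.getD k []) [k]) = true := by decide +kernel
    obtain ⟨-, hh⟩ := hfull
    rw [Bool.and_eq_true] at hh
    refine ⟨pairExpr.getD l [], fun q hq => List.contains_iff_mem.1
      (List.all_eq_true.1 (List.all_eq_true.1 hh.1 l (List.mem_range.2 hl)) q hq), ?_⟩
    have e := congrArg Prod.snd (sameP_sound (List.all_eq_true.1 hh.2 l (List.mem_range.2 hl)))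
    rwa [map_snd_wval, map_snd_wval, wval_cons, wval_nil, mul_one] at e
  exact fun K hK w hw l hl =>
    key l (Nat.le_of_ble_eq_true (List.all_eq_true.1 (List.all_eq_true.1 (List.all_eq_true.1 h K hK) w hw) l hl))

theorem fst_image_ge : 21504 ≤ Nat.card ((pairGp pairGens0).map (MonoidHom.fst Cfsg.Spor.He SL52)) := by
  obtain ⟨hok, hsz, -, -, hlet, -, hlen⟩ := chains_pair
  rw [← hsz]
  rw [← hlen] at hok
  refine chain_bound imX psi xTabs psi_imX _ _ hok inferInstance fun K hK w hw => ?_
  obtain ⟨L, hL, rfl⟩ := List.mem_map.1 hK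
  obtain ⟨v, hv, rfl⟩ := List.mem_map.1 hw
  refine ⟨wval imP v, Subgroup.list_prod_mem _ fun z hz => ?_, ?_⟩
  · obtain ⟨q, hq, rfl⟩ := List.mem_map.1 hz
    exact Subgroup.subset_closure (List.mem_map.2 ⟨q,
      List.contains_iff_mem.1 (List.all_eq_true.1 (List.all_eq_true.1 (List.all_eq_true.1 hlet L hL) v hv) q hq), rfl⟩)
  · rw [MonoidHom.coe_fst, map_fst_wval, wval_heWord]

theorem snd_image_ge : 21504 ≤ Nat.card ((pairGp pairGens0).map (MonoidHom.snd Cfsg.Spor.He SL52)) := by
  obtain ⟨-, -, hok, hsz, -, hlen, -⟩ := chains_pair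
  rw [← hsz]
  rw [← hlen] at hok
  refine chain_bound imM slPerm vecTabs psi_imM _ _ hok inferInstance fun K hK w hw => ?_
  refine Subgroup.list_prod_mem _ fun z hz => ?_
  obtain ⟨l, hl, rfl⟩ := List.mem_map.1 hz
  obtain ⟨ws, hws, e⟩ := vec_gens_mem K hK w hw l hl
  refine ⟨wval imP ws, Subgroup.list_prod_mem _ fun z hz => ?_, ?_⟩
  · obtain ⟨q, hq, rfl⟩ := List.mem_map.1 hz
    exact Subgroup.subset_closure (List.mem_map.2 ⟨q, hws q hq, rfl⟩)
  · rw [MonoidHom.coe_snd, map_snd_wval, e]

theorem d_facts : orderOf (im9 3) = 2 := by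
  haveI : Fact (Nat.Prime 2) := ⟨Nat.prime_two⟩
  refine orderOf_eq_prime ?_ fun h => ?_
  · rw [sq, im9_low (by norm_num)]
    exact good_im.inv (by norm_num)
  · have hb : (evalW xTabs [3] 2 != 2) = true := by decide +kernel
    have e : wval imX [3] = wval imX [] := by rw [wval_cons, wval_nil, mul_one, imX_low (by norm_num), h]
    rw [eval_eq rfl rfl e (by norm_num), bne_iff_ne] at hb
    exact hb rfl

/-- The isomorphism. -/
theorem centralizer_iso (s : SL52) (hs : s.val = Matrix.transvection 0 1 1) : ∃ z : Cfsg.Spor.He, orderOf z = 2 ∧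
    Nonempty ((Subgroup.centralizer ({z} : Set Cfsg.Spor.He)) ≃* (Subgroup.centralizer ({s} : Set SL52))) := by
  refine ⟨im9 3, d_facts, ?_⟩
  set D := pairGp pairGens0
  haveI : Finite D := inferInstance
  have hD : Nat.card D ≤ 21504 := card_pairs_le
  have hf : ∀ z : D, z.1.1 ∈ centD ∧ z.1.2 ∈ centT s := fun z => pairs_fst hs z.2
  let p1 : D →* centD := ((MonoidHom.fst Cfsg.Spor.He SL52).comp D.subtype).codRestrict centD fun z => (hf z).1
  let p2 : D →* centT s := ((MonoidHom.snd Cfsg.Spor.He SL52).comp D.subtype).codRestrict (centT s) fun z => (hf z).2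
  have r1 : Nat.card (D.map (MonoidHom.fst Cfsg.Spor.He SL52)) ≤ Nat.card p1.range := by
    refine Nat.card_le_card_of_injective (fun x => (⟨⟨x.1, by
      obtain ⟨z, hz, e⟩ := x.2
      rw [← e]
      exact (hf ⟨z, hz⟩).1⟩, by
      obtain ⟨z, hz, e⟩ := x.2
      exact ⟨⟨z, hz⟩, Subtype.ext e⟩⟩ : p1.range)) fun x y e => ?_
    simp only [Subtype.mk.injEq] at e
    exact Subtype.ext e
  have r2 : Nat.card (D.map (MonoidHom.snd Cfsg.Spor.He SL52)) ≤ Nat.card p2.range := by
    refine Nat.card_le_card_of_injective (fun x => (⟨⟨x.1, by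
      obtain ⟨z, hz, e⟩ := x.2
      rw [← e]
      exact (hf ⟨z, hz⟩).2⟩, by
      obtain ⟨z, hz, e⟩ := x.2
      exact ⟨⟨z, hz⟩, Subtype.ext e⟩⟩ : p2.range)) fun x y e => ?_
    simp only [Subtype.mk.injEq] at e
    exact Subtype.ext e
  have a1 := fst_image_ge.trans r1
  have a2 := snd_image_ge.trans r2
  have b1 : Function.Bijective p1 := by
    refine (Nat.bijective_iff_surjective_and_card p1).2 ⟨?_, ?_⟩
    · refine MonoidHom.range_eq_top.1 (Subgroup.eq_top_of_le_card _ ?_)
      exact card_centD_le.trans a1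
    · have := Nat.card_le_card_of_surjective p1 (MonoidHom.range_eq_top.1
        (Subgroup.eq_top_of_le_card _ (card_centD_le.trans a1)))
      have := a1.trans (Subgroup.card_le_card_group _)
      omega
  have b2 : Function.Bijective p2 := by
    have hc := card_centT_le (s := s) hs
    refine (Nat.bijective_iff_surjective_and_card p2).2 ⟨?_, ?_⟩
    · exact MonoidHom.range_eq_top.1 (Subgroup.eq_top_of_le_card _ (hc.trans a2))
    · have := Nat.card_le_card_of_surjective p2 (MonoidHom.range_eq_top.1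
        (Subgroup.eq_top_of_le_card _ (hc.trans a2)))
      have := a2.trans (Subgroup.card_le_card_group _)
      omega
  exact ⟨(MulEquiv.ofBijective p1 b1).symm.trans (MulEquiv.ofBijective p2 b2)⟩

end Cfsg.Lib.HePres
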