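import Cfsg.Agent.HePres.CentD
import Cfsg.Agent.HePres.PairData

/-!
The centraliser of an involution of the presented Held group and that of a transvection of SL(5,2), through the
subgroup of pairs of corresponding elements.
-/

set_option autoImplicit false
set_option Elab.async false

namespace Cfsg.Lib.HePres

open Cfsg.Lib.CosetCert Cfsg.Lib.PermCert

/-- SL(5,2). -/
abbrev SL52 : Type := Matrix.SpecialLinearGroup (Fin 5) (ZMod 2)

/-- A vector of five bits as a number. -/
def encV (v : Fin 5 → ZMod 2) : Fin 32 :=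
  Fin.ofNat 32 ((v 0).val + 2 * (v 1).val + 4 * (v 2).val + 8 * (v 3).val + 16 * (v 4).val)

/-- A number as a vector. -/
def decV (n : Fin 32) : Fin 5 → ZMod 2 := fun i => if n.val.testBit i.val then 1 else 0

theorem decV_encV : ∀ v : Fin 5 → ZMod 2, decV (encV v) = v := by decide +kernel

theorem encV_decV : ∀ n : Fin 32, encV (decV n) = n := by decide +kernel

/-- Vectors and numbers. -/
def vecEnc : (Fin 5 → ZMod 2) ≃ Fin 32 := ⟨encV, decV, decV_encV, encV_decV⟩

/-- The action on vectors. -/
def slPerm : SL52 →* Equiv.Perm (Fin 32) where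
  toFun A :=
    { toFun := fun n => encV (A.val.mulVec (decV n))
      invFun := fun n => encV ((A⁻¹).val.mulVec (decV n))
      left_inv := fun n => by
        show encV ((A⁻¹).val.mulVec (decV (encV (A.val.mulVec (decV n))))) = n
        rw [decV_encV, Matrix.mulVec_mulVec, ← Matrix.SpecialLinearGroup.coe_mul, inv_mul_cancel,
          Matrix.SpecialLinearGroup.coe_one, Matrix.one_mulVec, encV_decV]
      right_inv := fun n => by
        show encV (A.val.mulVec (decV (encV ((A⁻¹).val.mulVec (decV n))))) = n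
        rw [decV_encV, Matrix.mulVec_mulVec, ← Matrix.SpecialLinearGroup.coe_mul, mul_inv_cancel,
          Matrix.SpecialLinearGroup.coe_one, Matrix.one_mulVec, encV_decV] }
  map_one' := Equiv.ext fun n => by
    show encV ((1 : SL52).val.mulVec (decV n)) = n
    rw [Matrix.SpecialLinearGroup.coe_one, Matrix.one_mulVec, encV_decV]
  map_mul' A B := Equiv.ext fun n => by
    show encV ((A * B).val.mulVec (decV n)) = encV (A.val.mulVec (decV (encV (B.val.mulVec (decV n)))))
    rw [decV_encV, Matrix.mulVec_mulVec, Matrix.SpecialLinearGroup.coe_mul]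

/-- The matrix of a pair. -/
def pairMat (l : ℕ) : Matrix (Fin 5) (Fin 5) (ZMod 2) :=
  if l < 9 then Matrix.of fun i j => (((pairMats.getD l []).getD (5 * i.val + j.val) 0 : ℕ) : ZMod 2) else 1

theorem pairMat_det9 : ∀ l : Fin 9, (pairMat l.val).det = 1 := by decide +kernel

theorem pairMat_det (l : ℕ) : (pairMat l).det = 1 := by
  by_cases h : l < 9
  · exact pairMat_det9 ⟨l, h⟩
  · rw [pairMat, if_neg h, Matrix.det_one]

/-- The second component. -/
def imM (l : ℕ) : SL52 := ⟨pairMat l, pairMat_det l⟩

/-- The first component. -/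
def imH2 (l : ℕ) : Cfsg.Spor.He := wval imX (pairWords.getD l [])

/-- The pairs. -/
def imP (l : ℕ) : Cfsg.Spor.He × SL52 := (imH2 l, imM l)

theorem vecTabs_ok : vecTabs.all (valid 32) = true ∧ ∀ (l : Fin 9) (n : Fin 32),
    (encV ((pairMat l.val).mulVec (decV n))).val = ap (vecTabs.getD l.val (0, 0)).1 n.val := by decide +kernel

theorem psi_imM (l : ℕ) (hl : l < vecTabs.length) :
    valid 32 (vecTabs.getD l (0, 0)) = true ∧ slPerm (imM l) = perm 32 (vecTabs.getD l (0, 0)) := by
  have hv : valid 32 (vecTabs.getD l (0, 0)) = true := by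
    rw [List.getD_eq_getElem _ _ hl]
    exact List.all_eq_true.1 vecTabs_ok.1 _ (List.getElem_mem hl)
  refine ⟨hv, Equiv.ext fun n => Fin.ext ?_⟩
  rw [perm_apply hv]
  exact vecTabs_ok.2 ⟨l, hl⟩ n

theorem map_fst_wval (w : List ℕ) : (wval imP w).1 = wval imH2 w := by
  rw [wval, wval, ← MonoidHom.coe_fst, map_list_prod, List.map_map]
  rfl

theorem map_snd_wval (w : List ℕ) : (wval imP w).2 = wval imM w := by
  rw [wval, wval, ← MonoidHom.coe_snd, map_list_prod, List.map_map]
  rfl

/-- The letters of the first component. -/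
def heWord (w : List ℕ) : List ℕ := w.flatMap fun l => pairWords.getD l []

theorem wval_heWord : ∀ w : List ℕ, wval imX (heWord w) = wval imH2 w
  | [] => rfl
  | l :: w => by
    rw [heWord, List.flatMap_cons, wvalX_append, ← heWord, wval_heWord w, wval_cons]
    rfl

/-- Two words give the same pair. -/
def sameP (w v : List ℕ) : Bool :=
  sameW (heWord w) (heWord v) && w.all (fun l => Nat.blt l 9) && v.all (fun l => Nat.blt l 9) &&
    [1, 2, 4, 8, 16].all fun x => evalW vecTabs w x == evalW vecTabs v x

theorem ext_slPerm {A B : SL52} (h : ∀ n : Fin 32, n.val ∈ [1, 2, 4, 8, 16] → slPerm A n = slPerm B n) : A = B := by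
  have unit : ∀ j : Fin 5, (2 ^ j.val : ℕ) < 32 ∧ 2 ^ j.val ∈ [1, 2, 4, 8, 16] ∧
      decV (Fin.ofNat 32 (2 ^ j.val)) = fun i => if i = j then 1 else 0 := by decide +kernel
  refine Subtype.ext (Matrix.ext fun i j => ?_)
  obtain ⟨h1, h2, h3⟩ := unit j
  have h4 := congrArg decV (h (Fin.ofNat 32 (2 ^ j.val)) (by
    show 2 ^ j.val % 32 ∈ _
    rwa [Nat.mod_eq_of_lt h1]))
  change decV (encV _) = decV (encV _) at h4
  rw [decV_encV, decV_encV, h3] at h4
  have h5 := congrFun h4 i
  simpa [Matrix.mulVec, dotProduct] using h5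

theorem sameP_sound {w v : List ℕ} (h : sameP w v = true) : wval imP w = wval imP v := by
  simp only [sameP, Bool.and_eq_true, List.all_eq_true, beq_iff_eq] at h
  obtain ⟨⟨⟨h1, hw⟩, hv⟩, h2⟩ := h
  refine Prod.ext ?_ ?_
  · rw [map_fst_wval, map_fst_wval, ← wval_heWord, ← wval_heWord]
    exact sameW_sound h1
  · rw [map_snd_wval, map_snd_wval]
    refine inv_injective (ext_slPerm fun n hn => Fin.ext ?_)
    rw [map_inv, map_inv, evalW_apply imM slPerm vecTabs psi_imM w (fun l hl => Nat.le_of_ble_eq_true (hw l hl)),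
      evalW_apply imM slPerm vecTabs psi_imM v (fun l hl => Nat.le_of_ble_eq_true (hv l hl))]
    exact h2 _ hn

theorem sch_step {G : Type*} [Group G] [Finite G] (s T : List G) (H : Subgroup G) (h1 : (1 : G) ∈ T)
    (h : ∀ g ∈ s, ∀ t ∈ T, ∃ t' ∈ T, ∃ r ∈ H, g * t = t' * r) :
    Nat.card (Subgroup.closure {g | g ∈ s}) ≤ T.length * Nat.card H := by
  have hall : ∀ x ∈ Subgroup.closure {g | g ∈ s}, ∃ t ∈ T, ∃ r ∈ H, x = t * r := by
    intro x hx
    change x ∈ (Subgroup.closure {g | g ∈ s}).toSubmonoid at hx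
    rw [Subgroup.closure_toSubmonoid_of_finite] at hx
    induction hx using Submonoid.closure_induction_left with
    | one => exact ⟨1, h1, 1, H.one_mem, (one_mul 1).symm⟩
    | mul_left a ha y hy ih =>
      obtain ⟨t, ht, r, hr, rfl⟩ := ih
      obtain ⟨t', ht', r', hr', e⟩ := h a ha t ht
      exact ⟨t', ht', r' * r, H.mul_mem hr' hr, by rw [← mul_assoc, e, mul_assoc]⟩
  rw [← Nat.card_fin T.length, ← Nat.card_prod]
  choose t ht r hr e using hall
  refine Nat.card_le_card_of_injective (fun x => (⟨(List.getElem_of_mem (ht x.1 x.2)).choose,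
    (List.getElem_of_mem (ht x.1 x.2)).choose_spec.choose⟩, ⟨r x.1 x.2, hr x.1 x.2⟩)) fun x y hxy => ?_
  simp only [Prod.mk.injEq, Fin.mk.injEq, Subtype.mk.injEq] at hxy
  refine Subtype.ext ?_
  rw [e x.1 x.2, e y.1 y.2, hxy.2]
  congr 1
  have ex := (List.getElem_of_mem (ht x.1 x.2)).choose_spec.choose_spec
  have ey := (List.getElem_of_mem (ht y.1 y.2)).choose_spec.choose_spec
  rw [← ex, ← ey]
  congr 1
  exact hxy.1

/-- A level of the certificate. -/
def schOK (gs : List ℕ) (T : List (List ℕ)) (S : List (ℕ × List ℕ)) (nxt : List ℕ) : Bool :=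
  T.contains [] && (List.range T.length).all fun j => (List.range gs.length).all fun i =>
    Nat.blt (S.getD (j * gs.length + i) (T.length, [])).1 T.length &&
    ((S.getD (j * gs.length + i) (T.length, [])).2.all fun l => nxt.contains l) &&
    sameP (gs.getD i 0 :: T.getD j []) (T.getD (S.getD (j * gs.length + i) (T.length, [])).1 [] ++
      (S.getD (j * gs.length + i) (T.length, [])).2)

theorem sch0 : schOK pairGens0 pairTr0 pairSch0 pairGens1 = true ∧ pairTr0.length = 16 := by decide +kernel
theorem sch1 : schOK pairGens1 pairTr1 pairSch1 pairGens2 = true ∧ pairTr1.length = 14 := by decide +kernel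
theorem sch2 : schOK pairGens2 pairTr2 pairSch2 pairGens3 = true ∧ pairTr2.length = 12 := by decide +kernel
theorem sch3 : schOK pairGens3 pairTr3 pairSch3 [] = true ∧ pairTr3.length = 8 := by decide +kernel

/-- The group of a list of pair letters. -/
def pairGp (gs : List ℕ) : Subgroup (Cfsg.Spor.He × SL52) := Subgroup.closure {g | g ∈ gs.map imP}

theorem sch_bound {gs : List ℕ} {T : List (List ℕ)} {S : List (ℕ × List ℕ)} {nxt : List ℕ}
    (h : schOK gs T S nxt = true) : Nat.card (pairGp gs) ≤ T.length * Nat.card (pairGp nxt) := by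
  simp only [schOK, Bool.and_eq_true, List.all_eq_true, List.mem_range, List.contains_iff_mem] at h
  obtain ⟨h0, hs⟩ := h
  have := sch_step (gs.map imP) (T.map (wval imP)) (pairGp nxt) (List.mem_map.2 ⟨[], h0, rfl⟩) (by
    intro g hg t ht
    obtain ⟨a, ha, rfl⟩ := List.mem_map.1 hg
    obtain ⟨b, hb, rfl⟩ := List.mem_map.1 ht
    obtain ⟨i, hi, rfl⟩ := List.getElem_of_mem ha
    obtain ⟨j, hj, rfl⟩ := List.getElem_of_mem hb
    have h := hs j hj i hi
    generalize S.getD (j * gs.length + i) (T.length, []) = e at h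
    obtain ⟨⟨he, hr⟩, hsame⟩ := h
    have hlt := Nat.le_of_ble_eq_true he
    refine ⟨_, List.mem_map.2 ⟨_, List.getElem_mem hlt, rfl⟩, wval imP e.2, ?_, ?_⟩
    · exact Subgroup.list_prod_mem _ fun z hz => by
        obtain ⟨q, hq, rfl⟩ := List.mem_map.1 hz
        exact Subgroup.subset_closure (List.mem_map.2 ⟨q, hr q hq, rfl⟩)
    · have e2 := sameP_sound hsame
      rw [wval_cons, List.getD_eq_getElem _ _ hi, List.getD_eq_getElem _ _ hj, List.getD_eq_getElem _ _ hlt,
        show wval imP (T[e.1] ++ e.2) = wval imP T[e.1] * wval imP e.2 from wval_append imP _ _] at e2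
      exact e2)
  rwa [List.length_map] at this

theorem card_pairs_le : Nat.card (pairGp pairGens0) ≤ 21504 := by
  have h3 := sch_bound sch3.1
  have h2 := sch_bound sch2.1
  have h1 := sch_bound sch1.1
  have h0 := sch_bound sch0.1
  have hb : Nat.card (pairGp []) = 1 := by
    rw [pairGp, show ({g | g ∈ ([] : List ℕ).map imP} : Set (Cfsg.Spor.He × SL52)) = ∅ by simp,
      Subgroup.closure_empty, Subgroup.card_bot]
  rw [sch0.2] at h0
  rw [sch1.2] at h1
  rw [sch2.2] at h2
  rw [sch3.2, hb] at h3
  omega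

/-- The transvection. -/
def tMat : Matrix (Fin 5) (Fin 5) (ZMod 2) := Matrix.transvection 0 1 1

theorem pairGens_ok : (pairGens0.all fun l => sameW (3 :: pairWords.getD l []) (pairWords.getD l [] ++ [3])) = true ∧
    (∀ l : Fin 9, pairGens0.contains l.val = true → pairMat l.val * tMat = tMat * pairMat l.val) ∧
    (pairGens0.all fun l => Nat.blt l 9) = true := by decide +kernel

/-- The centraliser of the transvection. -/
def centT (s : SL52) : Subgroup SL52 := Subgroup.centralizer {s}

theorem good_count : Fintype.card {B : Matrix (Fin 3) (Fin 3) (ZMod 2) // ∀ v : Fin 3 → ZMod 2, B.mulVec v = 0 → v = 0} =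
    168 := by decide +kernel

theorem card_centT_le {s : SL52} (hs : s.val = tMat) : Nat.card (centT s) ≤ 21504 := by
  classical
  have hent : ∀ A ∈ centT s, ∀ i j : Fin 5,
      (if j = 1 then A.val i 0 else 0) = (if i = 0 then A.val 1 j else 0) := by
    intro A hA i j
    have h : A.val * s.val = s.val * A.val := by
      rw [← Matrix.SpecialLinearGroup.coe_mul, ← Matrix.SpecialLinearGroup.coe_mul,
        Subgroup.mem_centralizer_singleton_iff.1 hA]
    rw [hs, tMat, Matrix.transvection, Matrix.mul_add, Matrix.add_mul, Matrix.mul_one, Matrix.one_mul,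
      add_left_cancel_iff] at h
    have := congrFun (congrFun h i) j
    rw [show (A.val * Matrix.single (0 : Fin 5) (1 : Fin 5) (1 : ZMod 2)) i j = if j = 1 then A.val i 0 else 0 by
        by_cases h : j = 1
        · subst h
          rw [Matrix.mul_single_apply_same, if_pos rfl, mul_one]
        · rw [Matrix.mul_single_apply_of_ne _ _ _ _ _ h, if_neg h],
      show (Matrix.single (0 : Fin 5) (1 : Fin 5) (1 : ZMod 2) * A.val) i j = if i = 0 then A.val 1 j else 0 by
        by_cases h : i = 0
        · subst h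
          rw [Matrix.single_mul_apply_same, if_pos rfl, one_mul]
        · rw [Matrix.single_mul_apply_of_ne _ _ _ _ _ h, if_neg h]] at this
    exact this
  have hcol : ∀ A ∈ centT s, (∀ i : Fin 5, i ≠ 0 → A.val i 0 = 0) ∧ (∀ j : Fin 5, j ≠ 1 → A.val 1 j = 0) ∧
      A.val 1 1 = A.val 0 0 ∧ A.val 0 0 = 1 := by
    intro A hA
    have h0 : ∀ i : Fin 5, i ≠ 0 → A.val i 0 = 0 := fun i hi => by simpa [hi] using hent A hA i 1
    have h1 : A.val 1 1 = A.val 0 0 := by simpa using (hent A hA 0 1).symm
    refine ⟨h0, fun j hj => by simpa [hj] using (hent A hA 0 j).symm, h1, ?_⟩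
    rcases (show ∀ x : ZMod 2, x = 0 ∨ x = 1 by decide) (A.val 0 0) with h | h
    · exfalso
      have hd := A.2
      rw [Matrix.det_eq_zero_of_column_eq_zero 0 fun i => ?_] at hd
      · exact zero_ne_one hd
      · by_cases hi : i = 0
        · rw [hi]; exact h
        · exact h0 i hi
    · exact h
  let blk : centT s → {B : Matrix (Fin 3) (Fin 3) (ZMod 2) // ∀ v : Fin 3 → ZMod 2, B.mulVec v = 0 → v = 0} :=
    fun A => ⟨Matrix.of fun i j => A.1.val (Fin.natAdd 2 i) (Fin.natAdd 2 j), fun v hv => by
      obtain ⟨h0, h1, h11, h00⟩ := hcol A.1 A.2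
      set w : Fin 5 → ZMod 2 := fun j => if h : 2 ≤ j.val then v ⟨j.val - 2, by omega⟩ else 0 with hw
      have hsum : ∀ i, (A.1.val.mulVec w) i = ∑ j : Fin 3, A.1.val i (Fin.natAdd 2 j) * v j := fun i => by
        simp [Matrix.mulVec, dotProduct, Fin.sum_univ_five, Fin.sum_univ_three, hw]
      set c := (A.1.val.mulVec w) 0 with hc
      have hAw : A.1.val.mulVec w = A.1.val.mulVec (fun j => if j = 0 then c else 0) := by
        funext i
        rw [show (A.1.val.mulVec (fun j => if j = 0 then c else 0)) i = A.1.val i 0 * c by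
          simp [Matrix.mulVec, dotProduct]]
        by_cases hi : i = 0
        · rw [hi, h00, one_mul]
        rw [h0 i hi, zero_mul, hsum]
        by_cases hi1 : i = 1
        · subst hi1
          refine Finset.sum_eq_zero fun j _ => ?_
          rw [h1 _ (fun e => by
            have := congrArg Fin.val e
            simp at this
            omega), zero_mul]
        · obtain ⟨k, rfl⟩ : ∃ k : Fin 3, Fin.natAdd 2 k = i := by
            clear hsum
            revert hi hi1
            revert i
            decide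
          have := congrFun hv k
          simpa [Matrix.mulVec, dotProduct] using this
      have hinj := congrArg (fun u => (A.1⁻¹).val.mulVec u) hAw
      simp only [Matrix.mulVec_mulVec, ← Matrix.SpecialLinearGroup.coe_mul, inv_mul_cancel,
        Matrix.SpecialLinearGroup.coe_one, Matrix.one_mulVec] at hinj
      funext k
      have := congrFun hinj (Fin.natAdd 2 k)
      have hne : (Fin.natAdd 2 k : Fin 5) ≠ 0 := fun e => by
        have := congrArg Fin.val e
        simp at this
      simpa [hw, hne] using this⟩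
  let free : centT s → (Fin 7 → ZMod 2) := fun A k =>
    [A.1.val 0 1, A.1.val 2 1, A.1.val 3 1, A.1.val 4 1, A.1.val 0 2, A.1.val 0 3, A.1.val 0 4].getD k.val 0
  refine (Nat.card_le_card_of_injective (fun A => (free A, blk A)) fun A B h => ?_).trans ?_
  · simp only [Prod.mk.injEq] at h
    obtain ⟨hf, hb⟩ := h
    have hb' := congrArg Subtype.val hb
    obtain ⟨a0, a1, a11, a00⟩ := hcol A.1 A.2
    obtain ⟨b0, b1, b11, b00⟩ := hcol B.1 B.2
    refine Subtype.ext (Subtype.ext (Matrix.ext fun i j => ?_))
    have f0 := congrFun hf 0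
    have f1 := congrFun hf 1
    have f2 := congrFun hf 2
    have f3 := congrFun hf 3
    have f4 := congrFun hf 4
    have f5 := congrFun hf 5
    have f6 := congrFun hf 6
    have g : ∀ p q : Fin 3, A.1.val (Fin.natAdd 2 p) (Fin.natAdd 2 q) = B.1.val (Fin.natAdd 2 p) (Fin.natAdd 2 q) :=
      fun p q => congrFun (congrFun hb' p) q
    fin_cases i <;> fin_cases j <;>
      first
      | exact f0 | exact f1 | exact f2 | exact f3 | exact f4 | exact f5 | exact f6
      | exact a00.trans b00.symm
      | exact (a0 _ (by decide)).trans (b0 _ (by decide)).symm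
      | exact (a1 _ (by decide)).trans (b1 _ (by decide)).symm
      | exact (a11.trans a00).trans (b11.trans b00).symm
      | exact g 0 0 | exact g 0 1 | exact g 0 2 | exact g 1 0 | exact g 1 1 | exact g 1 2
      | exact g 2 0 | exact g 2 1 | exact g 2 2
  · rw [Nat.card_prod, Nat.card_eq_fintype_card (α := Fin 7 → ZMod 2), Fintype.card_fun, ZMod.card, Fintype.card_fin,
      Nat.card_eq_fintype_card, good_count]
    norm_num

theorem pairs_fst {z : Cfsg.Spor.He × SL52} {s : SL52} (hs : s.val = tMat) (hz : z ∈ pairGp pairGens0) :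
    z.1 ∈ centD ∧ z.2 ∈ centT s := by
  suffices pairGp pairGens0 ≤ centD.prod (centT s) from Subgroup.mem_prod.1 (this hz)
  refine (Subgroup.closure_le _).2 ?_
  rintro _ hg
  obtain ⟨l, hl, rfl⟩ := List.mem_map.1 hg
  obtain ⟨hw, hm, hlt⟩ := pairGens_ok
  have hl9 : l < 9 := Nat.le_of_ble_eq_true (List.all_eq_true.1 hlt l hl)
  refine Subgroup.mem_prod.2 ⟨?_, ?_⟩
  · have e := sameW_sound (List.all_eq_true.1 hw l hl)
    rw [wval_cons, wvalX_append, wval_cons, wval_nil, mul_one, imX_low (by norm_num)] at e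
    exact mem_centD.2 e.symm
  · refine Subgroup.mem_centralizer_singleton_iff.2 (Subtype.ext ?_)
    show pairMat l * s.val = s.val * pairMat l
    rw [hs]
    exact hm ⟨l, hl9⟩ (List.contains_iff_mem.2 hl)

end Cfsg.Lib.HePres
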