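import Cfsg.Agent.HePres.Invol
import Cfsg.Agent.HePres.CentBData
import Cfsg.Agent.HePres.OrbitData

/-!
The conjugates of the second letter, listed up to the powers of an element of order seventeen.
-/

set_option autoImplicit false
set_option Elab.async false

namespace Cfsg.Lib.HePres

open Cfsg.Lib.CosetCert Cfsg.Lib.PermCert

/-- All representatives. -/
def repWord (j : ℕ) : List ℕ := if j < 1360 then repOut.getD j [] else repIn.getD (j - 1360) []

/-- A power as a word. -/
def powWord (i : ℕ) : List ℕ := if i = 0 then [] else [8 + i]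

/-- The representative as a word. -/
def repEl (j : ℕ) : List ℕ := invW (repWord j) ++ 1 :: repWord j

/-- A conjugate as a word. -/
def rotEl (j i : ℕ) : List ℕ := invW (powWord i) ++ repEl j ++ powWord i

theorem centB_ok : chainOK sigTabs 2058 9 centBChain = true ∧ chainSize centBChain = 161280 ∧
    (centBChain.all fun K => K.gens.all fun w => (w.all fun l => decide (l < 9)) && sameW (1 :: w) (w ++ [1])) = true := by
  decide +kernel

theorem card_centB_ge : 161280 ≤ Nat.card (Subgroup.centralizer {im9 1} : Subgroup Cfsg.Spor.He) := by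
  obtain ⟨hok, hsz, hg⟩ := centB_ok
  simp only [List.all_eq_true, Bool.and_eq_true, decide_eq_true_eq] at hg
  rw [← hsz]
  refine chain_bound im9 psi sigTabs psi_im9 _ _ hok inferInstance fun K hK w hw => ?_
  obtain ⟨hlt, hs⟩ := hg K hK w hw
  have e := sameW_sound hs
  have hw9 : wval imX w = wval im9 w :=
    congrArg List.prod (List.map_congr_left fun l hl => imX_low (hlt l hl))
  rw [wval_cons, wvalX_append, wval_cons, wval_nil, mul_one, imX_low (by norm_num), hw9] at e
  exact Subgroup.mem_centralizer_singleton_iff.2 e.symm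

theorem rep_in : ((List.range 1470).all fun j => inX (repWord j) && inX (repEl j)) = true := by decide +kernel

theorem pow_in : ((List.range 17).all fun i => inX (powWord i) && inX (invW (powWord i)) &&
    (evalW xTabs (invW (powWord i)) 0 == 0)) = true := by decide +kernel

theorem keys_ok : ((List.range 1360).all fun j => Nat.blt 0 (evalW xTabs (repEl j) 0) &&
    (List.range 17).all fun i =>
      ap keyTab (evalW xTabs (powWord i) (evalW xTabs (repEl j) 0)) == evalW xTabs (repEl j) 0 * 17 + i) = true := by
  decide +kernel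

theorem out_incr : incr ((List.range 1360).map fun j => baseCode (repEl j)) = true := by decide +kernel

theorem in_fix : ((List.range 110).all fun j => evalW xTabs (repEl (1360 + j)) 0 == 0) = true := by decide +kernel

theorem in_incr : incr (inOrder.map fun e => baseCode (rotEl (1360 + e.1) e.2)) = true ∧ inOrder.length = 1870 ∧
    (inOrder.all fun e => Nat.blt e.1 110 && Nat.blt e.2 17) = true := by decide +kernel

theorem repIn_facts {j : ℕ} (hj : j < 1470) : inX (repWord j) = true ∧ inX (repEl j) = true :=
  Bool.and_eq_true_iff.1 (List.all_eq_true.1 rep_in j (List.mem_range.2 hj))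

theorem powIn_facts {i : ℕ} (hi : i < 17) :
    inX (powWord i) = true ∧ inX (invW (powWord i)) = true ∧ evalW xTabs (invW (powWord i)) 0 = 0 := by
  have := List.all_eq_true.1 pow_in i (List.mem_range.2 hi)
  simpa [and_assoc] using this

theorem inX_append {v w : List ℕ} (hv : inX v = true) (hw : inX w = true) : inX (v ++ w) = true := by
  rw [inX, List.all_append, Bool.and_eq_true]
  exact ⟨hv, hw⟩

theorem evalW_append (v w : List ℕ) (x : ℕ) : evalW xTabs (v ++ w) x = evalW xTabs w (evalW xTabs v x) :=
  List.foldl_append ..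

theorem rotEl_in {j i : ℕ} (hj : j < 1470) (hi : i < 17) : inX (rotEl j i) = true :=
  inX_append (inX_append (powIn_facts hi).2.1 (repIn_facts hj).2) (powIn_facts hi).1

theorem rotEl_zero {j i : ℕ} (hi : i < 17) :
    evalW xTabs (rotEl j i) 0 = evalW xTabs (powWord i) (evalW xTabs (repEl j) 0) := by
  rw [rotEl, evalW_append, evalW_append, (powIn_facts hi).2.2]

theorem pair_full (L : List (ℕ × ℕ)) {a b n A B : ℕ} (hn : L.Nodup) (hlen : L.length = n) (hn' : n = A * B)
    (h : (L.all fun e => Nat.blt e.1 A && Nat.blt e.2 B) = true) (ha : a < A) (hb : b < B) : (a, b) ∈ L := by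
  classical
  have hsub : L.toFinset ⊆ Finset.range A ×ˢ Finset.range B := by
    intro p hp
    have := List.all_eq_true.1 h p (List.mem_toFinset.1 hp)
    rw [Bool.and_eq_true] at this
    exact Finset.mem_product.2 ⟨Finset.mem_range.2 (Nat.le_of_ble_eq_true this.1),
      Finset.mem_range.2 (Nat.le_of_ble_eq_true this.2)⟩
  have heq := Finset.eq_of_subset_of_card_le hsub (by
    rw [List.toFinset_card_of_nodup hn, hlen, hn', Finset.card_product, Finset.card_range, Finset.card_range])
  rw [← List.mem_toFinset, heq]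
  exact Finset.mem_product.2 ⟨Finset.mem_range.2 ha, Finset.mem_range.2 hb⟩

theorem rotEl_inj {j i j' i' : ℕ} (hj : j < 1470) (hi : i < 17) (hj' : j' < 1470) (hi' : i' < 17)
    (e : wval imX (rotEl j i) = wval imX (rotEl j' i')) : j = j' ∧ i = i' := by
  classical
  have hin := rotEl_in hj hi
  have hin' := rotEl_in hj' hi'
  have e0 := eval_eq hin hin' e (x := 0) (by norm_num)
  rw [rotEl_zero hi, rotEl_zero hi'] at e0
  have hfix : ∀ {k : ℕ}, k < 17 → ∀ {x : ℕ}, x < 2058 → evalW xTabs (powWord k) x = 0 → x = 0 := by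
    intro k hk x hx h
    obtain ⟨h1, h2, h3⟩ := powIn_facts hk
    have hc : wval imX (powWord k ++ invW (powWord k)) = wval imX [] := by
      rw [wvalX_append, wval_invW h1, mul_inv_cancel, wval_nil]
    have := eval_eq (inX_append h1 h2) rfl hc hx
    rw [evalW_append, h, h3] at this
    exact this.symm
  have hlt : ∀ {k : ℕ}, k < 1470 → evalW xTabs (repEl k) 0 < 2058 := fun {k} hk =>
    (evalX_apply (repIn_facts hk).2 ⟨0, by norm_num⟩).symm ▸ Fin.isLt _
  have hkey : ∀ {k : ℕ}, k < 1360 → 0 < evalW xTabs (repEl k) 0 ∧ ∀ l < 17,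
      ap keyTab (evalW xTabs (powWord l) (evalW xTabs (repEl k) 0)) = evalW xTabs (repEl k) 0 * 17 + l := by
    intro k hk
    have := List.all_eq_true.1 keys_ok k (List.mem_range.2 hk)
    simp only [Bool.and_eq_true, List.all_eq_true, beq_iff_eq] at this
    exact ⟨Nat.le_of_ble_eq_true this.1, fun l hl => this.2 l (List.mem_range.2 hl)⟩
  have hz : ∀ {k : ℕ}, 1360 ≤ k → k < 1470 → evalW xTabs (repEl k) 0 = 0 := by
    intro k h1 h2
    have := List.all_eq_true.1 in_fix (k - 1360) (List.mem_range.2 (by omega))
    rw [beq_iff_eq, Nat.add_sub_cancel' h1] at this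
    exact this
  by_cases hjc : j < 1360
  · by_cases hjc' : j' < 1360
    · have a := (hkey hjc).2 i hi
      rw [e0, (hkey hjc').2 i' hi'] at a
      have hi2 : i = i' := by omega
      subst hi2
      refine ⟨?_, rfl⟩
      have e2 : wval imX (repEl j) = wval imX (repEl j') := by
        simpa [rotEl, wvalX_append] using e
      exact List.inj_on_of_nodup_map (incr_nodup out_incr) (List.mem_range.2 hjc) (List.mem_range.2 hjc')
        (code_eq (repIn_facts hj).2 (repIn_facts hj').2 e2)
    · exfalso
      rw [hz (not_lt.mp hjc') hj'] at e0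
      have h0 : evalW xTabs (powWord i') 0 = 0 := by
        obtain ⟨h1, h2, h3⟩ := powIn_facts hi'
        have hc : wval imX (invW (powWord i') ++ powWord i') = wval imX [] := by
          rw [wvalX_append, wval_invW h1, inv_mul_cancel, wval_nil]
        have := eval_eq (inX_append h2 h1) rfl hc (x := 0) (by norm_num)
        rw [evalW_append, h3] at this
        exact this
      have := hfix hi (hlt hj) (e0.trans h0)
      exact absurd this (hkey hjc).1.ne'
  · by_cases hjc' : j' < 1360
    · exfalso
      rw [hz (not_lt.mp hjc) hj] at e0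
      have h0 : evalW xTabs (powWord i) 0 = 0 := by
        obtain ⟨h1, h2, h3⟩ := powIn_facts hi
        have hc : wval imX (invW (powWord i) ++ powWord i) = wval imX [] := by
          rw [wvalX_append, wval_invW h1, inv_mul_cancel, wval_nil]
        have := eval_eq (inX_append h2 h1) rfl hc (x := 0) (by norm_num)
        rw [evalW_append, h3] at this
        exact this
      have := hfix hi' (hlt hj') (e0.symm.trans h0)
      exact absurd this (hkey hjc').1.ne'
    · obtain ⟨hinc, hlen, hrng⟩ := in_incr
      have hmem : ∀ {k l : ℕ}, 1360 ≤ k → k < 1470 → l < 17 → (k - 1360, l) ∈ inOrder := fun {k l} h1 h2 h3 =>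
        pair_full inOrder (List.Nodup.of_map _ (incr_nodup hinc)) hlen (show 1870 = 110 * 17 by norm_num) hrng
          (by omega) h3
      have := List.inj_on_of_nodup_map (incr_nodup hinc) (hmem (not_lt.mp hjc) hj hi)
        (hmem (not_lt.mp hjc') hj' hi') (by
          show baseCode (rotEl (1360 + (j - 1360)) i) = baseCode (rotEl (1360 + (j' - 1360)) i')
          rw [Nat.add_sub_cancel' (not_lt.mp hjc), Nat.add_sub_cancel' (not_lt.mp hjc')]
          exact code_eq hin hin' e)
      rw [Prod.mk.injEq] at this
      exact ⟨by omega, this.2⟩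

theorem rotEl_val {j i : ℕ} (hj : j < 1470) (hi : i < 17) :
    wval imX (rotEl j i) = (wval imX (repWord j ++ powWord i))⁻¹ * im9 1 * wval imX (repWord j ++ powWord i) := by
  rw [rotEl, wvalX_append, wvalX_append, repEl, wvalX_append, wval_cons, wval_invW (powIn_facts hi).1,
    wval_invW (repIn_facts hj).1, imX_low (by norm_num), wvalX_append]
  group

/-- Every conjugate of the second letter is listed. -/
theorem classB (g : Cfsg.Spor.He) : ∃ j < 1470, ∃ i < 17, g * im9 1 * g⁻¹ = wval imX (rotEl j i) := by
  set C := (Subgroup.centralizer {im9 1} : Subgroup Cfsg.Spor.He)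
  let h : Fin 1470 × Fin 17 → Cfsg.Spor.He := fun p => (wval imX (repWord p.1.val ++ powWord p.2.val))⁻¹
  have hrot : ∀ p : Fin 1470 × Fin 17, h p * im9 1 * (h p)⁻¹ = wval imX (rotEl p.1.val p.2.val) := fun p => by
    rw [rotEl_val p.1.isLt p.2.isLt, inv_inv]
  have hC : ∀ {x y : Cfsg.Spor.He}, (x : Cfsg.Spor.He ⧸ C) = y → x * im9 1 * x⁻¹ = y * im9 1 * y⁻¹ := by
    intro x y e
    have := Subgroup.mem_centralizer_singleton_iff.1 (QuotientGroup.eq.1 e)
    calc x * im9 1 * x⁻¹ = x * (im9 1 * (x⁻¹ * y)) * y⁻¹ := by group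
      _ = x * (x⁻¹ * y * im9 1) * y⁻¹ := by rw [this]
      _ = y * im9 1 * y⁻¹ := by group
  have hinj : Function.Injective fun p => (h p : Cfsg.Spor.He ⧸ C) := fun p q e => by
    have e2 := hC e
    rw [hrot, hrot] at e2
    obtain ⟨a, b⟩ := rotEl_inj p.1.isLt p.2.isLt q.1.isLt q.2.isLt e2
    exact Prod.ext (Fin.ext a) (Fin.ext b)
  have hle : Nat.card (Cfsg.Spor.He ⧸ C) ≤ Nat.card (Fin 1470 × Fin 17) := by
    have h1 : Nat.card C * Nat.card (Cfsg.Spor.He ⧸ C) = 4030387200 := by
      rw [← card_he]
      exact Subgroup.card_mul_index C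
    have h2 := Nat.mul_le_mul_right (Nat.card (Cfsg.Spor.He ⧸ C)) card_centB_ge
    rw [h1] at h2
    rw [Nat.card_prod, Nat.card_fin, Nat.card_fin]
    omega
  obtain ⟨p, hp⟩ := (hinj.bijective_of_nat_card_le hle).2 (g : Cfsg.Spor.He ⧸ C)
  exact ⟨p.1.val, p.1.isLt, p.2.val, p.2.isLt, by rw [← hrot, hC hp]⟩

end Cfsg.Lib.HePres
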