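import Cfsg.Agent.HePres.MultData
import Cfsg.Agent.HePres.Fix
import Cfsg.Agent.Schur.Criteria
import Cfsg.Prelude.Def_KGroupFacts

/-!
The multiplier of the Held group is trivial.
-/

set_option autoImplicit false
set_option Elab.async false

namespace Cfsg.Lib.HePres

open Cfsg.Lib.CosetCert Cfsg.Lib.PermCert
open Cfsg.Lib.Schur.Prime (val)

/-- The word of a product of generators. -/
def pcFlat (pcw : List (List ℕ)) (l : List ℕ) : List ℕ := l.flatMap fun k => pcw.getD k []

/-- The image of a point under a word in the seven letters. -/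
def evalS (w : List ℕ) (x : ℕ) : ℕ := w.foldr (fun l y => ap (sigTabs.getD l (0, 0)).1 y) x

/-- Two words give the same permutation. -/
def sameS (w u : List ℕ) : Bool :=
  (w.all fun l => decide (l < 7)) && (u.all fun l => decide (l < 7)) &&
    basePts.all fun x => evalS w x == evalS u x

/-- The rules with a given first index. -/
def ruleS (c : Cfsg.Lib.Schur.Prime.Cert) (pcw : List (List ℕ)) (j : ℕ) : Bool :=
  (List.range (j + 1)).all fun i => sameS (pcFlat pcw (c.lhs j i)) (pcFlat pcw (c.tail j i))

/-- The conjugations. -/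
def fusS (c : Cfsg.Lib.Schur.Prime.Cert) (pcw fw : List (List ℕ)) : Bool :=
  (List.range c.fuse.length).all fun f =>
    (List.range (c.fuse.getD f ([], [], [])).1.length).all fun k =>
      sameS (fw.getD f [] ++ pcFlat pcw ((c.fuse.getD f ([], [], [])).1.getD k []))
        (pcFlat pcw ((c.fuse.getD f ([], [], [])).2.1.getD k []) ++ fw.getD f [])

/-- The chain of a Sylow subgroup as levels. -/
def levsOf (pcw : List (List ℕ)) (levels : List (ℕ × List (List ℕ) × List (ℕ × ℕ × ℕ))) : List Lev :=
  levels.map fun L => ⟨L.1, L.2.1.map (pcFlat pcw), L.2.2⟩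

/-- The Sylow subgroup is large enough. -/
def countS (c : Cfsg.Lib.Schur.Prime.Cert) (pcw : List (List ℕ))
    (levels : List (ℕ × List (List ℕ) × List (ℕ × ℕ × ℕ))) : Bool :=
  (levels.all fun L => L.2.1.all fun l => l.all fun k => decide (k < c.n)) &&
    (pcw.all fun w => w.all fun a => decide (a < 7)) &&
    chainOK sigTabs 2058 9 (levsOf pcw levels) && decide (chainSize (levsOf pcw levels) = c.p ^ c.n)

theorem cert2_ok : cert2.ok = true := by decide +kernel
theorem cert3_ok : cert3.ok = true := by decide +kernel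
theorem cert5_ok : cert5.ok = true := by decide +kernel
theorem cert7_ok : cert7.ok = true := by decide +kernel

theorem rules2 : ((List.range' 0 10).all fun j => ruleS cert2 pcw2 j) = true := by decide +kernel
theorem rules3 : ((List.range' 0 3).all fun j => ruleS cert3 pcw3 j) = true := by decide +kernel
theorem rules5 : ((List.range' 0 2).all fun j => ruleS cert5 pcw5 j) = true := by decide +kernel
theorem rules7 : ((List.range' 0 3).all fun j => ruleS cert7 pcw7 j) = true := by decide +kernel
theorem fus2 : fusS cert2 pcw2 fw2 = true := by decide +kernel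
theorem fus3 : fusS cert3 pcw3 fw3 = true := by decide +kernel
theorem fus5 : fusS cert5 pcw5 fw5 = true := by decide +kernel
theorem fus7 : fusS cert7 pcw7 fw7 = true := by decide +kernel
theorem count2 : countS cert2 pcw2 levels2 = true := by decide +kernel
theorem count3 : countS cert3 pcw3 levels3 = true := by decide +kernel
theorem count5 : countS cert5 pcw5 levels5 = true := by decide +kernel
theorem count7 : countS cert7 pcw7 levels7 = true := by decide +kernel

theorem sig_valid {l : ℕ} (h : l < 7) : valid 2058 (sigTabs.getD l (0, 0)) = true :=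
  List.all_eq_true.1 tabs_valid l (List.mem_range.2 (by omega))

theorem psi_evalS {w : List ℕ} (hw : ∀ l ∈ w, l < 7) (x : Fin 2058) :
    (psi (wval im w) x : ℕ) = evalS w x := by
  rw [psi_wval hw, wperm_apply (fun g hg => by
    obtain ⟨l, hl, rfl⟩ := List.mem_map.1 hg
    exact sig_valid (hw l hl)), evalWord, List.foldr_map]
  rfl

theorem sameS_sound {w u : List ℕ} (h : sameS w u = true) : wval im w = wval im u := by
  simp only [sameS, Bool.and_eq_true, List.all_eq_true, decide_eq_true_eq, beq_iff_eq] at h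
  refine ext_base fun x hx => Fin.ext ?_
  rw [psi_evalS h.1.1, psi_evalS h.1.2, h.2 x hx]

theorem val_pcFlat (pcw : List (List ℕ)) : ∀ l : List ℕ,
    val (fun k => wval im (pcw.getD k [])) l = wval im (pcFlat pcw l)
  | [] => rfl
  | k :: l => by
    rw [Cfsg.Lib.Schur.Prime.val_cons, val_pcFlat pcw l,
      show pcFlat pcw (k :: l) = pcw.getD k [] ++ pcFlat pcw l from List.flatMap_cons .., wval_append]

universe u

theorem not_dvd_ker (c : Cfsg.Lib.Schur.Prime.Cert) (pcw fw : List (List ℕ))
    (levels : List (ℕ × List (List ℕ) × List (ℕ × ℕ × ℕ))) (hp : c.p.Prime) (hc : c.ok = true)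
    (hrules : ∀ j < c.n, ruleS c pcw j = true) (hfus : fusS c pcw fw = true) (hcount : countS c pcw levels = true)
    (hfact : (Nat.card Cfsg.Spor.He).factorization c.p = c.n)
    {Γ : Type u} [Group Γ] [Finite Γ] {σ : Γ →* Cfsg.Spor.He} (hσ : Cfsg.IsStemExtension σ) :
    ¬ c.p ∣ Nat.card σ.ker := by
  simp only [countS, Bool.and_eq_true, List.all_eq_true, decide_eq_true_eq] at hcount
  obtain ⟨⟨⟨hidx, hlt⟩, hchain⟩, hsize⟩ := hcount
  set x : ℕ → Cfsg.Spor.He := fun k => wval im (pcw.getD k []) with hx
  have hr : ∀ j < c.n, ∀ i ≤ j, val x (c.lhs j i) = val x (c.tail j i) := fun j hj i hi => by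
    have h := List.all_eq_true.mp (hrules j hj) i (List.mem_range.mpr (by omega))
    rw [val_pcFlat, val_pcFlat]
    exact sameS_sound h
  have hf : ∀ f ∈ c.fuse, ∃ g, ∀ k < f.1.length,
      g * val x (f.1.getD k []) * g⁻¹ = val x (f.2.1.getD k []) := by
    intro f hf
    obtain ⟨i, hi, rfl⟩ := List.mem_iff_getElem.mp hf
    refine ⟨wval im (fw.getD i []), fun k hk => ?_⟩
    have h := List.all_eq_true.mp hfus i (List.mem_range.mpr hi)
    rw [List.getD_eq_getElem _ _ hi] at h
    have e := sameS_sound (List.all_eq_true.mp h k (List.mem_range.mpr hk))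
    rw [wval_append, wval_append, ← val_pcFlat, ← val_pcFlat] at e
    rw [mul_inv_eq_iff_eq_mul]
    exact e
  have hshape : c.shapesOK = true := by
    simp only [Cfsg.Lib.Schur.Prime.Cert.ok, Bool.and_eq_true] at hc
    exact hc.1.2
  have hset : ({i | 0 ≤ i ∧ i < c.n} : Set ℕ) = {i | i < c.n} := by ext; simp
  have hup := Cfsg.Lib.Schur.Prime.card_sub_le c hshape hp.pos x hr c.n 0 (Nat.zero_add _)
  rw [Cfsg.Lib.Schur.Prime.sub, hset] at hup
  set P := Subgroup.closure (x '' {i | i < c.n}) with hP
  have hlow : c.p ^ c.n ≤ Nat.card P := by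
    have hmem : ∀ K ∈ levsOf pcw levels, ∀ w ∈ K.gens, wval im9 w ∈ P := by
      intro K hK w hw
      obtain ⟨L, hL, rfl⟩ := List.mem_map.mp hK
      obtain ⟨l, hl, rfl⟩ := List.mem_map.mp hw
      have hlow : ∀ a ∈ pcFlat pcw l, a < 7 := by
        intro a ha
        obtain ⟨k, -, ha⟩ := List.mem_flatMap.mp ha
        by_cases hk : k < pcw.length
        · rw [List.getD_eq_getElem _ _ hk] at ha
          exact hlt _ (List.getElem_mem hk) a ha
        · rw [List.getD_eq_default _ _ (not_lt.mp hk)] at ha
          simp at ha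
      rw [wval_im9, expand_low hlow, ← val_pcFlat]
      refine Subgroup.list_prod_mem _ fun z hz => ?_
      obtain ⟨q, hq, rfl⟩ := List.mem_map.mp hz
      exact Subgroup.subset_closure ⟨q, hidx L hL l hl q hq, rfl⟩
    exact hsize ▸ chain_bound im9 psi sigTabs psi_im9 (levsOf pcw levels) P hchain inferInstance hmem
  have heq : Nat.card P = c.p ^ c.n := le_antisymm hup hlow
  exact Cfsg.Lib.Schur.Prime.Cert.not_dvd c hp hc hσ x hr hf (by rw [← hP, heq, hfact]) heq.symm

/-- The multiplier of the Held group is trivial. -/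
theorem multiplier_he : Cfsg.HasCyclicSchurMultiplier Cfsg.Spor.He 1 := by
  refine Cfsg.Lib.Schur.hasCyclicSchurMultiplier_one_of fun Γ _ _ σ hσ => ?_
  have hf : ∀ p k : ℕ, p.Prime → p ^ k ∣ 4030387200 → ¬ p ^ (k + 1) ∣ 4030387200 →
      (Nat.card Cfsg.Spor.He).factorization p = k := fun p k hp h1 h2 => by
    rw [card_he]
    refine le_antisymm ?_ ((hp.pow_dvd_iff_le_factorization (by norm_num)).mp h1)
    by_contra h
    exact h2 ((hp.pow_dvd_iff_le_factorization (by norm_num)).mpr (by omega))
  refine Cfsg.Lib.Schur.ker_eq_bot_of_sylow hσ fun p hp => ?_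
  haveI := hp
  by_cases h2 : p ^ 2 ∣ 4030387200
  · have h1 : p ∣ 4030387200 := (dvd_pow_self p two_ne_zero).trans h2
    have hmem : p ∈ [2, 3, 5, 7, 17] := by
      rw [show (4030387200 : ℕ) = 2 ^ 10 * 3 ^ 3 * 5 ^ 2 * 7 ^ 3 * 17 by norm_num] at h1
      simp only [List.mem_cons, List.not_mem_nil, or_false]
      rcases hp.out.dvd_mul.mp h1 with h1 | h1
      · rcases hp.out.dvd_mul.mp h1 with h1 | h1
        · rcases hp.out.dvd_mul.mp h1 with h1 | h1
          · rcases hp.out.dvd_mul.mp h1 with h1 | h1
            · exact Or.inl ((Nat.prime_dvd_prime_iff_eq hp.out Nat.prime_two).mp (hp.out.dvd_of_dvd_pow h1))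
            · exact Or.inr (Or.inl ((Nat.prime_dvd_prime_iff_eq hp.out Nat.prime_three).mp (hp.out.dvd_of_dvd_pow h1)))
          · exact Or.inr (Or.inr (Or.inl ((Nat.prime_dvd_prime_iff_eq hp.out (by norm_num)).mp (hp.out.dvd_of_dvd_pow h1))))
        · exact Or.inr (Or.inr (Or.inr (Or.inl ((Nat.prime_dvd_prime_iff_eq hp.out (by norm_num)).mp (hp.out.dvd_of_dvd_pow h1)))))
      · exact Or.inr (Or.inr (Or.inr (Or.inr ((Nat.prime_dvd_prime_iff_eq hp.out (by norm_num)).mp h1))))
    simp only [List.mem_cons, List.not_mem_nil, or_false] at hmem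
    rcases hmem with rfl | rfl | rfl | rfl | rfl
    · exact cert2.exists_sylow (not_dvd_ker cert2 pcw2 fw2 levels2 (show Nat.Prime 2 by norm_num) cert2_ok
        (fun j hj => List.all_eq_true.mp rules2 j (List.mem_range'_1.mpr ⟨Nat.zero_le _, by simpa [cert2] using hj⟩))
        fus2 count2 (hf 2 10 (by norm_num) (by norm_num) (by norm_num)) hσ)
    · exact cert3.exists_sylow (not_dvd_ker cert3 pcw3 fw3 levels3 (show Nat.Prime 3 by norm_num) cert3_ok
        (fun j hj => List.all_eq_true.mp rules3 j (List.mem_range'_1.mpr ⟨Nat.zero_le _, by simpa [cert3] using hj⟩))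
        fus3 count3 (hf 3 3 (by norm_num) (by norm_num) (by norm_num)) hσ)
    · exact cert5.exists_sylow (not_dvd_ker cert5 pcw5 fw5 levels5 (show Nat.Prime 5 by norm_num) cert5_ok
        (fun j hj => List.all_eq_true.mp rules5 j (List.mem_range'_1.mpr ⟨Nat.zero_le _, by simpa [cert5] using hj⟩))
        fus5 count5 (hf 5 2 (by norm_num) (by norm_num) (by norm_num)) hσ)
    · exact cert7.exists_sylow (not_dvd_ker cert7 pcw7 fw7 levels7 (show Nat.Prime 7 by norm_num) cert7_ok
        (fun j hj => List.all_eq_true.mp rules7 j (List.mem_range'_1.mpr ⟨Nat.zero_le _, by simpa [cert7] using hj⟩))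
        fus7 count7 (hf 7 3 (by norm_num) (by norm_num) (by norm_num)) hσ)
    · norm_num at h2
  · exact Cfsg.Lib.Schur.exists_sylow_cyclic hσ (by rwa [card_he])

end Cfsg.Lib.HePres
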