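import Cfsg.Agent.HePres.Alpha
import Cfsg.Agent.HePres.Mult
import Cfsg.Agent.HePres.InvolData

/-!
Involutions of the presented Held group: each is conjugate to one of two letters, and no element has order sixteen.
-/

set_option autoImplicit false
set_option Elab.async false

namespace Cfsg.Lib.HePres

open Cfsg.Lib.CosetCert Cfsg.Lib.PermCert

/-- The normal word of a mask. -/
def sylWord (m : ℕ) : List ℕ := ((List.range 10).filter fun k => m.testBit k).map (25 + ·)

/-- The four base points as one number. -/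
def baseCode (w : List ℕ) : ℕ :=
  ((evalW xTabs w 0 * 2058 + evalW xTabs w 22) * 2058 + evalW xTabs w 8) * 2058 + evalW xTabs w 126

/-- A list increases strictly. -/
def incr : List ℕ → Bool
  | a :: b :: r => Nat.blt a b && incr (b :: r)
  | _ => true

theorem incr_pairwise : ∀ {l : List ℕ}, incr l = true → l.Pairwise (· < ·)
  | [], _ => List.Pairwise.nil
  | [_], _ => List.pairwise_singleton _ _
  | a :: b :: r, h => by
    simp only [incr, Bool.and_eq_true] at h
    have ih := incr_pairwise h.2
    have hab : a < b := Nat.le_of_ble_eq_true h.1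
    refine List.pairwise_cons.2 ⟨fun c hc => ?_, ih⟩
    rcases List.mem_cons.1 hc with rfl | hc
    · exact hab
    · exact hab.trans (List.rel_of_pairwise_cons ih hc)

theorem incr_nodup {l : List ℕ} (h : incr l = true) : l.Nodup := (incr_pairwise h).imp Nat.ne_of_lt

theorem code_eq {w v : List ℕ} (hw : inX w = true) (hv : inX v = true) (h : wval imX w = wval imX v) :
    baseCode w = baseCode v := by
  rw [baseCode, baseCode, eval_eq hw hv h (by norm_num), eval_eq hw hv h (by norm_num), eval_eq hw hv h (by norm_num),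
    eval_eq hw hv h (by norm_num)]

theorem syl_distinct : incr (sylOrder.map fun m => baseCode (sylWord m)) = true ∧ sylOrder.length = 1024 ∧
    (sylOrder.all fun m => Nat.blt m 1024) = true := by decide +kernel

theorem sylWord_in : ((List.range 1024).all fun m => inX (sylWord m)) = true := by decide +kernel

/-- The Sylow subgroup. -/
def syl : Subgroup Cfsg.Spor.He := Subgroup.closure (pcEl '' {i | i < 10})

theorem card_syl_le : Nat.card syl ≤ 1024 := by
  have hx : pcEl = fun k => wval im (pcw2.getD k []) := funext fun k => by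
    have hlt : ∀ a ∈ pcw2.getD k [], a < 7 := by
      intro a ha
      by_cases hk : k < pcw2.length
      · have hall : (pcw2.all fun w => w.all fun a => decide (a < 7)) = true := by decide +kernel
        rw [List.getD_eq_getElem _ _ hk] at ha
        exact decide_eq_true_eq.mp (List.all_eq_true.1 (List.all_eq_true.1 hall _ (List.getElem_mem hk)) a ha)
      · rw [List.getD_eq_default _ _ (not_lt.mp hk)] at ha
        simp at ha
    rw [pcEl, wval_im9, expand_low hlt]
  have hshape : cert2.shapesOK = true := by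
    have := cert2_ok
    simp only [Cfsg.Lib.Schur.Prime.Cert.ok, Bool.and_eq_true] at this
    exact this.1.2
  have h := Cfsg.Lib.Schur.Prime.card_sub_le cert2 hshape (show 0 < 2 by norm_num) pcEl (fun j hj i hi => by
    have hr := List.all_eq_true.mp (List.all_eq_true.mp rules2 j (List.mem_range'_1.mpr ⟨Nat.zero_le _,
      by simpa [cert2] using hj⟩)) i (List.mem_range.mpr (by omega))
    rw [hx, val_pcFlat, val_pcFlat]
    exact sameS_sound hr) 10 0 (show 0 + 10 = 10 from rfl)
  have hset : ({i | 0 ≤ i ∧ i < cert2.n} : Set ℕ) = {i | i < 10} := by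
    ext i
    show 0 ≤ i ∧ i < 10 ↔ i < 10
    simp
  rw [Cfsg.Lib.Schur.Prime.sub, hset] at h
  exact h

theorem sylWord_mem (m : ℕ) : wval imX (sylWord m) ∈ syl := by
  refine Subgroup.list_prod_mem _ fun z hz => ?_
  obtain ⟨l, hl, rfl⟩ := List.mem_map.mp hz
  obtain ⟨k, hk, rfl⟩ := List.mem_map.mp hl
  have hk' := List.mem_range.mp (List.mem_of_mem_filter hk)
  rw [imX, if_neg (by omega), if_neg (by omega), if_pos (by omega), Nat.add_sub_cancel_left]
  exact Subgroup.subset_closure ⟨k, hk', rfl⟩

theorem syl_eq : Nat.card syl = 1024 ∧ ∀ y ∈ syl, ∃ m < 1024, wval imX (sylWord m) = y := by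
  classical
  obtain ⟨hinc, hlen, hlt⟩ := syl_distinct
  have hlt' : ∀ m ∈ sylOrder, m < 1024 := fun m hm => Nat.le_of_ble_eq_true (List.all_eq_true.1 hlt m hm)
  have hnd : (sylOrder.map fun m => wval imX (sylWord m)).Nodup := by
    refine List.Nodup.map_on (fun a ha b hb e => ?_) (List.Nodup.of_map _ (incr_nodup hinc))
    refine List.inj_on_of_nodup_map (incr_nodup hinc) ha hb ?_
    exact code_eq (List.all_eq_true.1 sylWord_in a (List.mem_range.2 (hlt' a ha)))
      (List.all_eq_true.1 sylWord_in b (List.mem_range.2 (hlt' b hb))) e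
  set S : Set Cfsg.Spor.He := {y | y ∈ sylOrder.map fun m => wval imX (sylWord m)}
  have hsub : S ⊆ syl := by
    intro y hy
    obtain ⟨m, -, rfl⟩ := List.mem_map.1 hy
    exact sylWord_mem m
  have hS : S.ncard = 1024 := by
    rw [← hlen, ← List.length_map (as := sylOrder) fun m => wval imX (sylWord m), ← List.toFinset_card_of_nodup hnd,
      ← Set.ncard_coe_finset, List.coe_toFinset]
  have heq : S = (syl : Set Cfsg.Spor.He) := Set.eq_of_subset_of_ncard_le hsub (by
    rw [hS, ← Nat.card_coe_set_eq]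
    exact card_syl_le) (Set.toFinite _)
  refine ⟨by rw [← hS, heq]; exact Nat.card_coe_set_eq _, fun y hy => ?_⟩
  rw [← SetLike.mem_coe, ← heq] at hy
  obtain ⟨m, hm, rfl⟩ := List.mem_map.1 hy
  exact ⟨m, hlt' m hm, rfl⟩

theorem syl_exp : ((List.range 1024).all fun m => sameW (rpt 8 (sylWord m)) []) = true := by decide +kernel

theorem syl_invol : ((List.range 1024).filter fun m => sameW (sylWord m ++ sylWord m) []) =
    0 :: invWit.map Prod.fst := by decide +kernel

theorem invWit_ok : (invWit.all fun e => (e.2.1 == 1 || e.2.1 == 3) && inX e.2.2 &&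
    sameW (invW e.2.2 ++ sylWord e.1 ++ e.2.2) [e.2.1]) = true := by decide +kernel

theorem conj_into_syl {t : Cfsg.Spor.He} {k : ℕ} (ht : t ^ 2 ^ k = 1) : ∃ g, g * t * g⁻¹ ∈ syl := by
  haveI : Fact (Nat.Prime 2) := ⟨Nat.prime_two⟩
  have hT : IsPGroup 2 (Subgroup.zpowers t) := by
    obtain ⟨j, -, hj⟩ := (Nat.dvd_prime_pow Nat.prime_two).mp (orderOf_dvd_of_pow_eq_one ht)
    exact IsPGroup.of_card (n := j) (by rw [Nat.card_zpowers, hj])
  obtain ⟨Q, hQ⟩ := hT.exists_le_sylow
  let P : Sylow 2 Cfsg.Spor.He := Sylow.ofCard syl (by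
    rw [syl_eq.1, card_he]
    have h2 : (4030387200 : ℕ).factorization 2 = 10 := by
      refine le_antisymm ?_ ((Nat.prime_two.pow_dvd_iff_le_factorization (by norm_num)).mp (by norm_num))
      by_contra h
      exact absurd ((Nat.prime_two.pow_dvd_iff_le_factorization (k := 11) (by norm_num)).mpr (by omega))
        (by norm_num : ¬ 2 ^ 11 ∣ 4030387200)
    rw [h2]
    rfl)
  obtain ⟨g, hg⟩ := MulAction.exists_smul_eq Cfsg.Spor.He Q P
  refine ⟨g, ?_⟩
  have h1 : g * t * g⁻¹ ∈ (g • Q : Sylow 2 Cfsg.Spor.He).toSubgroup := by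
    rw [Sylow.coe_subgroup_smul]
    exact Subgroup.mem_pointwise_smul_iff_inv_smul_mem.mpr (by
      have := hQ (Subgroup.mem_zpowers t)
      simpa [MulAut.smul_def, mul_assoc] using this)
  rw [hg] at h1
  exact h1

/-- Every involution is conjugate to the second or to the fourth letter. -/
theorem invol_classes {t : Cfsg.Spor.He} (ht : t * t = 1) (h1 : t ≠ 1) :
    ∃ g, g * t * g⁻¹ = im9 1 ∨ g * t * g⁻¹ = im9 3 := by
  obtain ⟨g, hg⟩ := conj_into_syl (t := t) (k := 1) (by rw [pow_one, sq, ht])
  obtain ⟨m, hm, e⟩ := syl_eq.2 _ hg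
  have hin := List.all_eq_true.1 sylWord_in m (List.mem_range.2 hm)
  have hsq : sameW (sylWord m ++ sylWord m) [] = true := by
    have e2 : wval imX (sylWord m ++ sylWord m) = wval imX [] := by
      rw [wvalX_append, e, wval_nil, show g * t * g⁻¹ * (g * t * g⁻¹) = g * (t * t) * g⁻¹ by group, ht, mul_one,
        mul_inv_cancel]
    have hin2 : inX (sylWord m ++ sylWord m) = true := by
      rw [inX, List.all_append, ← inX, hin]
      rfl
    simp only [sameW, Bool.and_eq_true, List.all_eq_true, beq_iff_eq]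
    exact ⟨⟨hin2, rfl⟩, fun b hb => eval_eq hin2 rfl e2 (by
      simp only [List.mem_cons, List.not_mem_nil, or_false] at hb
      rcases hb with rfl | rfl | rfl | rfl <;> norm_num)⟩
  have hmem : m ∈ 0 :: invWit.map Prod.fst := by
    rw [← syl_invol]
    exact List.mem_filter.2 ⟨List.mem_range.2 hm, hsq⟩
  rcases List.mem_cons.1 hmem with rfl | hmem
  · exfalso
    rw [show sylWord 0 = [] by decide, wval_nil] at e
    exact h1 (conj_eq_one_iff.mp e.symm)
  · obtain ⟨⟨m', tl, w⟩, hw, rfl⟩ := List.mem_map.1 hmem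
    have h := List.all_eq_true.1 invWit_ok _ hw
    simp only [Bool.and_eq_true, Bool.or_eq_true, beq_iff_eq] at h
    obtain ⟨⟨htl, hwin⟩, hsame⟩ := h
    have e3 := sameW_sound hsame
    rw [wvalX_append, wvalX_append, wval_invW hwin, e, wval_cons, wval_nil, mul_one] at e3
    refine ⟨(wval imX w)⁻¹ * g, ?_⟩
    rw [show (wval imX w)⁻¹ * g * t * ((wval imX w)⁻¹ * g)⁻¹ = (wval imX w)⁻¹ * (g * t * g⁻¹) * wval imX w by group,
      e3]
    rcases htl with rfl | rfl
    · exact Or.inl (imX_low (by norm_num))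
    · exact Or.inr (imX_low (by norm_num))

/-- No element has order divisible by sixteen. -/
theorem not_sixteen_dvd (g : Cfsg.Spor.He) : ¬ 16 ∣ orderOf g := by
  intro h
  have hg : orderOf g ≠ 0 := (isOfFinOrder_of_finite g).orderOf_pos.ne'
  set y := g ^ (orderOf g / 16) with hy
  have hyo : orderOf y = 16 := by
    rw [hy, orderOf_pow' g (by
      intro e
      rw [Nat.div_eq_zero_iff] at e
      have := Nat.le_of_dvd (Nat.pos_of_ne_zero hg) h
      omega), Nat.gcd_eq_right (Nat.div_dvd_of_dvd h), Nat.div_div_self h hg]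
  obtain ⟨k, hk⟩ := conj_into_syl (t := y) (k := 4) (by
    rw [show 2 ^ 4 = orderOf y by rw [hyo]; norm_num]
    exact pow_orderOf_eq_one y)
  obtain ⟨m, hm, e⟩ := syl_eq.2 _ hk
  have h8 := sameW_sound (List.all_eq_true.1 syl_exp m (List.mem_range.2 hm))
  rw [wval_rpt, e, conj_pow, wval_nil, conj_eq_one_iff] at h8
  have := orderOf_dvd_of_pow_eq_one h8
  rw [hyo] at this
  exact absurd (Nat.le_of_dvd (by norm_num) this) (by norm_num)

end Cfsg.Lib.HePres
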