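import Cfsg.Agent.HePres.Action

/-!
The two further letters `t = (ab)²` and `u = a(bcde)⁷`, and words in all nine letters.
-/

set_option autoImplicit false

namespace Cfsg.Lib.HePres

open Cfsg.Lib.CosetCert Cfsg.Lib.PermCert

/-- The word of a letter in the seven generators. -/
def expandL (n : ℕ) : List ℕ := if n = 7 then [0, 1, 0, 1] else if n = 8 then 0 :: rpt 7 [1, 2, 3, 4] else [n]

/-- A word in the seven generators. -/
def expand (w : List ℕ) : List ℕ := w.flatMap expandL

/-- The nine letters. -/
def im9 (n : ℕ) : Cfsg.Spor.He := wval im (expandL n)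

theorem expand_low : ∀ {w : List ℕ}, (∀ l ∈ w, l < 7) → expand w = w
  | [], _ => rfl
  | l :: w, h => by
    have hl := h l List.mem_cons_self
    rw [expand, List.flatMap_cons, ← expand, expand_low fun a ha => h a (List.mem_cons_of_mem l ha), expandL,
      if_neg (by omega), if_neg (by omega)]
    rfl

theorem wval_im9 : ∀ w : List ℕ, wval im9 w = wval im (expand w)
  | [] => rfl
  | l :: w => by rw [wval_cons, wval_im9 w, im9, ← wval_append]; rfl

theorem im9_low {n : ℕ} (h : n < 7) : im9 n = im n := by
  simp [im9, expandL, show n ≠ 7 by omega, show n ≠ 8 by omega, wval]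

/-- The action on the points. -/
def psi : Cfsg.Spor.He →* Equiv.Perm (Fin 2058) := toGrp good_act

set_option maxRecDepth 4000 in
theorem psi_wval {w : List ℕ} (h : ∀ l ∈ w, l < 7) :
    psi (wval im w) = wperm 2058 (w.map fun l => sigTabs.getD l (0, 0)) := by
  rw [wperm, List.map_map, wval, map_list_prod, List.map_map]
  refine congrArg List.prod (List.map_congr_left fun l hl => ?_)
  exact toGrp_im good_act (h l hl)

theorem expand_ok : ((List.range 9).all fun l => (expandL l).all fun x => decide (x < 7)) = true := by decide +kernel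

theorem letter_ok : ((List.range 9).all fun l =>
    isId 2058 (sigTabs.getD l (0, 0) :: (expandL l).map fun x => sigTabs.getD x (0, 0))) = true := by decide +kernel

theorem expandL_lt {l : ℕ} (hl : l < 9) : ∀ x ∈ expandL l, x < 7 := fun x hx =>
  decide_eq_true_eq.mp (List.all_eq_true.1 (List.all_eq_true.1 expand_ok l (List.mem_range.2 hl)) x hx)

theorem psi_im9 (l : ℕ) (hl : l < sigTabs.length) :
    valid 2058 (sigTabs.getD l (0, 0)) = true ∧ psi (im9 l) = perm 2058 (sigTabs.getD l (0, 0)) := by
  have h9 : l < 9 := hl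
  have hv : ∀ k, k < 9 → valid 2058 (sigTabs.getD k (0, 0)) = true := fun k hk =>
    List.all_eq_true.1 tabs_valid k (List.mem_range.2 hk)
  refine ⟨hv l h9, ?_⟩
  have hid := isId_sound (w := sigTabs.getD l (0, 0) :: (expandL l).map fun x => sigTabs.getD x (0, 0)) (by
    intro g hg
    rcases List.mem_cons.1 hg with rfl | hg
    · exact hv l h9
    · obtain ⟨x, hx, rfl⟩ := List.mem_map.1 hg
      exact hv x (Nat.lt_trans (expandL_lt h9 x hx) (by norm_num))) (List.all_eq_true.1 letter_ok l (List.mem_range.2 h9))
  rw [show wperm 2058 (sigTabs.getD l (0, 0) :: (expandL l).map fun x => sigTabs.getD x (0, 0)) =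
    perm 2058 (sigTabs.getD l (0, 0)) * wperm 2058 ((expandL l).map fun x => sigTabs.getD x (0, 0)) by simp [wperm],
    ← psi_wval (expandL_lt h9)] at hid
  have hsq : perm 2058 (sigTabs.getD l (0, 0)) * perm 2058 (sigTabs.getD l (0, 0)) = 1 := by
    have hp : pinv (sigTabs.getD l (0, 0)) = sigTabs.getD l (0, 0) := by interval_cases l <;> rfl
    conv_lhs => arg 2; rw [← hp, perm_pinv (hv l h9)]
    rw [mul_inv_cancel]
  rw [im9, ← mul_left_cancel_iff (a := perm 2058 (sigTabs.getD l (0, 0))), hid, hsq]

/-- The letters of a word among given ones. -/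
def lettersIn (S w : List ℕ) : Bool := w.all fun l => S.contains l

/-- The subgroup on some of the letters. -/
def gp (S : List ℕ) : Subgroup Cfsg.Spor.He := Subgroup.closure {x | ∃ l ∈ S, im9 l = x}

theorem gp_mem {S : List ℕ} {l : ℕ} (h : l ∈ S) : im9 l ∈ gp S := Subgroup.subset_closure ⟨l, h, rfl⟩

theorem gp_wval {S : List ℕ} : ∀ {w : List ℕ}, lettersIn S w = true → wval im9 w ∈ gp S
  | [], _ => (gp S).one_mem
  | l :: w, h => by
    rw [lettersIn, List.all_cons, Bool.and_eq_true, List.contains_iff_mem] at h
    rw [wval_cons]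
    exact mul_mem (gp_mem h.1) (gp_wval h.2)

/-- A word acts trivially. -/
def trivB (w : List ℕ) : Bool :=
  (expand w).all (fun l => decide (l < 7)) && isId 2058 ((expand w).map fun l => sigTabs.getD l (0, 0))

theorem trivB_sound {w : List ℕ} (h : trivB w = true) : psi (wval im9 w) = 1 := by
  simp only [trivB, Bool.and_eq_true, List.all_eq_true, decide_eq_true_eq] at h
  rw [wval_im9, psi_wval h.1]
  refine isId_sound (fun g hg => ?_) h.2
  obtain ⟨l, hl, rfl⟩ := List.mem_map.1 hg
  exact List.all_eq_true.1 tabs_valid l (List.mem_range.2 (Nat.lt_trans (h.1 l hl) (by norm_num)))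

end Cfsg.Lib.HePres
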