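import Cfsg.Agent.HePres.OuterChecks
import Cfsg.Agent.HePres.CentD
import Cfsg.Prelude.Def_KGroupFacts

/-!
Automorphisms of the presented Held group: normal forms on two generators and one outer automorphism.
-/

set_option autoImplicit false
set_option Elab.async false

namespace Cfsg.Lib.HePres

open Cfsg.Lib.CosetCert Cfsg.Lib.PermCert

theorem imX_nine : imX 9 = uEl := by
  rw [show (9 : ℕ) = 8 + 1 from rfl, imX_pow le_rfl (by norm_num), pow_one]

theorem uEl_pow : uEl ^ 17 = 1 := by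
  have := sameW_sound seventeen_ok.1
  rwa [wval_rpt, wval_cons, wval_nil, mul_one, imX_nine] at this

theorem uEl_order : orderOf uEl = 17 := by
  haveI : Fact (Nat.Prime 17) := ⟨by norm_num⟩
  refine orderOf_eq_prime uEl_pow fun h => ?_
  have e : wval imX [9] = wval imX [] := by rw [wval_cons, wval_nil, mul_one, imX_nine, h]
  have h2 := seventeen_ok.2.1
  rw [eval_eq rfl rfl e (by norm_num), bne_iff_ne] at h2
  exact h2 rfl

theorem uEl_pow_mod (n : ℕ) : uEl ^ n = uEl ^ (n % 17) := by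
  conv_lhs => rw [← pow_mod_orderOf, uEl_order]

theorem norm_conj (g : Cfsg.Spor.He) (hg : g⁻¹ * uEl * g = uEl ^ 2) :
    ∀ m k : ℕ, (g ^ m)⁻¹ * uEl ^ k * g ^ m = uEl ^ (k * 2 ^ m)
  | 0, k => by simp
  | m + 1, k => by
    rw [pow_succ g m, show (g ^ m * g)⁻¹ * uEl ^ k * (g ^ m * g) = g⁻¹ * ((g ^ m)⁻¹ * uEl ^ k * g ^ m) * g by group,
      norm_conj g hg m k, show g⁻¹ * uEl ^ (k * 2 ^ m) * g = g⁻¹ * uEl ^ (k * 2 ^ m) * g⁻¹⁻¹ by rw [inv_inv],
      ← conj_pow, inv_inv, hg, ← pow_mul]
    congr 1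
    ring

/-- Elements of order seventeen are conjugate to one of two powers. -/
theorem seventeen_classes {v : Cfsg.Spor.He} (hv : orderOf v = 17) :
    ∃ g k, (k = 1 ∨ k = 3) ∧ g * v * g⁻¹ = uEl ^ k := by
  haveI : Fact (Nat.Prime 17) := ⟨by norm_num⟩
  have h17 : (4030387200 : ℕ).factorization 17 = 1 := by
    refine le_antisymm ?_ ((Nat.Prime.pow_dvd_iff_le_factorization (by norm_num) (by norm_num)).mp (by norm_num))
    by_contra h
    exact absurd ((Nat.Prime.pow_dvd_iff_le_factorization (p := 17) (k := 2) (by norm_num) (by norm_num)).mpr (by omega))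
      (by norm_num : ¬ 17 ^ 2 ∣ 4030387200)
  have hcard : ∀ w : Cfsg.Spor.He, orderOf w = 17 →
      Nat.card (Subgroup.zpowers w) = 17 ^ (Nat.card Cfsg.Spor.He).factorization 17 := fun w hw => by
    rw [Nat.card_zpowers, hw, card_he, h17, pow_one]
  let P : Sylow 17 Cfsg.Spor.He := Sylow.ofCard _ (hcard v hv)
  let Q : Sylow 17 Cfsg.Spor.He := Sylow.ofCard _ (hcard uEl uEl_order)
  obtain ⟨g, hg⟩ := MulAction.exists_smul_eq Cfsg.Spor.He P Q
  have h1 : g * v * g⁻¹ ∈ (g • P : Sylow 17 Cfsg.Spor.He).toSubgroup := by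
    rw [Sylow.coe_subgroup_smul]
    exact Subgroup.mem_pointwise_smul_iff_inv_smul_mem.mpr (by
      have : v ∈ (P : Subgroup Cfsg.Spor.He) := Subgroup.mem_zpowers v
      simpa [MulAut.smul_def, mul_assoc] using this)
  rw [hg] at h1
  have h2 : g * v * g⁻¹ ∈ Subgroup.zpowers uEl := h1
  obtain ⟨i, hi⟩ := Submonoid.mem_powers_iff _ _ |>.1 ((isOfFinOrder_of_finite uEl).mem_powers_iff_mem_zpowers.2 h2)
  have hi' : uEl ^ (i % 17) = g * v * g⁻¹ := by rw [← uEl_pow_mod, hi]
  have hne : i % 17 ≠ 0 := fun h => by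
    rw [h, pow_zero, eq_comm, conj_eq_one_iff] at hi'
    rw [hi', orderOf_one] at hv
    norm_num at hv
  have key : ∀ r : Fin 17, r.val ≠ 0 → ∃ m : Fin 8, (1 * 2 ^ m.val) % 17 = r.val ∨ (3 * 2 ^ m.val) % 17 = r.val := by
    decide
  obtain ⟨m, hm⟩ := key ⟨i % 17, Nat.mod_lt _ (by norm_num)⟩ hne
  set n := wval imX normWord with hn
  have hnu : n⁻¹ * uEl * n = uEl ^ 2 := by
    have := sameW_sound seventeen_ok.2.2.1
    rwa [wvalX_append, wvalX_append, wval_invW seventeen_ok.2.2.2, wval_cons, wval_cons, wval_nil, mul_one, mul_one,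
      imX_nine, show (10 : ℕ) = 8 + 2 from rfl, imX_pow (by norm_num) (by norm_num)] at this
  have main : ∀ k : ℕ, (k * 2 ^ m.val) % 17 = i % 17 → (n ^ m.val * g) * v * (n ^ m.val * g)⁻¹ = uEl ^ k := by
    intro k hk
    have := norm_conj n hnu m.val k
    rw [uEl_pow_mod (k * 2 ^ m.val), hk, hi'] at this
    calc n ^ m.val * g * v * (n ^ m.val * g)⁻¹ = n ^ m.val * (g * v * g⁻¹) * (n ^ m.val)⁻¹ := by group
      _ = uEl ^ k := by rw [← this]; group
  rcases hm with hm | hm
  · exact ⟨_, 1, Or.inl rfl, main 1 hm⟩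
  · exact ⟨_, 3, Or.inr rfl, main 3 hm⟩

theorem centralizer_map (φ : MulAut Cfsg.Spor.He) (x : Cfsg.Spor.He) :
    Nat.card (Subgroup.centralizer {φ x} : Subgroup Cfsg.Spor.He) =
      Nat.card (Subgroup.centralizer {x} : Subgroup Cfsg.Spor.He) :=
  (Nat.card_congr (φ.toEquiv.subtypeEquiv fun y => by
    show y ∈ Subgroup.centralizer {x} ↔ φ y ∈ Subgroup.centralizer {φ x}
    rw [Subgroup.mem_centralizer_singleton_iff, Subgroup.mem_centralizer_singleton_iff, ← map_mul, ← map_mul,
      φ.injective.eq_iff])).symm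

/-- An automorphism sends the second letter to one of its conjugates. -/
theorem aut_classB (φ : MulAut Cfsg.Spor.He) : ∃ g, g * φ (im9 1) * g⁻¹ = im9 1 := by
  have h1 : im9 1 * im9 1 = 1 := by
    rw [im9_low (by norm_num)]
    exact good_im.inv (by norm_num)
  have hne : φ (im9 1) ≠ 1 := fun h => by
    rw [map_eq_one_iff φ φ.injective, ← imX_low (show 1 < 9 by norm_num)] at h
    have hb : (evalW xTabs [1] 0 != 0) = true := by decide +kernel
    have e : wval imX [1] = wval imX [] := by rw [wval_cons, wval_nil, mul_one, h]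
    rw [eval_eq rfl rfl e (by norm_num), bne_iff_ne] at hb
    exact hb rfl
  obtain ⟨g, hg | hg⟩ := invol_classes (t := φ (im9 1)) (by rw [← map_mul, h1, map_one]) hne
  · exact ⟨g, hg⟩
  · exfalso
    have := centralizer_map (φ.trans (MulAut.conj g)) (im9 1)
    rw [show (φ.trans (MulAut.conj g)) (im9 1) = im9 3 from hg] at this
    have h2 : Nat.card centD = Nat.card (Subgroup.centralizer {im9 1} : Subgroup Cfsg.Spor.He) := this
    have := card_centD_le
    have := card_centB_ge
    omega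

theorem map_relWord (φ : Cfsg.Spor.He →* Cfsg.Spor.He) {k r : ℕ} (hk : k = 1 ∨ k = 3) (hr : r < 3) {x : List ℕ}
    (hu : φ uEl = uEl ^ k) (hb : φ (im9 1) = wval imX x) :
    φ (wval imX (relWord 1 r [1])) = wval imX (relWord k r x) := by
  have hpw : ∀ i, 1 ≤ i → i ≤ 16 → φ (imX (8 + i)) = imX (8 + (k * i) % 17) := by
    intro i h1 h2
    rw [imX_pow h1 h2, map_pow, hu, ← pow_mul, uEl_pow_mod, imX_pow ?_ ?_]
    · rcases hk with rfl | rfl <;> omega
    · omega
  have hone : imX (8 + (1 * [1, 3, 6].getD r 1) % 17) = imX (8 + [1, 3, 6].getD r 1) ∧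
      imX (8 + (1 * [16, 7, 11].getD r 16) % 17) = imX (8 + [16, 7, 11].getD r 16) ∧
      1 ≤ [1, 3, 6].getD r 1 ∧ [1, 3, 6].getD r 1 ≤ 16 ∧ 1 ≤ [16, 7, 11].getD r 16 ∧ [16, 7, 11].getD r 16 ≤ 16 := by
    interval_cases r <;> exact ⟨rfl, rfl, by decide, by decide, by decide, by decide⟩
  obtain ⟨a, b, c1, c2, d1, d2⟩ := hone
  simp only [relWord, wval_rpt, wvalX_append, wval_cons, wval_nil, mul_one, map_pow, map_mul, a, b,
    imX_low (show 1 < 9 by norm_num), hb, hpw _ c1 c2, hpw _ d1 d2]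

/-- The normal form of an automorphism. -/
theorem normal_form (φ : MulAut Cfsg.Spor.He) : ∃ g : Cfsg.Spor.He,
    ((MulAut.conj g * φ) uEl = uEl ∧ (MulAut.conj g * φ) (im9 1) = wval imX (repEl surv1)) ∨
    ((MulAut.conj g * φ) uEl = uEl ^ 3 ∧ (MulAut.conj g * φ) (im9 1) = wval imX (repEl surv3)) := by
  obtain ⟨g1, k, hk, hg1⟩ := seventeen_classes (v := φ uEl) (by rw [MulEquiv.orderOf_eq φ, uEl_order])
  obtain ⟨g2, hg2⟩ := aut_classB (MulAut.conj g1 * φ)
  obtain ⟨j, hj, i, hi, hji⟩ := classB g2⁻¹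
  rw [inv_inv, show g2⁻¹ * im9 1 * g2 = (MulAut.conj g1 * φ) (im9 1) by
    calc g2⁻¹ * im9 1 * g2 = g2⁻¹ * (g2 * (MulAut.conj g1 * φ) (im9 1) * g2⁻¹) * g2 := by rw [hg2]
      _ = _ := by group] at hji
  set p := wval imX (powWord i) with hp
  have hpu : Commute p (uEl ^ k) := by
    rw [hp, powWord]
    split_ifs with h
    · rw [wval_nil]
      exact Commute.one_left _
    · rw [wval_cons, wval_nil, mul_one, imX_pow (by omega) (by omega)]
      exact (Commute.refl uEl).pow_pow i k
  have hψu : (MulAut.conj (p * g1) * φ) uEl = uEl ^ k := by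
    rw [map_mul, mul_assoc, MulAut.mul_apply, MulAut.mul_apply, MulAut.conj_apply, MulAut.conj_apply, hg1, hpu.eq,
      mul_inv_cancel_right]
  have hψb : (MulAut.conj (p * g1) * φ) (im9 1) = wval imX (repEl j) := by
    rw [map_mul, mul_assoc, MulAut.mul_apply, MulAut.conj_apply, hji, rotEl, wvalX_append, wvalX_append,
      wval_invW (powIn_facts hi).1, ← hp]
    group
  have hsurv : ∀ (s : ℕ) (L : List (ℕ × ℕ)), killOK k s L = true → j = s := by
    intro s L hL
    have h := List.all_eq_true.1 hL j (List.mem_range.2 hj)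
    by_contra hne
    simp only [Bool.or_eq_true, beq_iff_eq, hne, false_or, Bool.and_eq_true, bne_iff_ne] at h
    obtain ⟨⟨⟨hr, hm⟩, hin⟩, hmove⟩ := h
    generalize (L.getD j (3, 0)).1 = r at hr hin hmove
    generalize (L.getD j (3, 0)).2 = m at hm hmove
    have hr' : r < 3 := Nat.le_of_ble_eq_true hr
    have h1 := congrArg (MulAut.conj (p * g1) * φ).toMonoidHom
      (sameW_sound (List.all_eq_true.1 rel_ok r (List.mem_range.2 hr')))
    rw [map_relWord _ hk hr' hψu hψb, wval_nil, map_one] at h1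
    exact hmove (eval_eq hin rfl (h1.trans (wval_nil imX).symm) (Nat.le_of_ble_eq_true hm))
  refine ⟨p * g1, ?_⟩
  rcases hk with rfl | rfl
  · rw [pow_one] at hψu
    exact Or.inl ⟨hψu, (hsurv _ _ kill_one) ▸ hψb⟩
  · exact Or.inr ⟨hψu, (hsurv _ _ kill_three) ▸ hψb⟩

theorem aut_ext {φ ψ : MulAut Cfsg.Spor.He} (hu : φ uEl = ψ uEl) (hb : φ (im9 1) = ψ (im9 1)) : φ = ψ := by
  have hw : ∀ l < 7, φ (im l) = ψ (im l) := fun l hl => by
    have h := List.all_eq_true.1 gen_ok.1 l (List.mem_range.2 hl)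
    simp only [Bool.and_eq_true, List.all_eq_true, Bool.or_eq_true, beq_iff_eq] at h
    have e := sameW_sound h.1
    rw [wval_cons, wval_nil, mul_one, imX_low (by omega), im9_low hl] at e
    rw [← e, wval, map_list_prod, map_list_prod, List.map_map, List.map_map]
    refine congrArg List.prod (List.map_congr_left fun x hx => ?_)
    show φ (imX x) = ψ (imX x)
    rcases h.2 x hx with rfl | ⟨h1, h2⟩
    · rw [imX_low (by norm_num)]
      exact hb
    · have h1' := Nat.le_of_ble_eq_true h1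
      have h2' := Nat.le_of_ble_eq_true h2
      rw [show x = 8 + (x - 8) by omega, imX_pow (by omega) (by omega), map_pow, map_pow, hu]
  have : φ.toMonoidHom = ψ.toMonoidHom := MonoidHom.eq_of_eqOn_dense closure_im (by
    rintro _ ⟨l, hl, rfl⟩
    exact hw l hl)
  exact MulEquiv.ext fun x => DFunLike.congr_fun this x

/-- The images of the letters. -/
def outIm (l : ℕ) : Cfsg.Spor.He := wval imX (outWords.getD l [])

theorem substW_val : ∀ w : List ℕ, wval imX (substW w) = wval outIm w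
  | [] => rfl
  | l :: w => by
    rw [substW, List.flatMap_cons, wvalX_append, ← substW, substW_val w, wval_cons]
    rfl

theorem good_out : Good outIm := fun w hw => by
  rw [← substW_val]
  exact sameW_sound (List.all_eq_true.1 out_rel w hw)

/-- The endomorphism. -/
def outHom : Cfsg.Spor.He →* Cfsg.Spor.He := toGrp good_out

theorem outHom_wval {w : List ℕ} (h : ∀ l ∈ w, l < 7) : outHom (wval im w) = wval imX (substW w) := by
  rw [substW_val, wval, map_list_prod, List.map_map, wval]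
  exact congrArg List.prod (List.map_congr_left fun l hl => toGrp_im good_out (h l hl))

theorem outHom_u : outHom uEl = uEl ^ 3 := by
  rw [uEl, wval_im9, outHom_wval fun l hl => decide_eq_true_eq.mp (List.all_eq_true.1 out_vals.2.2 l hl),
    sameW_sound out_vals.1, wval_cons, wval_nil, mul_one, show (11 : ℕ) = 8 + 3 from rfl,
    imX_pow (by norm_num) (by norm_num)]
  rfl

theorem outHom_b : outHom (im9 1) = wval imX (repEl surv3) := by
  rw [im9_low (by norm_num), outHom, toGrp_im good_out (by norm_num), outIm, sameW_sound out_vals.2.1]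

theorem outHom_bijective : Function.Bijective outHom := by
  have hinj : Function.Injective outHom := by
    haveI := simple_he
    rcases Subgroup.Normal.eq_bot_or_eq_top (inferInstance : outHom.ker.Normal) with e | e
    · exact (MonoidHom.ker_eq_bot_iff _).1 e
    · exfalso
      have h : uEl ∈ outHom.ker := e ▸ Subgroup.mem_top _
      rw [MonoidHom.mem_ker, outHom_u] at h
      have := orderOf_dvd_of_pow_eq_one h
      rw [uEl_order] at this
      exact absurd (Nat.le_of_dvd (by norm_num) this) (by norm_num)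
  exact ⟨hinj, Finite.injective_iff_surjective.1 hinj⟩

/-- The outer automorphism. -/
noncomputable def outAut : MulAut Cfsg.Spor.He := MulEquiv.ofBijective outHom outHom_bijective

theorem outAut_apply (x : Cfsg.Spor.He) : outAut x = outHom x := by
  rw [outAut, MulEquiv.ofBijective_apply]

theorem outAut_outer : outAut ∉ Cfsg.Inn Cfsg.Spor.He := by
  rintro ⟨g, hg⟩
  have h1 : g * uEl * g⁻¹ = uEl ^ 3 := by
    have := DFunLike.congr_fun hg uEl
    rw [MulAut.conj_apply] at this
    rw [this, outAut_apply, outHom_u]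
  have hpow : ∀ n : ℕ, g ^ n * uEl * (g ^ n)⁻¹ = uEl ^ 3 ^ n := by
    intro n
    induction n with
    | zero => simp
    | succ n ih =>
      rw [pow_succ' g, show g * g ^ n * uEl * (g * g ^ n)⁻¹ = g * (g ^ n * uEl * (g ^ n)⁻¹) * g⁻¹ by group, ih,
        ← conj_pow, h1, ← pow_mul, ← pow_succ']
  have h2 := hpow (orderOf g)
  rw [pow_orderOf_eq_one, one_mul, inv_one, mul_one] at h2
  have h3 : 3 ^ orderOf g ≡ 1 [MOD 17] := by
    rw [← uEl_order, ← pow_eq_pow_iff_modEq, pow_one]
    exact h2.symm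
  refine not_sixteen_dvd g ?_
  have h4 : (3 : ZMod 17) ^ orderOf g = 1 := by
    have := (ZMod.natCast_eq_natCast_iff _ _ _).2 h3
    push_cast at this
    exact this
  have h5 : orderOf (3 : ZMod 17) = 16 := by
    haveI : Fact (Nat.Prime 2) := ⟨Nat.prime_two⟩
    exact orderOf_eq_prime_pow (p := 2) (n := 3) (by decide) (by decide)
  rw [← h5]
  exact orderOf_dvd_of_pow_eq_one h4

/-- The outer automorphism group has order two. -/
theorem card_out : Nat.card (Cfsg.Out Cfsg.Spor.He) = 2 := by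
  classical
  have hdich : ∀ q : Cfsg.Out Cfsg.Spor.He, q = ((1 : MulAut Cfsg.Spor.He) : Cfsg.Out Cfsg.Spor.He) ∨
      q = (outAut : Cfsg.Out Cfsg.Spor.He) := by
    intro q
    obtain ⟨φ, rfl⟩ := QuotientGroup.mk_surjective q
    obtain ⟨g, h | h⟩ := normal_form φ
    · left
      have e : MulAut.conj g * φ = 1 := aut_ext (h.1.trans rfl) (h.2.trans (by
        rw [sameW_sound gen_ok.2, wval_cons, wval_nil, mul_one, imX_low (by norm_num)]
        rfl))
      refine QuotientGroup.eq.2 ?_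
      rw [mul_one, inv_eq_of_mul_eq_one_left e]
      exact ⟨g, rfl⟩
    · right
      have e : MulAut.conj g * φ = outAut := aut_ext (by rw [h.1, outAut_apply, outHom_u])
        (by rw [h.2, outAut_apply, outHom_b])
      refine QuotientGroup.eq.2 ?_
      rw [← e, show φ⁻¹ * (MulAut.conj g * φ) = φ⁻¹ * MulAut.conj g * φ⁻¹⁻¹ by group]
      exact (Cfsg.innNormal _).conj_mem _ ⟨g, rfl⟩ φ⁻¹
  rw [Nat.card_eq_two_iff]
  refine ⟨((1 : MulAut Cfsg.Spor.He) : Cfsg.Out Cfsg.Spor.He), (outAut : Cfsg.Out Cfsg.Spor.He), fun h => ?_, ?_⟩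
  · refine outAut_outer ?_
    have := QuotientGroup.eq.1 h
    rwa [inv_one, one_mul] at this
  · ext q
    simpa using hdich q

end Cfsg.Lib.HePres
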