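import Cfsg.Agent.HePres.ClassB

/-!
Word checks for the automorphisms of the presented Held group.
-/

set_option autoImplicit false
set_option Elab.async false

namespace Cfsg.Lib.HePres

open Cfsg.Lib.CosetCert Cfsg.Lib.PermCert

theorem seventeen_ok : sameW (rpt 17 [9]) [] = true ∧ (evalW xTabs [9] 22 != 22) = true ∧
    sameW (invW normWord ++ [9] ++ normWord) [10] = true ∧ inX normWord = true := by decide +kernel

/-- A relation with the powers multiplied. -/
def relWord (k r : ℕ) (x : List ℕ) : List ℕ :=
  rpt 3 (x ++ [8 + (k * [1, 3, 6].getD r 1) % 17] ++ x ++ [8 + (k * [16, 7, 11].getD r 16) % 17])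

/-- Every candidate but one breaks a relation. -/
def killOK (k s : ℕ) (L : List (ℕ × ℕ)) : Bool :=
  (List.range 1470).all fun j => (j == s) ||
    (Nat.blt (L.getD j (3, 0)).1 3 && Nat.blt (L.getD j (3, 0)).2 2058 &&
      inX (relWord k (L.getD j (3, 0)).1 (repEl j)) &&
      (evalW xTabs (relWord k (L.getD j (3, 0)).1 (repEl j)) (L.getD j (3, 0)).2 != (L.getD j (3, 0)).2))

theorem kill_one : killOK 1 surv1 killW1 = true := by decide +kernel

theorem kill_three : killOK 3 surv3 killW3 = true := by decide +kernel

theorem rel_ok : ((List.range 3).all fun r => sameW (relWord 1 r [1]) []) = true := by decide +kernel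

theorem gen_ok : ((List.range 7).all fun l => sameW (genWords.getD l []) [l] &&
    (genWords.getD l []).all fun x => (x == 1) || (Nat.blt 8 x && Nat.blt x 25)) = true ∧
    sameW (repEl surv1) [1] = true := by decide +kernel

/-- A word in the letters after substitution. -/
def substW (w : List ℕ) : List ℕ := w.flatMap fun l => outWords.getD l []

theorem out_rel : (allWords.all fun w => sameW (substW w) []) = true := by decide +kernel

theorem out_vals : sameW (substW (expand uWord)) [11] = true ∧ sameW (outWords.getD 1 []) (repEl surv3) = true ∧
    ((expand uWord).all fun l => decide (l < 7)) = true := by decide +kernel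

end Cfsg.Lib.HePres
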