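import Cfsg.Agent.HePres.Letters
import Cfsg.Agent.HePres.C0Check
import Cfsg.Agent.HePres.C1Check
import Cfsg.Agent.HePres.C2Check
import Cfsg.Agent.HePres.C3Check
import Cfsg.Agent.HePres.C7Check
import Cfsg.Agent.CosetCert.Lower

/-!
Two small subgroups on which the action is faithful, and the relations they give.
-/

set_option autoImplicit false

namespace Cfsg.Lib.HePres

open Cfsg.Lib.CosetCert Cfsg.Lib.PermCert

/-- The letters chosen by a list. -/
def sel (Λ : List ℕ) (n : ℕ) : ℕ := Λ.getD n 0

/-- Their values. -/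
def imS (Λ : List ℕ) (n : ℕ) : Cfsg.Spor.He := im9 (sel Λ n)

theorem closure_imS (Λ : List ℕ) : Subgroup.closure (imS Λ '' Set.Iio Λ.length) = gp Λ := by
  refine congrArg Subgroup.closure (Set.ext fun x => ?_)
  constructor
  · rintro ⟨n, hn, rfl⟩
    exact ⟨_, by rw [sel, List.getD_eq_getElem _ _ hn]; exact List.getElem_mem _, rfl⟩
  · rintro ⟨l, hl, rfl⟩
    obtain ⟨n, hn, rfl⟩ := List.getElem_of_mem hl
    exact ⟨n, hn, by rw [imS, sel, List.getD_eq_getElem _ _ hn]⟩

/-- The bound from one certificate. -/
theorem step_bound {C : Cert} {R : List (List ℕ)} (hC : C.Valid R) (Λ : List ℕ) (hng : C.ng = Λ.length)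
    (hone : ∀ r ∈ R, wval im9 (r.map (sel Λ)) = 1)
    (hlet : (R.all fun r => r.all fun l => decide (l < Λ.length)) = true)
    (hsq : ∀ l < Λ.length, wval im9 [sel Λ l, sel Λ l] = 1) {K : Subgroup Cfsg.Spor.He} [Finite K]
    (hsub : ∀ s ∈ C.subs, imS Λ s ∈ K) :
    Finite (gp Λ) ∧ Nat.card (gp Λ) ≤ C.fin.length * Nat.card K := by
  have hR : ∀ r ∈ R, wval (imS Λ) r = 1 := fun r hr => by
    have := hone r hr
    rwa [wval, List.map_map] at this
  have hinv : ∀ l, l < Λ.length → imS Λ l * imS Λ l = 1 := fun l hl => by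
    have := hsq l hl
    simpa [wval, imS] using this
  refine card_le C (imS Λ) hC (fun l hl => hinv l (hng ▸ hl)) hR (fun r hr l hl => hinv l ?_) hsub
    (by rw [hng, closure_imS])
  exact decide_eq_true_eq.mp (List.all_eq_true.1 (List.all_eq_true.1 hlet r hr) l hl)

theorem hom_wval {G H : Type*} [Group G] [Group H] (f : G →* H) (g : ℕ → G) (w : List ℕ) :
    f (wval g w) = wval (fun n => f (g n)) w := by
  rw [wval, map_list_prod, List.map_map]
  rfl

/-- A chain as long as the bound makes the action faithful. -/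
theorem faithful_of_chain {S : Subgroup Cfsg.Spor.He} {N : ℕ} (hS : Finite S ∧ Nat.card S ≤ N) {c : List Lev}
    (hc : chainOK sigTabs 2058 9 c = true) (hsz : chainSize c = N)
    (hg : ∀ K ∈ c, ∀ w ∈ K.gens, wval im9 w ∈ S) :
    Nat.card S = N ∧ ∀ x ∈ S, psi x = 1 → x = 1 := by
  haveI := hS.1
  let f : S →* S.map psi := psi.subgroupMap S
  have hf : Function.Surjective f := psi.subgroupMap_surjective S
  haveI : Finite (S.map psi) := Finite.of_surjective f hf
  have h1 : N ≤ Nat.card (S.map psi) := hsz ▸ chain_bound (fun n => psi (im9 n)) (MonoidHom.id _) sigTabs psi_im9 c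
    (S.map psi) hc inferInstance (fun K hK w hw => ⟨_, hg K hK w hw, hom_wval psi im9 w⟩)
  have h2 := Nat.card_le_card_of_surjective f hf
  have hb : Function.Bijective f :=
    (Nat.bijective_iff_surjective_and_card f).2 ⟨hf, by have := hS.2; omega⟩
  refine ⟨by have := hS.2; omega, fun x hx h => ?_⟩
  have := hb.1 (a₁ := ⟨x, hx⟩) (a₂ := 1) (Subtype.ext (by
    show psi x = ((f 1 : S.map psi) : Equiv.Perm (Fin 2058))
    rw [h, map_one]
    rfl))
  exact congrArg Subtype.val this

/-- One of the given relators. -/
def baseB (w : List ℕ) : Bool := words.contains w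

theorem baseB_sound {w : List ℕ} (h : baseB w = true) : wval im9 w = 1 := by
  rw [baseB, List.contains_iff_mem] at h
  have hl : ∀ l ∈ w, l < 7 := by
    have : (words.all fun v => v.all fun l => decide (l < 7)) = true := by decide +kernel
    exact fun l hl => decide_eq_true_eq.mp (List.all_eq_true.1 (List.all_eq_true.1 this w h) l hl)
  rw [wval_im9, expand_low hl]
  rcases List.mem_cons.1 h with rfl | h
  · rfl
  · exact good_im w h

/-- The letters of the first faithful subgroup. -/
def lamA : List ℕ := [0, 1, 2, 3, 4]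
/-- The letters of the second. -/
def lamX : List ℕ := [0, 2, 3, 4, 5, 6]

theorem gens_ok : ((chainA.all fun K => K.gens.all (lettersIn lamA)) &&
    (chainX.all fun K => K.gens.all (lettersIn lamX))) = true := by decide +kernel

theorem chains_ok : chainOK sigTabs 2058 9 chainA = true ∧ chainSize chainA = 15120 ∧
    chainOK sigTabs 2058 9 chainX = true ∧ chainSize chainX = 80640 := by decide +kernel

theorem rels0 : (C0.rels.all fun r => baseB (r.map (sel [0, 1, 2, 4]))) = true ∧
    (C0.rels.all fun r => r.all fun l => decide (l < 4)) = true ∧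
    ((List.range 4).all fun l => C0.rels.contains [l, l]) = true := by decide +kernel

theorem rels1 : (C1.rels.all fun r => baseB (r.map (sel lamA))) = true ∧
    (C1.rels.all fun r => r.all fun l => decide (l < 5)) = true ∧
    ((List.range 5).all fun l => C1.rels.contains [l, l]) = true := by decide +kernel

theorem sq_of {R : List (List ℕ)} {n : ℕ} {Λ : List ℕ}
    (h : ((List.range n).all fun l => R.contains [l, l]) = true) (hR : ∀ r ∈ R, wval im9 (r.map (sel Λ)) = 1) :
    ∀ l < n, wval im9 [sel Λ l, sel Λ l] = 1 := fun l hl =>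
  hR [l, l] (List.contains_iff_mem.1 (List.all_eq_true.1 h l (List.mem_range.2 hl)))

theorem factA : Nat.card (gp lamA) = 15120 ∧ ∀ x ∈ gp lamA, psi x = 1 → x = 1 := by
  have h0 := step_bound C0.valid [0, 1, 2, 4] rfl (fun r hr => baseB_sound (List.all_eq_true.1 rels0.1 r hr))
    rels0.2.1 (sq_of rels0.2.2 (fun r hr => baseB_sound (List.all_eq_true.1 rels0.1 r hr))) (K := ⊥) (by simp [C0.cert])
  haveI := h0.1
  have h1 := step_bound C1.valid lamA rfl (fun r hr => baseB_sound (List.all_eq_true.1 rels1.1 r hr))
    rels1.2.1 (sq_of rels1.2.2 (fun r hr => baseB_sound (List.all_eq_true.1 rels1.1 r hr))) (K := gp [0, 1, 2, 4]) (fun s hs => by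
      simp only [C1.cert, List.mem_cons, List.mem_nil_iff, or_false] at hs
      rcases hs with rfl | rfl | rfl | rfl <;> exact gp_mem (by decide))
  rw [C1.fins_length] at h1
  have hc := h0.2
  rw [C0.fins_length, Subgroup.card_bot] at hc
  refine faithful_of_chain ⟨h1.1, h1.2.trans (by omega)⟩ chains_ok.1 chains_ok.2.1 fun K hK w hw => gp_wval ?_
  exact List.all_eq_true.1 (List.all_eq_true.1 (Bool.and_eq_true_iff.1 gens_ok).1 K hK) w hw

/-- The word is trivial by the first subgroup. -/
def okA (w : List ℕ) : Bool := lettersIn lamA (expand w) && trivB w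

theorem okA_sound {w : List ℕ} (h : okA w = true) : wval im9 w = 1 := by
  rw [okA, Bool.and_eq_true] at h
  refine factA.2 _ ?_ (trivB_sound h.2)
  have hl : ∀ l ∈ expand w, l < 7 := fun l hl => by
    have := List.all_eq_true.1 h.1 l hl
    rw [List.contains_iff_mem] at this
    simp only [lamA, List.mem_cons, List.mem_nil_iff, or_false] at this
    omega
  have := gp_wval h.1
  rwa [wval_im9 (expand w), expand_low hl, ← wval_im9] at this

/-- A given relator, or trivial by the first subgroup. -/
def ok1 (w : List ℕ) : Bool := baseB w || okA w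

theorem ok1_sound {w : List ℕ} (h : ok1 w = true) : wval im9 w = 1 :=
  (Bool.or_eq_true_iff.1 h).elim baseB_sound okA_sound

theorem rels2 : (C2.rels.all fun r => ok1 (r.map (sel [0, 2, 3, 4]))) = true ∧
    (C2.rels.all fun r => r.all fun l => decide (l < 4)) = true ∧
    ((List.range 4).all fun l => C2.rels.contains [l, l]) = true := by decide +kernel

theorem rels3 : (C3.rels.all fun r => ok1 (r.map (sel lamX))) = true ∧
    (C3.rels.all fun r => r.all fun l => decide (l < 6)) = true ∧
    ((List.range 6).all fun l => C3.rels.contains [l, l]) = true := by decide +kernel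

theorem card_acde : Finite (gp [0, 2, 3, 4]) ∧ Nat.card (gp [0, 2, 3, 4]) ≤ 120 := by
  have h := step_bound C2.valid [0, 2, 3, 4] rfl (fun r hr => ok1_sound (List.all_eq_true.1 rels2.1 r hr))
    rels2.2.1 (sq_of rels2.2.2 (fun r hr => ok1_sound (List.all_eq_true.1 rels2.1 r hr))) (K := ⊥) (by simp [C2.cert])
  rw [C2.fins_length, Subgroup.card_bot] at h
  exact ⟨h.1, by have := h.2; omega⟩

theorem factX : Nat.card (gp lamX) = 80640 ∧ ∀ x ∈ gp lamX, psi x = 1 → x = 1 := by
  haveI := card_acde.1
  have h1 := step_bound C3.valid lamX rfl (fun r hr => ok1_sound (List.all_eq_true.1 rels3.1 r hr))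
    rels3.2.1 (sq_of rels3.2.2 (fun r hr => ok1_sound (List.all_eq_true.1 rels3.1 r hr))) (K := gp [0, 2, 3, 4]) (fun s hs => by
      simp only [C3.cert, List.mem_cons, List.mem_nil_iff, or_false] at hs
      rcases hs with rfl | rfl | rfl | rfl <;> exact gp_mem (by decide))
  rw [C3.fins_length] at h1
  have hc := card_acde.2
  refine faithful_of_chain ⟨h1.1, h1.2.trans (by omega)⟩ chains_ok.2.2.1 chains_ok.2.2.2 fun K hK w hw => gp_wval ?_
  exact List.all_eq_true.1 (List.all_eq_true.1 (Bool.and_eq_true_iff.1 gens_ok).2 K hK) w hw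

/-- The word is trivial by the second subgroup. -/
def okX (w : List ℕ) : Bool := lettersIn lamX w && trivB w

theorem okX_sound {w : List ℕ} (h : okX w = true) : wval im9 w = 1 := by
  rw [okX, Bool.and_eq_true] at h
  exact factX.2 _ (gp_wval h.1) (trivB_sound h.2)

/-- The word got by the trace. -/
def traceWord : List ℕ := C7.trace.map fun r => C7.cert.el (r / 2)

theorem trace_ok : C7.cert.walk C7.allSteps.length C7.trace 0 0 = some (0, wcode traceWord) ∧
    (traceWord.all fun l => decide (l < 7)) = true ∧ isId 2058 (traceWord.map fun l => sigTabs.getD l (0, 0)) = true ∧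
    (C7.rels.all fun r => baseB r) = true ∧ ((List.range 7).all fun l => C7.rels.contains [l, l]) = true ∧
    (C7.rels.all fun r => r.all fun l => decide (l < 7)) = true := by decide +kernel

theorem trace_one : wval im traceWord = 1 := by
  obtain ⟨hw, hl, hid, hR, hsq, hlet⟩ := trace_ok
  simp only [List.all_eq_true, decide_eq_true_eq] at hl hlet
  have hR' : ∀ r ∈ C7.rels, wval im r = 1 := fun r hr => by
    rw [← expand_low (fun l hl => hlet r hr l hl), ← wval_im9]
    exact baseB_sound (List.all_eq_true.1 hR r hr)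
  have hinv : ∀ l, l < 7 → im l * im l = 1 := fun l hl => good_im.inv hl
  have hold := steps_sound C7.cert im (K := gp lamX) (by decide) hinv C7.spec_ok hR'
    (fun r hr l hl => hinv l (hlet r hr l hl)) (fun s hs => by
      simp only [C7.cert, List.mem_cons, List.mem_nil_iff, or_false] at hs
      rcases hs with rfl | rfl | rfl | rfl | rfl | rfl <;>
        (rw [← im9_low (by norm_num)]; exact gp_mem (by decide)))
    C7.allSteps 0 C7.allSteps_ok.1 C7.allSteps_ok.2 (by omega)
  obtain ⟨v, hvl, hvc, hmem⟩ := walk_sound C7.cert im (K := gp lamX) (bound := C7.allSteps.length) (by decide) hinv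
    (fun i hi => hold i (by omega)) C7.trace 0 0 [] (by simp) (by
      have : C7.cert.rep im 0 = 1 := by rw [Cert.rep, dif_neg (by omega)]
      simp [this, wval]) _ (by rw [show wcode ([] : List ℕ) = 0 from rfl]; exact hw)
  rw [wcode_inj hvl (fun l h => Nat.lt_trans (hl l h) (by norm_num)) hvc.symm] at hmem
  have h0 : C7.cert.rep im 0 = 1 := by rw [Cert.rep, dif_neg (by omega)]
  rw [h0] at hmem
  simp only [one_mul, inv_one, mul_one] at hmem
  refine factX.2 _ hmem ?_
  rw [psi_wval hl]
  refine isId_sound (fun g hg => ?_) hid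
  obtain ⟨l, hl', rfl⟩ := List.mem_map.1 hg
  exact List.all_eq_true.1 tabs_valid l (List.mem_range.2 (Nat.lt_trans (hl l hl') (by norm_num)))

/-- Cancel repeated neighbours. -/
def cancel2 : List ℕ → List ℕ
  | [] => []
  | x :: w => match cancel2 w with
    | [] => [x]
    | y :: r => if x = y then r else x :: y :: r

theorem cancel2_sound : ∀ {w : List ℕ}, (∀ l ∈ w, im l * im l = 1) → wval im (cancel2 w) = wval im w
  | [], _ => rfl
  | x :: w, h => by
    have ih := cancel2_sound (w := w) fun l hl => h l (List.mem_cons_of_mem x hl)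
    simp only [cancel2]
    split
    · next e => rw [e] at ih; rw [wval_cons, wval_cons, ← ih]
    · next y r e =>
      rw [e] at ih
      split_ifs with hxy
      · rw [wval_cons im x w, ← ih, wval_cons, hxy, ← mul_assoc, ← hxy, h x List.mem_cons_self, one_mul]
      · rw [wval_cons im x (y :: r), wval_cons im x w, ih]

/-- The relation found by the trace. -/
def extraRel : List ℕ := [4, 5, 8, 5, 8, 4, 8, 5, 8]

theorem extraRel_form : cancel2 ((expand extraRel).rotate 50) = traceWord ∧
    ((expand extraRel).all fun l => decide (l < 7)) = true := by decide +kernel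

theorem extraRel_one : wval im9 extraRel = 1 := by
  have h := trace_one
  have hl : ∀ l ∈ expand extraRel, l < 7 := fun l hl =>
    decide_eq_true_eq.mp (List.all_eq_true.1 extraRel_form.2 l hl)
  rw [← extraRel_form.1, cancel2_sound (fun l h => good_im.inv (hl l (List.mem_rotate.1 h)))] at h
  rw [wval_im9]
  have := wval_rotate im h ((expand extraRel).length - 50)
  rwa [List.rotate_rotate, show 50 + ((expand extraRel).length - 50) = (expand extraRel).length by decide +kernel,
    List.rotate_length] at this

theorem ft_one : wval im9 [5, 7, 5, 7] = 1 := by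
  have hp : ∀ x y : ℕ, x < 7 → y < 7 → Cfsg.Spor.coxLabel Cfsg.Spor.He.edges (genOf x) (genOf y) = 2 →
      Commute (im x) (im y) := fun x y hx hy h => by
    have e := good_im.pair hx hy
    rw [h, sq] at e
    show im x * im y = im y * im x
    rw [← inv_eq_of_mul_eq_one_left e, mul_inv_rev, inv_eq_of_mul_eq_one_left (good_im.inv hx),
      inv_eq_of_mul_eq_one_left (good_im.inv hy)]
  have c0 := hp 5 0 (by norm_num) (by norm_num) (by decide +kernel)
  have c1 := hp 5 1 (by norm_num) (by norm_num) (by decide +kernel)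
  have ht : im9 7 = (im 0 * im 1) * (im 0 * im 1) := by
    simp [im9, expandL, wval, mul_assoc]
  have hc : Commute (im 5) (im9 7) := ht ▸ (c0.mul_right c1).mul_right (c0.mul_right c1)
  have hsq : im9 7 * im9 7 = 1 := by
    have := okA_sound (w := [7, 7]) (by decide +kernel)
    simpa [wval] using this
  simp only [wval_cons, wval_nil, mul_one, im9_low (show 5 < 7 by norm_num)]
  calc im 5 * (im9 7 * (im 5 * im9 7)) = im 5 * (im 5 * (im9 7 * im9 7)) := by
        rw [← mul_assoc (im9 7), ← hc.eq, mul_assoc]
    _ = 1 := by rw [hsq, mul_one, good_im.inv (by norm_num)]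

end Cfsg.Lib.HePres
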